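import Groth.Agent.SGA6Ext.PullExt
import Groth.Agent.SGA6Ext.Model
import Groth.Agent.DCohLocus.FreeLocus
import Groth.Agent.CurveRR.TmapR
import Groth.Agent.DQCoh.RelTensor

/-!
Exterior powers of the kernel of a line quotient of a free module.
-/

set_option autoImplicit false
set_option linter.unusedSectionVars false
set_option linter.style.haveILetI false
set_option backward.isDefEq.respectTransparency false
set_option backward.isDefEq.respectTransparency.types false
set_option maxHeartbeats 1000000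

universe u

open CategoryTheory CategoryTheory.Limits AlgebraicGeometry TopologicalSpace Opposite

noncomputable section

namespace Groth.Agent.PnReg

open SGA6Ext

variable {X : Scheme.{u}}

theorem isZero_middle {S : ShortComplex X.Modules} (hS : S.ShortExact) (h₁ : IsZero S.X₁) (h₃ : IsZero S.X₃) :
    IsZero S.X₂ :=
  hS.exact.isZero_X₂ (h₁.eq_of_src _ _) (h₃.eq_of_tgt _ _)

theorem isZero_tensor_right {L : X.Modules} (hL : IsZero L) (M : X.Modules) : IsZero (CohB1.tensorMod M L) := by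
  refine IsZero.of_iso ?_ (TMul.commIso M L)
  exact (IsZero.iff_id_eq_zero _).2 (by rw [← CohFinite.tmap_id, (IsZero.iff_id_eq_zero _).1 hL, CohFinite.tmap_zero])

/-- Exterior powers of a line bundle vanish above degree one. -/
theorem isZero_extSh_line {L : X.Modules} (hL : FlatMod.IsFinLocFreeOfRank 1 L) {k : ℕ} (hk : 2 ≤ k) :
    IsZero (extSh L k) := by
  refine isZero_of_rank_zero (W7Strat.isFinLocFreeOfRank_of_frames fun x => ?_)
  obtain ⟨U, n, e, hx, he⟩ := TMul.exists_isFrame (finLocFree_of_rank hL) x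
  have hn : n = 1 := (rk_of_frame he hx).symm.trans (rk_of_rank hL x)
  subst hn
  obtain ⟨f, hf⟩ := exists_frame_extSh L k he
  have h0 : Nat.choose 1 k = 0 := Nat.choose_eq_zero_of_lt (by omega)
  revert f
  rw [h0]
  exact fun f hf => ⟨U, f, hx, hf⟩

/-- Exterior powers of a free module are free. -/
theorem nonempty_extSh_free {E : X.Modules} {N : ℕ} (e : E ≅ FlatMod.freeMod X N) (k : ℕ) :
    Nonempty (extSh E k ≅ FlatMod.freeMod X (N.choose k)) := by
  obtain ⟨f, hf⟩ := exists_frame_extSh E k (W7Strat.isFrame_app e.symm (W7Strat.isFrame_freeMod X N))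
  obtain ⟨i⟩ := W7Strat.nonempty_iso_free (𝟙 X) le_top hf
  exact ⟨((Scheme.Modules.restrictFunctorId).app _).symm ≪≫ i⟩

/-- The sequences of exterior powers of a line quotient of a free module. -/
theorem exists_koszul {N : ℕ} {E L : X.Modules} (e : E ≅ FlatMod.freeMod X (N + 1))
    (hL : FlatMod.IsFinLocFreeOfRank 1 L) (q : E ⟶ L) [Epi q] :
    ∃ K : ℕ → X.Modules, (∀ i, FlatMod.IsFinLocFree (K i)) ∧ Nonempty (K 0 ≅ Coh.structureModule X) ∧
      (IsZero (CohB1.tensorMod (K (N + 1)) L)) ∧ ∀ i, ∃ S : ShortComplex X.Modules, S.ShortExact ∧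
        Nonempty (S.X₁ ≅ K (i + 1)) ∧ Nonempty (S.X₂ ≅ FlatMod.freeMod X ((N + 1).choose (i + 1))) ∧
        Nonempty (S.X₃ ≅ CohB1.tensorMod (K i) L) := by
  have hfree : FlatMod.IsFinLocFree (FlatMod.freeMod X (N + 1)) :=
    ResDesc.isFinLocFree_of_frames fun x => ⟨⊤, _, _, trivial, W7Strat.isFrame_freeMod X (N + 1)⟩
  have hE : FlatMod.IsFinLocFree E := DQCoh.isFinLocFree_of_iso' e.symm hfree
  have hLf := finLocFree_of_rank hL
  have hM : FlatMod.IsFinLocFree (kernel q) := DCohLocus.isFinLocFree_kernel q hE hLf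
  let S₀ := ShortComplex.mk (kernel.ι q) q (kernel.condition q)
  have hS₀ : S₀.ShortExact := { exact := ShortComplex.exact_kernel q }
  choose φM hφM using fun k => isExtPow_extSh (kernel q) k hM
  choose φE hφE using fun k => isExtPow_extSh E k hE
  choose φL hφL using fun k => isExtPow_extSh L k hLf
  let D : Sys S₀ :=
    { L' := fun k => extSh (kernel q) k, L := fun k => extSh E k, L'' := fun k => extSh L k
      φ' := φM, φ := φE, φ'' := φL
      hφ' := hφM, hφ := hφE, hφ'' := hφL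
      hL' := fun k => isFinLocFree_extSh _ k hM, hL := fun k => isFinLocFree_extSh _ k hE
      hL'' := fun k => isFinLocFree_extSh _ k hLf
      hS := hS₀, h₁ := hM, h₂ := hE, h₃ := hLf }
  obtain ⟨φ₀, hφ₀⟩ := isExtPow_zero L
  obtain ⟨a₀⟩ := nonempty_iso_of_phi (φ := φL 0) (hφL 0) (φ' := φ₀) hφ₀
  obtain ⟨φ₁, hφ₁⟩ := isExtPow_one L
  obtain ⟨a₁⟩ := nonempty_iso_of_phi (φ := φL 1) (hφL 1) (φ' := φ₁) hφ₁
  have hQ0 : ∀ n k, k + 1 ≤ n → IsZero (Q D n k) := fun n k => by
    induction k with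
    | zero => exact fun _ => isZero_Q_zero D n
    | succ k ih =>
      intro hk
      exact isZero_middle (shortExact_gr D n k (by omega))
        (isZero_tensor_right (isZero_extSh_line hL (by omega)) _) (ih (by omega))
  have hiso : ∀ i, Nonempty (CohB1.tensorMod (extSh (kernel q) i) L ≅ Q D (i + 1) (i + 1)) := fun i => by
    haveI := (shortExact_gr D (i + 1) i (by omega)).mono_f
    haveI : Epi (gamma D (i + 1) i) :=
      (shortExact_gr D (i + 1) i (by omega)).exact.epi_f ((hQ0 (i + 1) i le_rfl).eq_of_tgt _ _)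
    haveI : IsIso (gamma D (i + 1) i) := isIso_of_mono_of_epi _
    exact ⟨PicGrp.tensorModIso (Iso.refl _) (a₁.symm ≪≫ eqToIso (by rw [Nat.add_sub_cancel_left])) ≪≫
      asIso (gamma D (i + 1) i)⟩
  have key : ∀ i, ∃ S : ShortComplex X.Modules, S.ShortExact ∧
      Nonempty (S.X₁ ≅ extSh (kernel q) (i + 1)) ∧ Nonempty (S.X₂ ≅ FlatMod.freeMod X ((N + 1).choose (i + 1))) ∧
        Nonempty (S.X₃ ≅ CohB1.tensorMod (extSh (kernel q) i) L) := fun i => by
    haveI : IsIso (prj D (i + 1) (i + 1 + 1)) := cokernel.π_of_zero (psi_eq_zero D (i + 1))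
    obtain ⟨f⟩ := nonempty_extSh_free e (i + 1)
    obtain ⟨g⟩ := hiso i
    refine ⟨_, shortExact_gr D (i + 1) (i + 1) le_rfl, ⟨?_⟩, ⟨(asIso (prj D (i + 1) (i + 1 + 1))).symm ≪≫ f⟩, ⟨g.symm⟩⟩
    exact PicGrp.tensorModIso (Iso.refl _) (eqToIso (by rw [Nat.sub_self]) ≪≫ a₀) ≪≫
      TMul.commIso _ (Coh.structureModule X) ≪≫ TMul.leftUnitIso _
  obtain ⟨ψ₀, hψ₀⟩ := isExtPow_zero (kernel q)
  refine ⟨fun k => extSh (kernel q) k, D.hL', nonempty_iso_of_phi (φ := φM 0) (hφM 0) (φ' := ψ₀) hψ₀, ?_, key⟩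
  obtain ⟨S, hS, -, ⟨a⟩, ⟨b⟩⟩ := key (N + 1)
  have hz : IsZero (FlatMod.freeMod X ((N + 1).choose (N + 1 + 1))) := by
    rw [Nat.choose_eq_zero_of_lt (by omega), IsZero.iff_id_eq_zero]
    exact Sigma.hom_ext _ _ fun i => i.elim0
  haveI := hS.epi_g
  exact IsZero.of_iso (IsZero.of_epi S.g (hz.of_iso a)) b.symm

/-- Tensoring with a locally free module is exact. -/
theorem shortExact_tensor {E : X.Modules} (hE : FlatMod.IsFinLocFree E) {S : ShortComplex X.Modules}
    (hS : S.ShortExact) :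
    (ShortComplex.mk (CohFinite.tmap S.f E) (CohFinite.tmap S.g E)
      (by rw [← CohFinite.tmap_comp, S.zero, CohFinite.tmap_zero])).ShortExact := by
  refine CurveRR.shortExact_tmapR (fun {U x} hx => ?_) hS
  obtain ⟨W, n, e, hxW, he⟩ := TMul.exists_isFrame hE x
  exact ⟨U ⊓ W, inf_le_left, n, _, ⟨hx, hxW⟩, W7Strat.isFrame_res he inf_le_right⟩

/-- A module with the sums of copies. -/
theorem rel_free_tensor {Pp : ObjectProperty X.Modules} (hzero : ∀ M, IsZero M → Pp M)
    (hiso : ∀ {M N : X.Modules}, (M ≅ N) → Pp M → Pp N)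
    (hext : ∀ {S : ShortComplex X.Modules}, S.ShortExact → Pp S.X₁ → Pp S.X₃ → Pp S.X₂)
    {A : Type*} [AddCommGroup A] (f : X.Modules → A)
    (hadd : ∀ {S : ShortComplex X.Modules}, S.ShortExact → Pp S.X₁ → Pp S.X₂ → Pp S.X₃ → f S.X₂ = f S.X₁ + f S.X₃)
    (hfiso : ∀ {M N : X.Modules}, (M ≅ N) → Pp M → f M = f N)
    {E : X.Modules} (hE : FlatMod.IsFinLocFree E) (hPE : Pp E) (C : ℕ) :
    Pp (CohB1.tensorMod (FlatMod.freeMod X C) E) ∧ f (CohB1.tensorMod (FlatMod.freeMod X C) E) = (C : ℤ) • f E := by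
  induction C with
  | zero =>
    have hz : IsZero (CohB1.tensorMod (FlatMod.freeMod X 0) E) :=
      IsZero.of_iso (isZero_tensor_right (by
        rw [IsZero.iff_id_eq_zero]
        exact Sigma.hom_ext _ _ fun i => i.elim0) E) (TMul.commIso _ _)
    have h1 : (ShortComplex.mk (0 : CohB1.tensorMod (FlatMod.freeMod X 0) E ⟶ _)
        (0 : CohB1.tensorMod (FlatMod.freeMod X 0) E ⟶ CohB1.tensorMod (FlatMod.freeMod X 0) E) zero_comp).ShortExact :=
      { exact := ShortComplex.exact_of_isZero_X₂ _ hz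
        mono_f := ⟨fun _ _ _ => hz.eq_of_tgt _ _⟩
        epi_g := ⟨fun _ _ _ => hz.eq_of_src _ _⟩ }
    refine ⟨hzero _ hz, ?_⟩
    rw [Nat.cast_zero, zero_smul]
    exact left_eq_add.1 (hadd h1 (hzero _ hz) (hzero _ hz) (hzero _ hz))
  | succ C ih =>
    let S := ShortComplex.mk (biprod.inl : Coh.structureModule X ⟶ _ ⊞ FlatMod.freeMod X C) biprod.snd biprod.inl_snd
    have hS : S.ShortExact :=
      (ShortComplex.Splitting.ofHasBinaryBiproduct (Coh.structureModule X) (FlatMod.freeMod X C)).shortExact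
    have hT := shortExact_tensor hE hS
    let i : CohB1.tensorMod S.X₂ E ≅ CohB1.tensorMod (FlatMod.freeMod X (C + 1)) E :=
      PicGrp.tensorModIso (DQCoh.sigmaSuccIso fun _ : Fin (C + 1) => Coh.structureModule X).symm (Iso.refl E)
    have p₁ : Pp (CohB1.tensorMod S.X₁ E) := hiso (TMul.leftUnitIso E).symm hPE
    have p₂ : Pp (CohB1.tensorMod S.X₂ E) := hext hT p₁ ih.1
    refine ⟨hiso i p₂, ?_⟩
    rw [← hfiso i p₂]
    refine (hadd hT p₁ p₂ ih.1).trans ?_
    rw [show f (CohB1.tensorMod S.X₁ E) = f E from hfiso (TMul.leftUnitIso E) p₁,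
      show f (CohB1.tensorMod S.X₃ E) = (C : ℤ) • f E from ih.2]
    push_cast
    rw [add_smul, one_smul, add_comm]

end Groth.Agent.PnReg
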