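import Groth.Prelude.Def_CohBC2
import Mathlib.AlgebraicGeometry.Modules.Sheaf

/-!
The two forms of the base change morphism in degree zero agree.
-/

set_option autoImplicit false
set_option linter.style.haveILetI false
set_option backward.isDefEq.respectTransparency false
set_option backward.isDefEq.respectTransparency.types false

universe u

open CategoryTheory CategoryTheory.Limits AlgebraicGeometry

noncomputable section

namespace Groth.Agent.PnReg

open Scheme.Modules in
theorem homEquiv_comp {X Y Z : Scheme.{u}} (a : X ⟶ Y) (b : Y ⟶ Z) {M : Z.Modules} {N : X.Modules}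
    (φ : (Scheme.Modules.pullback (a ≫ b)).obj M ⟶ N) :
    (pullbackPushforwardAdjunction b).homEquiv _ _ ((pullbackPushforwardAdjunction a).homEquiv _ _
        ((pullbackComp a b).hom.app M ≫ φ)) ≫ (pushforwardComp a b).hom.app N =
      (pullbackPushforwardAdjunction (a ≫ b)).homEquiv _ _ φ := by
  have h := unit_conjugateEquiv ((pullbackPushforwardAdjunction b).comp (pullbackPushforwardAdjunction a))
    (pullbackPushforwardAdjunction (a ≫ b)) (pullbackComp a b).inv M
  rw [conjugateEquiv_pullbackComp_inv] at h
  have hψ : φ = (pullbackComp a b).inv.app M ≫ ((pullbackComp a b).hom.app M ≫ φ) := by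
    rw [← Category.assoc, Iso.inv_hom_id_app, Category.id_comp]
  conv_rhs => rw [hψ]
  rw [Adjunction.homEquiv_unit (pullbackPushforwardAdjunction (a ≫ b)), Functor.map_comp, ← Category.assoc,
    ← h, Category.assoc]
  rw [← (pushforwardComp a b).hom.naturality ((pullbackComp a b).hom.app M ≫ φ), ← Category.assoc]
  congr 1

open Scheme.Modules in
theorem homEquiv_congr {X Y : Scheme.{u}} {a b : X ⟶ Y} (h : a = b) {M : Y.Modules} {N : X.Modules}
    (φ : (Scheme.Modules.pullback b).obj M ⟶ N) :
    (pullbackPushforwardAdjunction a).homEquiv _ _ ((pullbackCongr h).hom.app M ≫ φ) ≫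
        (pushforwardCongr h).hom.app N = (pullbackPushforwardAdjunction b).homEquiv _ _ φ := by
  subst h
  have h1 : (pushforwardCongr (rfl : a = a)).hom.app N = 𝟙 _ := Scheme.Modules.hom_ext _ _ fun U => by
    simp
  rw [h1, Category.comp_id]
  simp [pullbackCongr]

variable {X S X' S' : Scheme.{u}} (f : X ⟶ S) (g : S' ⟶ S) (f' : X' ⟶ S') (g' : X' ⟶ X)
  (w : g' ≫ f = f' ≫ g) (F : X.Modules)

open Scheme.Modules in
/-- The mate of the counit is the base change morphism. -/
theorem mate_eq_bc0 :
    (pullbackPushforwardAdjunction f').homEquiv _ _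
      ((pullbackComp f' g).hom.app ((pushforward f).obj F) ≫ (pullbackCongr w.symm).hom.app _ ≫
        (pullbackComp g' f).inv.app _ ≫ (Scheme.Modules.pullback g').map ((pullbackPushforwardAdjunction f).counit.app F)) =
      CohBC.bc0 f g f' g' w F := by
  refine (Equiv.eq_symm_apply _).2 ?_
  refine (cancel_mono ((pushforwardComp f' g).hom.app _)).1 ?_
  refine (homEquiv_comp f' g _).trans ?_
  refine (cancel_mono ((pushforwardCongr w.symm).hom.app _)).1 ?_
  refine (homEquiv_congr w.symm _).trans ?_
  rw [← homEquiv_comp g' f]
  have e1 : (pullbackComp g' f).hom.app ((pushforward f).obj F) ≫ (pullbackComp g' f).inv.app _ ≫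
      (Scheme.Modules.pullback g').map ((pullbackPushforwardAdjunction f).counit.app F) =
      (Scheme.Modules.pullback g').map ((pullbackPushforwardAdjunction f).counit.app F) := by
    rw [← Category.assoc, Iso.hom_inv_id_app, Category.id_comp]
  rw [e1]
  have e2 : (pullbackPushforwardAdjunction g').homEquiv _ _
      ((Scheme.Modules.pullback g').map ((pullbackPushforwardAdjunction f).counit.app F)) =
      (pullbackPushforwardAdjunction f).counit.app F ≫ (pullbackPushforwardAdjunction g').unit.app F := by
    rw [Adjunction.homEquiv_unit]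
    exact ((pullbackPushforwardAdjunction g').unit.naturality _).symm
  refine (congrArg (fun z => (pullbackPushforwardAdjunction f).homEquiv ((pushforward f).obj F)
    ((pushforward g').obj ((Scheme.Modules.pullback g').obj F)) z ≫
      (pushforwardComp g' f).hom.app ((Scheme.Modules.pullback g').obj F)) e2).trans ?_
  have e4 : (pullbackPushforwardAdjunction f).homEquiv ((pushforward f).obj F) _
      ((pullbackPushforwardAdjunction f).counit.app F ≫ (pullbackPushforwardAdjunction g').unit.app F) =
      (pushforward f).map ((pullbackPushforwardAdjunction g').unit.app F) := by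
    rw [Adjunction.homEquiv_unit, Functor.map_comp, ← Category.assoc,
      (pullbackPushforwardAdjunction f).right_triangle_components F]
    exact Category.id_comp _
  refine (congrArg (· ≫ (pushforwardComp g' f).hom.app ((Scheme.Modules.pullback g').obj F)) e4).trans ?_
  have e5 : (pushforwardComp f' g).inv.app ((Scheme.Modules.pullback g').obj F) ≫
      (pushforwardComp f' g).hom.app ((Scheme.Modules.pullback g').obj F) = 𝟙 _ := Iso.inv_hom_id_app _ _
  have e3 : (pushforwardCongr w).hom.app ((Scheme.Modules.pullback g').obj F) ≫
      (pushforwardCongr w.symm).hom.app ((Scheme.Modules.pullback g').obj F) = 𝟙 _ :=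
    Scheme.Modules.hom_ext _ _ fun U => by simp [← Functor.map_comp]
  simp only [CohBC.bc0Adj, Category.assoc]
  refine congrArg ((pushforward f).map _ ≫ ·) ?_
  refine Eq.trans (Category.comp_id _).symm (congrArg ((pushforwardComp g' f).hom.app _ ≫ ·) ?_)
  refine Eq.trans e3.symm (congrArg ((pushforwardCongr w).hom.app _ ≫ ·) ?_)
  exact ((congrArg (· ≫ (pushforwardCongr w.symm).hom.app _) e5).trans (Category.id_comp _)).symm.trans
    (Category.assoc _ _ _)

end Groth.Agent.PnReg
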