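import Groth.Agent.PnReg.Push
import Groth.Agent.PnReg.Mate
import Groth.Agent.SGA6Ext.Pull
import Groth.Agent.W7Strat.Crit
import Groth.Agent.W7Hull.PushOne

/-!
Base change for direct images of regular locally free sheaves.
-/

set_option autoImplicit false
set_option linter.unusedSectionVars false
set_option linter.style.haveILetI false
set_option backward.isDefEq.respectTransparency false
set_option backward.isDefEq.respectTransparency.types false
set_option maxHeartbeats 1000000

universe u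

open CategoryTheory CategoryTheory.Limits AlgebraicGeometry TopologicalSpace Opposite

noncomputable section

namespace Groth.Agent.PnReg

variable {n : ℕ} {T T₁ : Scheme.{u}} (φ : T₁ ⟶ T)

theorem map_fst :
    KRR.projSpaceMap n φ ≫ pullback.fst (CohB1.ProjSpace.toSpec n (ULift.{u} ℤ)) (specULiftZIsTerminal.from T) =
      pullback.fst (CohB1.ProjSpace.toSpec n (ULift.{u} ℤ)) (specULiftZIsTerminal.from T₁) :=
  (pullback.lift_fst _ _ _).trans (Category.comp_id _)

theorem isPullback_map : IsPullback (KRR.projSpaceMap n φ) (KRR.pr n T₁) (KRR.pr n T) φ := by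
  refine IsPullback.of_right ?_ (pullback.lift_snd _ _ _)
    (IsPullback.of_hasPullback (CohB1.ProjSpace.toSpec n (ULift.{u} ℤ)) (specULiftZIsTerminal.from T))
  rw [map_fst φ, show φ ≫ specULiftZIsTerminal.from T = specULiftZIsTerminal.from T₁ from
    specULiftZIsTerminal.hom_ext _ _]
  exact IsPullback.of_hasPullback _ _

theorem nonempty_pullback_twF (d : ℤ) (M : (CohB1.ProjSpaceOver n T).Modules) :
    Nonempty ((Scheme.Modules.pullback (KRR.projSpaceMap n φ)).obj (KRR.twF n T d M) ≅
      KRR.twF n T₁ d ((Scheme.Modules.pullback (KRR.projSpaceMap n φ)).obj M)) := by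
  obtain ⟨e⟩ := TMul.nonempty_pullTensorIso (KRR.projSpaceMap n φ) (Twist.twistOver n T d) M
  exact ⟨e.symm ≪≫ PicGrp.tensorModIso
    ((Scheme.Modules.pullbackComp _ _).app _ ≪≫ (Scheme.Modules.pullbackCongr (map_fst φ)).app _) (Iso.refl _)⟩

theorem isRegSheaf_of_iso {M N : (CohB1.ProjSpaceOver n T).Modules} (e : M ≅ N) (h : KRR.IsRegSheaf n T M) :
    KRR.IsRegSheaf n T N := fun i hi =>
  (h i hi).of_iso ((Coh.RpushAb (KRR.pr n T) i).mapIso ((SheafOfModules.toSheaf _).mapIso
    (PicGrp.tensorModIso (Iso.refl (Twist.twistOver n T (-(i : ℤ)))) e))).symm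

theorem isRegSheaf_of_isZero {M : (CohB1.ProjSpaceOver n T).Modules} (h : IsZero M) : KRR.IsRegSheaf n T M :=
  fun i _ => Functor.map_isZero _ ((SheafOfModules.toSheaf _).map_isZero (isZero_twF _ h))

/-- The inverse image of an inverse image from the base. -/
def pullPullIso (M : T.Modules) :
    (Scheme.Modules.pullback (KRR.projSpaceMap n φ)).obj ((Scheme.Modules.pullback (KRR.pr n T)).obj M) ≅
      (Scheme.Modules.pullback (KRR.pr n T₁)).obj ((Scheme.Modules.pullback φ).obj M) :=
  (Scheme.Modules.pullbackComp _ _).app _ ≪≫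
    (Scheme.Modules.pullbackCongr (pullback.lift_snd _ _ _)).app _ ≪≫
      ((Scheme.Modules.pullbackComp _ _).app _).symm

variable {F : (CohB1.ProjSpaceOver n T).Modules} (hF : FlatMod.IsFinLocFree F) (hreg : KRR.IsRegSheaf n T F)

include hF hreg in
theorem isRegSheaf_pullback_iterK : ∀ k i : ℕ, n < i + k →
    KRR.IsRegSheaf n T₁ ((Scheme.Modules.pullback (KRR.projSpaceMap n φ)).obj (iterK F i)) := by
  intro k
  induction k with
  | zero =>
    exact fun i hi => isRegSheaf_of_isZero
      ((Scheme.Modules.pullback _).map_isZero (isZero_iterK (isQCoh_of_finLocFree hF) hreg (by omega)))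
  | succ k ih =>
    intro i hi
    let ψ := KRR.projSpaceMap n φ
    let adj := Scheme.Modules.pullbackPushforwardAdjunction (KRR.pr n T)
    obtain ⟨hq, hr⟩ := iterK_spec (isQCoh_of_finLocFree hF) hreg i
    have hK := isFinLocFree_iterK hF hreg i
    haveI := epi_counit hq hr
    have hpp := DerPerf.isFinLocFree_pullback (KRR.pr n T) (isFinLocFree_push hK hr)
    have hker : FlatMod.IsFinLocFree (Ker (iterK F i)) := DCohLocus.isFinLocFree_kernel _ hpp hK
    let S := ShortComplex.mk (kernel.ι (adj.counit.app (iterK F i))) (adj.counit.app (iterK F i)) (kernel.condition _)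
    have hS : S.ShortExact := shortExact_ker hq hr
    let S' := S.map (Scheme.Modules.pullback ψ)
    have hS' : S'.ShortExact := SGA6Ext.shortExact_pullback ψ hS hker hpp hK
    have h₁ : Coh.IsQCoh S'.X₁ := QC.isQCoh_pullback ψ (isQCoh_ker hq)
    have h₂ : Coh.IsQCoh S'.X₂ := QC.isQCoh_pullback ψ (QC.isQCoh_pullback _ (isQCoh_push hq))
    have h₃ : Coh.IsQCoh S'.X₃ := QC.isQCoh_pullback ψ hq
    let M := (Scheme.Modules.pushforward (KRR.pr n T)).obj (iterK F i)
    have r₂ : KRR.IsRegSheaf n T₁ S'.X₂ := isRegSheaf_of_iso (pullPullIso φ M).symm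
      (isRegSheaf_pull (n := n) (QC.isQCoh_pullback φ (isQCoh_push hq)))
    obtain ⟨e⟩ := nonempty_pullback_twF φ 1 (Ker (iterK F i))
    have r₀ : KRR.IsRegSheaf n T₁ ((Scheme.Modules.pullback ψ).obj (KRR.twF n T 1 (Ker (iterK F i)))) := by
      have := ih (i + 1) (by omega)
      rw [iterK] at this
      exact this
    have r₁' : KRR.IsRegSheaf n T₁ (KRR.twF n T₁ 1 ((Scheme.Modules.pullback ψ).obj (Ker (iterK F i)))) :=
      isRegSheaf_of_iso e r₀
    have hX : S'.X₁ = (Scheme.Modules.pullback ψ).obj (Ker (iterK F i)) := rfl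
    have r₁ : KRR.IsRegSheaf n T₁ (KRR.twF n T₁ 1 S'.X₁) := hX.symm ▸ r₁'
    have r₃ : KRR.IsRegSheaf n T₁ S'.X₃ := isRegSheaf_X3 (S := S') hS' h₁ h₂ h₃ r₂ r₁
    have hX3 : S'.X₃ = (Scheme.Modules.pullback ψ).obj (iterK F i) := rfl
    rw [hX3] at r₃
    exact r₃

include hF hreg in
/-- Regularity is stable under base change. -/
theorem isRegSheaf_pullback :
    KRR.IsRegSheaf n T₁ ((Scheme.Modules.pullback (KRR.projSpaceMap n φ)).obj F) :=
  isRegSheaf_pullback_iterK φ hF hreg (n + 1) 0 (by omega)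

include hF hreg in
/-- The base change morphism is an isomorphism. -/
theorem isIso_bcMap (hsq : KRR.projSpaceMap n φ ≫ KRR.pr n T = KRR.pr n T₁ ≫ φ) :
    IsIso (KRR.bcMap n φ hsq F) := by
  have hq := isQCoh_of_finLocFree hF
  haveI := HQProj.isProper_toBase n T
  haveI := (PicFam.flat_lfp_toBase n T).2
  have he : IsIso (CohBC.bc0 (KRR.pr n T) φ (KRR.pr n T₁) (KRR.projSpaceMap n φ) hsq F) := by
    refine W7Strat.isIso_bc0_of_forall_epi (KRR.pr n T) hq (isFlatOver_pr hF) (fun s => ?_) φ (KRR.pr n T₁)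
      (KRR.projSpaceMap n φ) (isPullback_map φ)
    obtain ⟨V, hV, hs, -⟩ := exists_isAffineOpen_mem_and_subset (X := T) (x := s) (U := ⊤) trivial
    obtain ⟨m⟩ := W7Cech.nonempty_ModelNN (KRR.pr n T) hq (LocFree.isFP_of_isFinLocFree hF) (isFlatOver_pr hF) hV
    refine ⟨V, hV, m, hs, (W7Cech.T_epi_iff_mono_succ m.L (W7Cech.flatX m.L m.hL) 0).2
      (W7Cech.isZero_T_of_isZero_homology_all m.L fun M => ?_).1⟩
    refine W7Hull.isZero_T_of_homology_above m.L m.hL m.b m.hb (fun p => ?_) _ (by simp) M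
    haveI := subsingleton_rpush_sections hq hreg hV p
    exact (m.hR (p + 1)).some.symm.injective.subsingleton
  rw [← mate_eq_bc0] at he
  exact he

end Groth.Agent.PnReg
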