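import Groth.Agent.PnReg.Resolution
import Groth.Agent.W7Hull.FlatTwist
import Groth.Agent.PicFam.Pn
import Groth.Agent.DerPerf.Local
import Groth.Agent.DerPerf.Tensor
import Groth.Agent.ResDesc.ResProp
import Groth.Agent.LocFree.Props
import Groth.Agent.DCohLocus.FreeLocus
import Groth.Agent.DQCoh.RelTor

/-!
Direct images of regular locally free sheaves are locally free.
-/

set_option autoImplicit false
set_option linter.unusedSectionVars false
set_option linter.style.haveILetI false
set_option backward.isDefEq.respectTransparency false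
set_option backward.isDefEq.respectTransparency.types false
set_option maxHeartbeats 1000000

universe u

open CategoryTheory CategoryTheory.Limits AlgebraicGeometry TopologicalSpace Opposite

noncomputable section

namespace Groth.Agent.PnReg

variable {n : ℕ} {T : Scheme.{u}}

theorem isFinLocFree_twF (d : ℤ) {F : (CohB1.ProjSpaceOver n T).Modules} (hF : FlatMod.IsFinLocFree F) :
    FlatMod.IsFinLocFree (KRR.twF n T d F) :=
  DerPerf.isFinLocFree_tensor (ResDesc.isFinLocFree_of_isInvertible
    (PicLoc.isInvertible_pullback _ (CohFinite.isInvertible_twist n _ d))) hF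

theorem isQCoh_of_finLocFree {F : (CohB1.ProjSpaceOver n T).Modules} (hF : FlatMod.IsFinLocFree F) :
    Coh.IsQCoh F :=
  LocFree.isQCoh_of_isFinLocFree hF

theorem isFlatOver_pr {F : (CohB1.ProjSpaceOver n T).Modules} (hF : FlatMod.IsFinLocFree F) :
    FlatMod.IsFlatOver (KRR.pr n T) F :=
  haveI := (PicFam.flat_lfp_toBase n T).1
  DQCoh.flatOver_of_flat _ (DerPerf.isFlat_of_isFinLocFree hF)

theorem subsingleton_rpush_sections {F : (CohB1.ProjSpaceOver n T).Modules} (hF : Coh.IsQCoh F)
    (hreg : KRR.IsRegSheaf n T F) {V : T.Opens} (hV : IsAffineOpen V) (p : ℕ) :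
    Subsingleton Γ((Coh.Rpush (KRR.pr n T) (p + 1)).obj F, V) := by
  haveI := HQProj.isProper_toBase n T
  let c := chartAt (n := n) hV
  have h1 : Subsingleton (CohSite.HU (Coh.toAb F) (p + 1) (CohB1.ProjSpaceOver.toBase n T ⁻¹ᵁ V)) :=
    (c.subsingleton_iff F hF (p + 1)).2
      (hh_of_reg (c.isQCoh hF) ((isRegSheaf_iff hF).1 hreg V c) (p + 1) (by omega))
  obtain ⟨a⟩ := CohQC.hu_restrict F (CohB1.ProjSpaceOver.toBase n T ⁻¹ᵁ V) (p + 1)
  have h2 : Subsingleton (Coh.HH _ (F.restrict (CohB1.ProjSpaceOver.toBase n T ⁻¹ᵁ V).ι) (p + 1)) :=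
    a.symm.toEquiv.subsingleton
  letI : ((KRR.pr n T) ⁻¹ᵁ V).toScheme.Over (Spec (CommRingCat.of Γ(T, V))) :=
    ⟨((KRR.pr n T) ∣_ V) ≫ hV.isoSpec.hom⟩
  obtain ⟨l⟩ := W7Cech.nonempty_rpush_sections (KRR.pr n T) F hF (p + 1) hV
  exact @Equiv.subsingleton _ _ l.toEquiv h2

/-- The direct image of a regular locally free sheaf is locally free. -/
theorem isFinLocFree_push {F : (CohB1.ProjSpaceOver n T).Modules} (hF : FlatMod.IsFinLocFree F)
    (hreg : KRR.IsRegSheaf n T F) :
    FlatMod.IsFinLocFree ((Scheme.Modules.pushforward (KRR.pr n T)).obj F) := by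
  haveI := HQProj.isProper_toBase n T
  haveI := (PicFam.flat_lfp_toBase n T).2
  refine W7Hull.isFinLocFree_push_of_vanish (KRR.pr n T) (isQCoh_of_finLocFree hF)
    (LocFree.isFP_of_isFinLocFree hF) (isFlatOver_pr hF) fun y => ?_
  exact ⟨⊤, trivial, fun V hV _ p => subsingleton_rpush_sections (isQCoh_of_finLocFree hF) hreg hV p⟩

variable {F : (CohB1.ProjSpaceOver n T).Modules} (hF : FlatMod.IsFinLocFree F) (hreg : KRR.IsRegSheaf n T F)

include hF hreg in
/-- The successive kernels of a regular locally free sheaf are locally free. -/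
theorem isFinLocFree_iterK : ∀ i, FlatMod.IsFinLocFree (iterK F i)
  | 0 => hF
  | i + 1 => by
    have h := isFinLocFree_iterK i
    obtain ⟨hq, hr⟩ := iterK_spec (isQCoh_of_finLocFree hF) hreg i
    haveI := epi_counit hq hr
    exact isFinLocFree_twF 1 (DCohLocus.isFinLocFree_kernel _
      (DerPerf.isFinLocFree_pullback _ (isFinLocFree_push h hr)) h)

end Groth.Agent.PnReg
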