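import Groth.Agent.PnReg.KIso
import Groth.Agent.PnReg.Push
import Groth.Agent.RegTilde.LinRes
import Groth.Agent.SGA6Ext.Pull

/-!
Push-forward of bundles on projective space, on Grothendieck groups.
-/

set_option autoImplicit false
set_option linter.unusedSectionVars false
set_option linter.style.haveILetI false
set_option backward.isDefEq.respectTransparency false
set_option backward.isDefEq.respectTransparency.types false
set_option maxHeartbeats 1000000

universe u

open CategoryTheory CategoryTheory.Limits AlgebraicGeometry TopologicalSpace Opposite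

noncomputable section

namespace Groth.Agent.PnReg

theorem surjective_app_top {X : Scheme.{u}} {S : ShortComplex X.Modules} (hS : S.ShortExact)
    (h₁ : Subsingleton (Coh.HH X S.X₁ 1)) : Function.Surjective (S.g.app ⊤) := by
  intro z
  have hT : IsTerminal (⊤ : X.Opens) := isTerminalTop
  obtain ⟨y, hy⟩ := (CohFinite.δH_eq_zero_iff (CohQC.seq_shortExact hS) 0
    ((Sheaf.H.equiv₀ (Coh.toAb S.X₃) hT).symm z)).1 (h₁.elim _ _)
  refine ⟨Sheaf.H.equiv₀ (Coh.toAb S.X₂) hT y, ?_⟩
  have h := Sheaf.H.equiv₀_naturality (f := (SheafOfModules.toSheaf X.ringCatSheaf).map S.g) (hT := hT) (x := y)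
  refine h.trans ?_
  exact (congrArg _ hy).trans (AddEquiv.apply_symm_apply _ z)

variable {n : ℕ} {T : Scheme.{u}}

/-- Direct images are exact when the first term is regular. -/
theorem shortExact_push {S : ShortComplex (CohB1.ProjSpaceOver n T).Modules} (hS : S.ShortExact)
    (h₁ : Coh.IsQCoh S.X₁) (r₁ : KRR.IsRegSheaf n T S.X₁) :
    (S.map (Scheme.Modules.pushforward (KRR.pr n T))).ShortExact := by
  haveI := hS.mono_f
  haveI : Mono ((Scheme.Modules.pushforward (KRR.pr n T)).map S.f) := inferInstance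
  have hepi : Epi ((Scheme.Modules.pushforward (KRR.pr n T)).map S.g) := InvGen.epi_of_locally _ fun U t x hx => by
    obtain ⟨V, hV, hxV, hVU⟩ := exists_isAffineOpen_mem_and_subset (X := T) (x := x) (U := U) hx
    let c := chartAt (n := n) hV
    let j := (CohB1.ProjSpaceOver.toBase n T ⁻¹ᵁ V).ι
    have hu : Subsingleton (CohSite.HU (Coh.toAb S.X₁) 1 (CohB1.ProjSpaceOver.toBase n T ⁻¹ᵁ V)) :=
      (c.subsingleton_iff S.X₁ h₁ 1).2 (hh_of_reg (c.isQCoh h₁) ((isRegSheaf_iff h₁).1 r₁ V c) 1 le_rfl)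
    obtain ⟨a⟩ := CohQC.hu_restrict S.X₁ (CohB1.ProjSpaceOver.toBase n T ⁻¹ᵁ V) 1
    haveI := (Scheme.Modules.restrictFunctor j).preservesHomologyOfExact
    have hs := surjective_app_top (S := S.map (Scheme.Modules.restrictFunctor j)) (hS.map_of_exact _)
      (a.symm.toEquiv.subsingleton)
    have he : j ''ᵁ (⊤ : (CohB1.ProjSpaceOver.toBase n T ⁻¹ᵁ V).toScheme.Opens) = CohB1.ProjSpaceOver.toBase n T ⁻¹ᵁ V :=
      (Scheme.Hom.image_top_eq_opensRange j).trans (Scheme.Opens.opensRange_ι _)
    have hs' : Function.Surjective (S.g.app (j ''ᵁ ⊤)) := hs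
    rw [he] at hs'
    obtain ⟨w, hw⟩ := hs' (QC.res ((Scheme.Modules.pushforward (KRR.pr n T)).obj S.X₃) hVU t)
    exact ⟨V, hVU, hxV, w, hw⟩
  exact
    { exact := hS.exact.map_of_mono_of_preservesKernel (Scheme.Modules.pushforward (KRR.pr n T)) hS.mono_f inferInstance
      mono_f := inferInstanceAs (Mono ((Scheme.Modules.pushforward (KRR.pr n T)).map S.f))
      epi_g := hepi }

variable (n T) in
/-- Push-forward of regular bundles. -/
def pushR : KZero.K0sub (regP n T) →+ SGA6.Kvb T :=
  liftSub (fun F => SGA6Ext.cls ((Scheme.Modules.pushforward (KRR.pr n T)).obj F.1)) fun S h₁ h₂ h₃ hS =>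
    K0Res.clSub_add (fun M => FlatMod.IsFinLocFree M) (shortExact_push hS (isQCoh_of_finLocFree h₁.1) h₁.2)
      (isFinLocFree_push h₁.1 h₁.2) (isFinLocFree_push h₂.1 h₂.2) (isFinLocFree_push h₃.1 h₃.2)

theorem pushR_clr {F : (CohB1.ProjSpaceOver n T).Modules} (hF : regP n T F) :
    pushR n T (clr F) = SGA6Ext.cls ((Scheme.Modules.pushforward (KRR.pr n T)).obj F) :=
  liftSub_cl _ _ hF

variable [CompactSpace T]

variable (n T) in
/-- Push-forward of bundles. -/
def pushK : SGA6.Kvb (CohB1.ProjSpaceOver n T) →+ SGA6.Kvb T := (pushR n T).comp (toReg n T)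

theorem pushK_cls {F : (CohB1.ProjSpaceOver n T).Modules} (hF : regP n T F) :
    pushK n T (SGA6Ext.cls F) = SGA6Ext.cls ((Scheme.Modules.pushforward (KRR.pr n T)).obj F) := by
  show pushR n T (toReg n T _) = _
  rw [← ofReg_clr hF, toReg_ofReg, pushR_clr hF]

/-- Homomorphisms agreeing on regular bundles are equal. -/
theorem hom_ext_reg {A : Type*} [AddCommGroup A] {f g : SGA6.Kvb (CohB1.ProjSpaceOver n T) →+ A}
    (h : ∀ F, regP n T F → f (SGA6Ext.cls F) = g (SGA6Ext.cls F)) : f = g := by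
  refine AddMonoidHom.ext fun x => ?_
  rw [← ofReg_toReg x]
  refine sub_induction (Q := fun y => f (ofReg n T y) = g (ofReg n T y)) (by simp) (fun y hy => by simp [hy])
    (fun y z hy hz => by simp [hy, hz]) (fun F hF => ?_) _
  show f (ofReg n T (clr F)) = g (ofReg n T (clr F))
  rw [ofReg_clr hF]
  exact h F hF

end Groth.Agent.PnReg
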