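import Groth.Agent.PnReg.Kernel
import Groth.Agent.PicFam.Pn

/-!
Global sections of inverse images from an affine base.
-/

set_option autoImplicit false
set_option linter.unusedSectionVars false
set_option linter.style.haveILetI false
set_option backward.isDefEq.respectTransparency false
set_option backward.isDefEq.respectTransparency.types false
set_option maxHeartbeats 1000000

universe u

open CategoryTheory CategoryTheory.Limits AlgebraicGeometry TopologicalSpace Opposite

noncomputable section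

namespace Groth.Agent.PnReg

open CoproductsFromFiniteFiltered in
/-- Cohomology classes of a coproduct come from the summands. -/
theorem mem_closure_sigma {X : Scheme.{u}} [CompactSpace X] [QuasiSeparatedSpace X] {α : Type u} (Z : α → X.Modules)
    (q : ℕ) (x : Coh.HH X (∐ Z) q) :
    x ∈ AddSubgroup.closure {w : Coh.HH X (∐ Z) q |
      ∃ i y, Sheaf.H.map ((SheafOfModules.toSheaf X.ringCatSheaf).map (Sigma.ι Z i)) q y = w} := by
  classical
  haveI : PrespectralSpace X.toTopCat := inferInstanceAs (PrespectralSpace ↥X)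
  haveI : QuasiSeparatedSpace X.toTopCat := inferInstanceAs (QuasiSeparatedSpace ↥X)
  haveI : CompactSpace X.toTopCat := inferInstanceAs (CompactSpace ↥X)
  let L := liftToFinsetObj (Discrete.functor Z)
  let e : ∐ Z ≅ colimit L :=
    IsColimit.coconePointUniqueUpToIso (colimit.isColimit (Discrete.functor Z))
      (liftToFinsetColimitCocone (Discrete.functor Z)).isColimit
  let E := SheafOfModules.toSheaf.{u} X.ringCatSheaf ⋙
    (Sheaf.cohomologyPresheafFunctor (Opens.grothendieckTopology X) q).flip.obj (op (⊤ : X.Opens))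
  haveI : PreservesColimitsOfShape (Finset (Discrete α))
      ((Sheaf.cohomologyPresheafFunctor (Opens.grothendieckTopology X) q).flip.obj (op (⊤ : X.Opens))) :=
    TopQC.preservesColimitsOfShape_HU (X := X.toTopCat) ⊤ isCompact_univ q
  haveI : PreservesColimitsOfShape (Finset (Discrete α)) E := inferInstance
  let Hm : ∀ {A B : X.Modules} (φ : A ⟶ B), Coh.HH X A q → Coh.HH X B q := fun φ =>
    Sheaf.H.map ((SheafOfModules.toSheaf X.ringCatSheaf).map φ) q
  let w : ∀ A : X.Modules, Coh.HH X A q ≃+ _ := fun A =>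
    SiteCoh.huTerminalEquiv (Opens.grothendieckTopology X) isTerminalTop (Coh.toAb A) q
  obtain ⟨J, y, hy⟩ := Concrete.isColimit_exists_rep _ (isColimitOfPreserves E (colimit.isColimit L))
    (w (colimit L) (Hm e.hom x))
  let z : Coh.HH X (L.obj J) q := (w (L.obj J)).symm y
  have hz : Hm (colimit.ι L J) z = Hm e.hom x := by
    refine (w (colimit L)).injective ?_
    refine Eq.trans ?_ hy
    refine (ProjCech.huTerminalEquiv_natural _ _ _ _ z).trans ?_
    exact congrArg _ ((w (L.obj J)).apply_symm_apply y)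
  let ZJ : J → X.Modules := fun t => (Discrete.functor Z).obj t.val
  let π : ∀ t : J, ∐ ZJ ⟶ ZJ t := fun t => Sigma.desc fun s => if hs : s = t then eqToHom (by rw [hs]) else 0
  have hπ : ∑ t : J, π t ≫ Sigma.ι ZJ t = 𝟙 (∐ ZJ) := by
    refine Sigma.hom_ext _ _ fun s => ?_
    rw [Preadditive.comp_sum, Category.comp_id, Finset.sum_eq_single s]
    · simp [π]
    · intro t _ ht
      simp [π, Ne.symm ht]
    · simp
  let Φ : (∐ ZJ ⟶ ∐ ZJ) →+ Coh.HH X (∐ ZJ) q :=
    AddMonoidHom.mk' (fun φ => Hm φ z) fun φ ψ => by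
      simp only [Hm]
      rw [Functor.map_add, Sheaf.H.map_add_apply]
  have hz1 : z = ∑ t : J, Hm (π t ≫ Sigma.ι ZJ t) z := by
    refine Eq.trans ?_ ((congrArg Φ hπ.symm).trans (map_sum Φ _ _))
    simp only [Φ, Hm, AddMonoidHom.mk'_apply, CategoryTheory.Functor.map_id, Sheaf.H.map_id_apply]
  have hx : x = Hm (colimit.ι L J ≫ e.inv) z := by
    simp only [Hm, Functor.map_comp, Sheaf.H.map_comp_apply]
    simp only [Hm] at hz
    rw [hz, ← Sheaf.H.map_comp_apply, ← Functor.map_comp, e.hom_inv_id, CategoryTheory.Functor.map_id,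
      Sheaf.H.map_id_apply]
  rw [hx, hz1]
  simp only [Hm, map_sum]
  refine sum_mem fun t _ => AddSubgroup.subset_closure ⟨t.val.as,
    Sheaf.H.map ((SheafOfModules.toSheaf X.ringCatSheaf).map (π t)) q z, ?_⟩
  have hι : Sigma.ι ZJ t ≫ colimit.ι L J ≫ e.inv = Sigma.ι Z t.val.as := by
    have h1 : Sigma.ι Z t.val.as ≫ e.hom = Sigma.ι ZJ t ≫ colimit.ι L J := by
      refine (IsColimit.comp_coconePointUniqueUpToIso_hom _ _ (⟨t.val.as⟩ : Discrete α)).trans ?_
      have hle : ({t.val} : Finset (Discrete α)) ≤ J := Finset.singleton_subset_iff.2 t.2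
      show Sigma.ι (fun s : ({t.val} : Finset (Discrete α)) => (Discrete.functor Z).obj s.val) ⟨t.val, _⟩ ≫
        colimit.ι L {t.val} = _
      rw [← colimit.w L (homOfLE hle), ← Category.assoc]
      congr 1
      simp [L, liftToFinsetObj, ZJ]
    rw [← Category.assoc, ← h1, Category.assoc, e.hom_inv_id, Category.comp_id]
  rw [← hι]
  simp only [Functor.map_comp, Sheaf.H.map_comp_apply]
  rfl

/-- Global sections of a coproduct come from the summands. -/
theorem sections_mem_closure_sigma {X : Scheme.{u}} [CompactSpace X] [QuasiSeparatedSpace X] {α : Type u}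
    (Z : α → X.Modules) (s : Γ(∐ Z, ⊤)) :
    s ∈ AddSubgroup.closure {w : Γ(∐ Z, ⊤) | ∃ i a, (Sigma.ι Z i).app ⊤ a = w} := by
  let e := Sheaf.H.equiv₀ (Coh.toAb (∐ Z)) (isTerminalTop : IsTerminal (⊤ : X.Opens))
  have h : ∀ x ∈ AddSubgroup.closure {w : Coh.HH X (∐ Z) 0 |
      ∃ i y, Sheaf.H.map ((SheafOfModules.toSheaf X.ringCatSheaf).map (Sigma.ι Z i)) 0 y = w},
      e x ∈ AddSubgroup.closure {w : Γ(∐ Z, ⊤) | ∃ i a, (Sigma.ι Z i).app ⊤ a = w} := by
    intro x hx
    induction hx using AddSubgroup.closure_induction with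
    | mem x hx =>
      obtain ⟨i, y, rfl⟩ := hx
      exact AddSubgroup.subset_closure ⟨i, Sheaf.H.equiv₀ (Coh.toAb (Z i)) isTerminalTop y,
        Sheaf.H.equiv₀_naturality isTerminalTop ((SheafOfModules.toSheaf X.ringCatSheaf).map (Sigma.ι Z i)) y⟩
    | zero => rw [map_zero]; exact zero_mem _
    | add a b _ _ ha hb => rw [map_add]; exact add_mem ha hb
    | neg a _ ha => rw [map_neg]; exact neg_mem ha
  have h' := h _ (mem_closure_sigma Z 0 (e.symm s))
  rwa [e.apply_symm_apply] at h'

variable {R : Type u} [CommRing R] {n : ℕ}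

/-- Global functions of projective space over any ring. -/
theorem surjective_toSpec (n : ℕ) (R : Type u) [CommRing R] :
    Function.Surjective ((CohB1.ProjSpace.toSpec n R).appTop.hom.comp
      (Scheme.ΓSpecIso (CommRingCat.of R)).inv.hom) := by
  let P := CohB1.ProjSpace n R
  letI : P.Over (Spec (CommRingCat.of R)) := ⟨CohB1.ProjSpace.toSpec n R⟩
  letI : Algebra R Γ(P, ⊤) := ((CohB1.ProjSpace.toSpec n R).appTop.hom.comp
      (Scheme.ΓSpecIso (CommRingCat.of R)).inv.hom).toAlgebra
  obtain ⟨e⟩ : Nonempty (Γ(P, ⊤) ≃ₗ[R] R) := by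
    obtain ⟨z⟩ := ProjCech.zero_equiv (R := R) n 0
    obtain ⟨t⟩ := GrT.nonempty_twist_zero_iso (𝒜 := CohB1.polyGrading n R)
    let T : Γ(P, ⊤) →ₗ[R] ((CohIII.globalSectionsA R).obj (Twist.twistProjSpace n R 0) : Type u) :=
      { toFun := fun x => t.inv.app ⊤ x
        map_add' := fun a b => map_add (t.inv.app ⊤).hom a b
        map_smul' := fun c x => by
          rw [Algebra.smul_def]
          exact Scheme.Modules.Hom.app_smul t.inv (U := ⊤) (algebraMap R Γ(P, ⊤) c) x }
    let e1 := ((LinearEquiv.ofBijective T (ConcreteCategory.bijective_of_isIso (t.inv.app ⊤))).trans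
      (W7Cech.gsH0L R (Twist.twistProjSpace n R 0))).trans z
    have hC : Function.Bijective
        (fun r : R => (⟨MvPolynomial.C r, MvPolynomial.isHomogeneous_C _ r⟩ :
          ↥(MvPolynomial.homogeneousSubmodule (Fin (n + 1)) R 0))) := by
      refine ⟨fun a b h => MvPolynomial.C_injective _ _ (congrArg Subtype.val h), fun p => ?_⟩
      have hp : (p : MvPolynomial (Fin (n + 1)) R) ∈ (1 : Submodule R (MvPolynomial (Fin (n + 1)) R)) := by
        rw [← MvPolynomial.homogeneousSubmodule_zero]
        exact p.2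
      obtain ⟨r, hr⟩ := Submodule.mem_one.1 hp
      exact ⟨r, Subtype.ext hr⟩
    exact ⟨e1.trans (LinearEquiv.ofBijective
      { toFun := fun r : R => (⟨MvPolynomial.C r, MvPolynomial.isHomogeneous_C _ r⟩ :
          ↥(MvPolynomial.homogeneousSubmodule (Fin (n + 1)) R 0))
        map_add' := fun a b => Subtype.ext (MvPolynomial.C.map_add a b)
        map_smul' := fun c a => Subtype.ext (by simp [MvPolynomial.smul_eq_C_mul]) } hC).symm⟩
  intro g
  set g₀ := e.symm 1 with hg₀
  have h1 : ∀ x, x = e x • g₀ := fun x => e.injective (by rw [map_smul, hg₀, e.apply_symm_apply, smul_eq_mul, mul_one])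
  have h2 : e 1 * e (g₀ * g₀) = 1 := by
    have : g₀ = (e 1 * e (g₀ * g₀)) • g₀ := by
      conv_lhs => rw [← mul_one g₀, h1 1, mul_smul_comm, h1 (g₀ * g₀), smul_smul]
    have h3 := congrArg e this
    rw [map_smul, hg₀, e.apply_symm_apply, smul_eq_mul, mul_one] at h3
    exact h3.symm
  refine ⟨e g * e (g₀ * g₀), ?_⟩
  show algebraMap R Γ(P, ⊤) _ = g
  rw [Algebra.algebraMap_eq_smul_one, h1 1, smul_smul, mul_assoc, mul_comm (e (g₀ * g₀)), h2, mul_one]
  exact (h1 g).symm

/-- Global sections of inverse images from the base come from the base. -/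
theorem unit_surjective {N : (Spec (CommRingCat.of R)).Modules} (hN : Coh.IsQCoh N) :
    Function.Surjective (((Scheme.Modules.pullbackPushforwardAdjunction (CohB1.ProjSpace.toSpec n R)).unit.app N).app
      ⊤) := by
  let f := CohB1.ProjSpace.toSpec n R
  haveI : IsProper f := ProjMor.isProper_toSpec n R
  haveI : Flat f := (PerfGen.flat_lfp_toSpec n R).1
  haveI : CompactSpace (CohB1.ProjSpace n R) := QuasiCompact.compactSpace_of_compactSpace f
  haveI : QuasiSeparatedSpace (CohB1.ProjSpace n R) := quasiSeparatedSpace_of_quasiSeparated f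
  let adj := Scheme.Modules.pullbackPushforwardAdjunction f
  let P := Scheme.Modules.pullback f
  let η : ∀ M : (Spec (CommRingCat.of R)).Modules, Γ(M, ⊤) →+ Γ(P.obj M, ⊤) :=
    fun M => ((adj.unit.app M).app ⊤).hom
  suffices key : ∀ z, z ∈ (η N).range by exact fun z => key z
  obtain ⟨ι, π, hπ⟩ := exists_free_epi hN
  let O := Coh.structureModule (Spec (CommRingCat.of R))
  let F₀ := ∐ fun _ : ι => O
  have hF₀ : Coh.IsQCoh F₀ :=
    (inferInstance : (SheafOfModules.free.{u} (R := (Spec (CommRingCat.of R)).ringCatSheaf) ι).IsQuasicoherent)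
  have nat : ∀ {M M' : (Spec (CommRingCat.of R)).Modules} (φ : M ⟶ M') (m : Γ(M, ⊤)),
      (P.map φ).app ⊤ (η M m) = η M' (φ.app ⊤ m) := fun {M M'} φ m =>
    (congrArg (fun χ : M ⟶ (Scheme.Modules.pushforward f).obj (P.obj M') => χ.app ⊤ m)
      (adj.unit.naturality φ)).symm
  have hO : ∀ a : Γ(P.obj O, ⊤), a ∈ (η O).range := fun a => by
    let u := DerPerf.pullUnitIso f
    let one : Γ(O, ⊤) := (1 : Γ(Spec (CommRingCat.of R), ⊤))
    obtain ⟨r, hr⟩ := surjective_toSpec n R (u.hom.app ⊤ a)
    refine ⟨(show Γ(Spec (CommRingCat.of R), ⊤) from (Scheme.ΓSpecIso (CommRingCat.of R)).inv.hom r) • one, ?_⟩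
    refine (Scheme.Modules.Hom.app_smul (adj.unit.app O) (U := ⊤) _ one).trans ?_
    have hi : Function.Injective (u.hom.app ⊤) := (ConcreteCategory.bijective_of_isIso (u.hom.app ⊤)).1
    refine hi ?_
    refine (Scheme.Modules.Hom.app_smul u.hom (U := ⊤) _ (η O one)).trans ?_
    haveI : (SheafOfModules.pushforward.{u} f.toRingCatSheafHom).IsRightAdjoint :=
      inferInstanceAs (Scheme.Modules.pushforward f).IsRightAdjoint
    have hmate : adj.unit.app O ≫ (Scheme.Modules.pushforward f).map u.hom =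
        SheafOfModules.unitToPushforwardObjUnit f.toRingCatSheafHom :=
      (adj.homEquiv_unit _ _ u.hom).symm.trans
        (((SheafOfModules.pullbackPushforwardAdjunction f.toRingCatSheafHom).homEquiv _ _).apply_symm_apply _)
    have hone : u.hom.app ⊤ (η O one) = (1 : Γ(CohB1.ProjSpace n R, ⊤)) :=
      (congrArg (fun χ : O ⟶ (Scheme.Modules.pushforward f).obj (Coh.structureModule (CohB1.ProjSpace n R)) =>
        χ.app ⊤ one) hmate).trans (map_one f.appTop.hom)
    rw [hone]
    exact (mul_one _).trans hr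
  have hF : ∀ s : Γ(P.obj F₀, ⊤), s ∈ (η F₀).range := fun s => by
    haveI : PreservesColimitsOfSize.{u, u} P := adj.leftAdjoint_preservesColimits
    let i := PreservesCoproduct.iso P (fun _ : ι => O)
    have hs : i.hom.app ⊤ s ∈ AddSubgroup.closure
        {w | ∃ (t : ι) (a : Γ(P.obj O, ⊤)), (Sigma.ι (fun _ : ι => P.obj O) t).app ⊤ a = w} :=
      sections_mem_closure_sigma _ _
    suffices h : ∀ w ∈ AddSubgroup.closure
        {w | ∃ (t : ι) (a : Γ(P.obj O, ⊤)), (Sigma.ι (fun _ : ι => P.obj O) t).app ⊤ a = w},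
        i.inv.app ⊤ w ∈ (η F₀).range by
      have := h _ hs
      rwa [show i.inv.app ⊤ (i.hom.app ⊤ s) = s from congrArg (RegKos.ev s) i.hom_inv_id] at this
    intro w hw
    induction hw using AddSubgroup.closure_induction with
    | mem w hw =>
      obtain ⟨t, a, rfl⟩ := hw
      obtain ⟨m, rfl⟩ := hO a
      refine ⟨(Sigma.ι (fun _ : ι => O) t).app ⊤ m, ?_⟩
      have hc : Sigma.ι (fun _ : ι => P.obj O) t ≫ i.inv = P.map (Sigma.ι (fun _ : ι => O) t) := by
        simp [i, PreservesCoproduct.iso]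
      exact (nat _ m).symm.trans (congrArg (RegKos.ev (η O m)) hc).symm
    | zero => rw [map_zero]; exact zero_mem _
    | add a b _ _ ha hb => rw [map_add]; exact add_mem ha hb
    | neg a _ ha => rw [map_neg]; exact neg_mem ha
  intro z
  let K := kernel π
  have hK : Coh.IsQCoh K := QC.isQCoh_kernel hF₀ hN π
  have hS : (ShortComplex.mk (kernel.ι π) π (kernel.condition π)).ShortExact :=
    { exact := ShortComplex.exact_kernel π }
  haveI : Mono (P.map (kernel.ι π)) := FlatFunLib.mono_pullback_of_flat f (kernel.ι π)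
  have hS' : ((ShortComplex.mk (kernel.ι π) π (kernel.condition π)).map P).ShortExact :=
    ShortComplex.ShortExact.mk' (ShortComplex.exact_of_g_is_cokernel _
      (CokernelCofork.mapIsColimit _ hS.gIsCokernel P)) (inferInstanceAs (Mono (P.map (kernel.ι π))))
      (inferInstanceAs (Epi (P.map π)))
  have h1 : Subsingleton (Coh.HH (CohB1.ProjSpace n R) (P.obj K) 1) :=
    hh_of_reg (QC.isQCoh_pullback _ hK) (reg_pull hK le_rfl) 1 le_rfl
  obtain ⟨s, hs⟩ := CohQC.sections_surjective_top (CohQC.seq_shortExact hS') h1 z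
  obtain ⟨m, rfl⟩ := hF s
  exact ⟨π.app ⊤ m, (nat π m).symm.trans hs⟩

end Groth.Agent.PnReg
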