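import Groth.Agent.PnReg.KPush
import Groth.Agent.ProjCech.Main
import Groth.Agent.W7Strat.Frame
import Groth.Agent.CohFinite.AmpleFinite
import Mathlib.Algebra.Order.Antidiag.FinsuppEquiv

/-!
Sections of the twists of projective space over the integers.
-/

set_option autoImplicit false
set_option linter.unusedSectionVars false
set_option linter.style.haveILetI false
set_option backward.isDefEq.respectTransparency false
set_option backward.isDefEq.respectTransparency.types false
set_option maxHeartbeats 1000000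

universe u

open CategoryTheory CategoryTheory.Limits AlgebraicGeometry TopologicalSpace Opposite

noncomputable section

namespace Groth.Agent.PnReg

theorem nonempty_homogeneous_equiv (R : Type u) [CommRing R] (n m : ℕ) :
    Nonempty (↥(MvPolynomial.homogeneousSubmodule (Fin (n + 1)) R m) ≃+ (Fin ((n + m).choose m) → R)) := by
  classical
  open MvPolynomial in
  have hset : {d : Fin (n + 1) →₀ ℕ | d.degree = m} =
      (((Finset.univ : Finset (Fin (n + 1))).finsuppAntidiag m : Finset (Fin (n + 1) →₀ ℕ)) : Set (Fin (n + 1) →₀ ℕ)) := by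
    ext d
    simp [Finset.mem_finsuppAntidiag, Finsupp.degree_eq_sum]
  rw [MvPolynomial.homogeneousSubmodule_eq_finsupp_supported, hset]
  let s : Finset (Fin (n + 1) →₀ ℕ) := (Finset.univ : Finset (Fin (n + 1))).finsuppAntidiag m
  let b : Module.Basis _ R (AddMonoidAlgebra.supported R R (s : Set (Fin (n + 1) →₀ ℕ))) :=
    Module.Basis.ofRepr (AddMonoidAlgebra.supportedEquivFinsupp _)
  have hc : Fintype.card ↥(s : Set (Fin (n + 1) →₀ ℕ)) = (n + m).choose m := by
    refine (Fintype.card_coe _).trans ?_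
    rw [Finset.card_finsuppAntidiag_nat_eq_choose, Finset.card_univ, Fintype.card_fin, show n + 1 + m - 1 = n + m by omega]
  exact ⟨((b.reindex (Fintype.equivFinOfCardEq hc)).equivFun).toAddEquiv⟩

/-- A quasi-coherent sheaf on an affine scheme with free global sections, over a ring generated by `1`. -/
theorem nonempty_iso_free_of_sections {X : Scheme.{u}} [IsAffine X] (hX : ∀ r : Γ(X, ⊤), ∃ k : ℤ, (k : Γ(X, ⊤)) = r)
    {G : X.Modules} (hG : Coh.IsQCoh G) {N : ℕ} (ψ : (Fin N → Γ(X, ⊤)) ≃+ Γ(G, ⊤)) :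
    Nonempty (G ≅ FlatMod.freeMod X N) := by
  classical
  let b : Fin N → Γ(G, ⊤) := fun i => ψ (Pi.single i 1)
  have hb : ∀ c : Fin N → Γ(X, ⊤), ψ c = ∑ i, c i • b i := fun c => by
    conv_lhs => rw [← Finset.univ_sum_single c]
    rw [map_sum]
    refine Finset.sum_congr rfl fun i _ => ?_
    obtain ⟨k, hk⟩ := hX (c i)
    have hs : Pi.single (M := fun _ : Fin N => (Γ(X, ⊤) : Type u)) i ((k : ℤ) : Γ(X, ⊤)) =
        k • Pi.single i (1 : Γ(X, ⊤)) := by
      rw [← Pi.single_smul, zsmul_one]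
    rw [← hk, Int.cast_smul_eq_zsmul]
    exact (congrArg ψ hs).trans (map_zsmul ψ k _)
  let φ : FlatMod.freeMod X N ⟶ G := Sigma.desc fun i => GrT.homOfSection G (b i)
  have hfr := W7Strat.isFrame_freeMod X N
  have hbij : Function.Bijective (φ.app ⊤) := by
    refine (Function.Bijective.of_comp_iff _ ⟨hfr.comb_injective (le_refl _), hfr.comb_surjective le_rfl⟩).1 ?_
    refine (congrArg Function.Bijective (funext fun c => ?_)).mp ψ.bijective
    rw [hb c, Function.comp_apply, map_sum]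
    refine Finset.sum_congr rfl fun i _ => ?_
    rw [Scheme.Modules.Hom.app_smul, QC.res_self]
    refine congrArg (c i • ·) ?_
    refine Eq.trans ?_ (congrArg (fun χ : Coh.structureModule X ⟶ G => χ.app ⊤ (1 : Γ(X, ⊤)))
      (Sigma.ι_desc (fun k => GrT.homOfSection G (b k)) i)).symm
    rw [GrT.homOfSection_app, one_smul, QC.res_self]
  have hF : Coh.IsQCoh (FlatMod.freeMod X N) := LocFree.isQCoh_freeMod X N
  have hT : IsAffineOpen (⊤ : X.Opens) := isAffineOpen_top X
  haveI : Mono φ := Preadditive.mono_of_kernel_zero <| by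
    refine (CohFinite.isZero_of_affine_cover _ (QC.isQCoh_kernel hF hG φ) (fun _ : Unit => (⊤ : X.Opens))
      (fun _ => hT) (fun x => ⟨(), trivial⟩) fun _ s => ?_).eq_of_src _ _
    refine Groth.Agent.QC.app_injective_of_mono (kernel.ι φ) _ (hbij.1 ?_)
    rw [map_zero, map_zero]
    exact congrArg (RegKos.ev s) (kernel.condition φ)
  haveI : Epi φ := Preadditive.epi_of_cokernel_zero <| by
    refine (CohFinite.isZero_of_affine_cover _ (QC.isQCoh_cokernel hF hG φ) (fun _ : Unit => (⊤ : X.Opens))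
      (fun _ => hT) (fun x => ⟨(), trivial⟩) fun _ s => ?_).eq_of_tgt _ _
    obtain ⟨w, rfl⟩ := QC.app_surjective_of_epi hT hG (QC.isQCoh_cokernel hF hG φ) (cokernel.π φ) s
    obtain ⟨v, rfl⟩ := hbij.2 w
    exact congrArg (RegKos.ev v) (cokernel.condition φ)
  haveI : IsIso φ := isIso_of_mono_of_epi φ
  exact ⟨(asIso φ).symm⟩

variable (n : ℕ)

/-- The integers. -/
abbrev SpecZ : Scheme.{u} := Spec (CommRingCat.of (ULift.{u} ℤ))

theorem specZ_generated (r : Γ(SpecZ.{u}, ⊤)) : ∃ k : ℤ, (k : Γ(SpecZ.{u}, ⊤)) = r := by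
  let e := (Scheme.ΓSpecIso (CommRingCat.of (ULift.{u} ℤ))).commRingCatIsoToRingEquiv
  refine ⟨(e r).down, e.injective ?_⟩
  rw [map_intCast]
  exact ULift.down_injective (by simp)

theorem nonempty_push_twist_specZ (m : ℕ) :
    Nonempty ((Scheme.Modules.pushforward (KRR.pr n SpecZ.{u})).obj (Twist.twistOver n SpecZ (m : ℤ)) ≅
      FlatMod.freeMod SpecZ ((n + m).choose m)) := by
  have hT : IsAffineOpen (⊤ : SpecZ.{u}.Opens) := isAffineOpen_top _
  let c := chartAt (n := n) hT
  let R := Γ(SpecZ.{u}, ⊤)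
  let M := Twist.twistOver n SpecZ.{u} (m : ℤ)
  obtain ⟨eh, -⟩ := CohFinite.exists_zero_equiv (X := CohB1.ProjSpace n R) R (Twist.twistProjSpace n R (m : ℤ))
  obtain ⟨z⟩ := ProjCech.zero_equiv (R := R) n m
  obtain ⟨h⟩ := nonempty_homogeneous_equiv R n m
  let a : (Fin ((n + m).choose m) → R) ≃+ Γ(Twist.twistProjSpace n R (m : ℤ), ⊤) :=
    h.symm.trans (z.toAddEquiv.symm.trans eh)
  have he : c.q ''ᵁ (⊤ : (CohB1.ProjSpace n R).Opens) = KRR.pr n SpecZ.{u} ⁻¹ᵁ ⊤ :=
    (Scheme.Hom.image_top_eq_opensRange c.q).trans c.opensRange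
  let i : M.restrict c.q ≅ Twist.twistProjSpace n R (m : ℤ) :=
    (Scheme.Modules.restrictFunctorIsoPullback c.q).app M ≪≫ c.tw (m : ℤ)
  let k : Γ(Twist.twistProjSpace n R (m : ℤ), ⊤) ≃+ Γ(M, c.q ''ᵁ ⊤) :=
    (AddEquiv.ofBijective (i.inv.app ⊤).hom (ConcreteCategory.bijective_of_isIso (i.inv.app ⊤))).trans
      (AddEquiv.refl _)
  let k' : Γ(M, c.q ''ᵁ ⊤) ≃+ Γ(M, KRR.pr n SpecZ.{u} ⁻¹ᵁ ⊤) :=
    AddEquiv.ofBijective (QC.res M he.ge) ⟨fun x y hxy => by
      have := congrArg (QC.res M he.le) hxy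
      rwa [QC.res_res, QC.res_res, QC.res_self, QC.res_self] at this,
      fun y => ⟨QC.res M he.le y, by rw [QC.res_res, QC.res_self]⟩⟩
  exact nonempty_iso_free_of_sections specZ_generated (isQCoh_push
    (TMul.isQCoh_of_isInvertible (PicLoc.isInvertible_pullback _ (CohFinite.isInvertible_twist n _ _))))
    (a.trans (k.trans k'))

end Groth.Agent.PnReg
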