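import Groth.Agent.PnReg.KModel
import Groth.Agent.PnReg.PushTwistZ

/-!
Push-forward of the twists on Grothendieck groups.
-/

set_option autoImplicit false
set_option linter.unusedSectionVars false
set_option linter.style.haveILetI false
set_option backward.isDefEq.respectTransparency false
set_option backward.isDefEq.respectTransparency.types false
set_option maxHeartbeats 1000000

universe w v u

open CategoryTheory CategoryTheory.Limits AlgebraicGeometry TopologicalSpace Opposite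
open fwdDiff

noncomputable section

namespace Groth.Agent.PnReg

variable {n : ℕ} {T : Scheme.{u}}

theorem isFinLocFree_unit (X : Scheme.{u}) : FlatMod.IsFinLocFree (Coh.structureModule X) :=
  SGA6Ext.finLocFree_unit X

theorem regP_unit : regP n T (Coh.structureModule (CohB1.ProjSpaceOver n T)) :=
  ⟨isFinLocFree_unit _, isRegSheaf_of_iso (DerPerf.pullUnitIso (KRR.pr n T))
    (isRegSheaf_pull (LocFree.isQCoh_of_isFinLocFree (isFinLocFree_unit T)))⟩

/-- `O(d) ⊗ O ≅ O(d)`. -/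
def twUnitIso (d : ℤ) : KRR.twF n T d (Coh.structureModule _) ≅ Twist.twistOver n T d :=
  TMul.commIso (Twist.twistOver n T d) (Coh.structureModule _) ≪≫ TMul.leftUnitIso _

theorem regP_twF_unit (m : ℕ) : regP n T (KRR.twF n T (m : ℤ) (Coh.structureModule _)) :=
  ⟨isFinLocFree_twF _ (isFinLocFree_unit _),
    isRegSheaf_twF (isQCoh_of_finLocFree (isFinLocFree_unit _)) regP_unit.2 m⟩

theorem cls_free (X : Scheme.{u}) (C : ℕ) :
    SGA6Ext.cls (FlatMod.freeMod X C) = (C : ℤ) • SGA6Ext.cls (Coh.structureModule X) := by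
  have hO := isFinLocFree_unit X
  obtain ⟨h, e⟩ := rel_free_tensor (Pp := fun M => FlatMod.IsFinLocFree M) (fun M h => DQCoh.isFinLocFree_of_isZero h)
    (fun e h => DQCoh.isFinLocFree_of_iso' e h) (fun hS h₁ h₃ => VBTwo.isFinLocFree_middle hS h₁ h₃) SGA6Ext.cls
    (fun hS h₁ h₂ h₃ => K0Res.clSub_add (fun M => FlatMod.IsFinLocFree M) hS h₁ h₂ h₃)
    (fun e h => SGA6Ext.cls_iso e h) hO hO C
  rw [← e]
  exact (SGA6Ext.cls_iso (TMul.commIso _ _ ≪≫ TMul.leftUnitIso _) h).symm

theorem cls_push_twist (m : ℕ) :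
    SGA6Ext.cls ((Scheme.Modules.pushforward (KRR.pr n T)).obj (KRR.twF n T (m : ℤ) (Coh.structureModule _))) =
      ((n + m).choose m : ℤ) • SGA6Ext.cls (Coh.structureModule T) := by
  let φ : T ⟶ SpecZ.{u} := specULiftZIsTerminal.from T
  let F := KRR.twF n SpecZ.{u} (m : ℤ) (Coh.structureModule _)
  have hF : regP n SpecZ.{u} F := regP_twF_unit m
  have hsq : KRR.projSpaceMap n φ ≫ KRR.pr n SpecZ.{u} = KRR.pr n T ≫ φ := (isPullback_map φ).w
  haveI := isIso_bcMap φ hF.1 hF.2 hsq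
  obtain ⟨f⟩ := nonempty_push_twist_specZ.{u} n m
  let j : (Scheme.Modules.pullback φ).obj ((Scheme.Modules.pushforward (KRR.pr n SpecZ.{u})).obj F) ≅
      FlatMod.freeMod T ((n + m).choose m) :=
    (Scheme.Modules.pullback φ).mapIso ((Scheme.Modules.pushforward _).mapIso (twUnitIso _) ≪≫ f) ≪≫
      DerPerf.pullFreeIso φ _
  let k : (Scheme.Modules.pullback (KRR.projSpaceMap n φ)).obj F ≅
      KRR.twF n T (m : ℤ) (Coh.structureModule _) :=
    (nonempty_pullback_twF φ (m : ℤ) (Coh.structureModule _)).some ≪≫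
      PicGrp.tensorModIso (Iso.refl _) (DerPerf.pullUnitIso _)
  let t : (Scheme.Modules.pushforward (KRR.pr n T)).obj (KRR.twF n T (m : ℤ) (Coh.structureModule _)) ≅
      FlatMod.freeMod T ((n + m).choose m) :=
    (Scheme.Modules.pushforward _).mapIso k.symm ≪≫ (asIso (KRR.bcMap n φ hsq F)).symm ≪≫ j
  rw [← cls_free]
  exact SGA6Ext.cls_iso t (isFinLocFree_push (regP_twF_unit m).1 (regP_twF_unit m).2)

theorem newt_choose_zero {i : ℕ} (hi : 1 ≤ i) (hin : i ≤ n) {A : Type*} [AddCommGroup A] (one : A) (m : ℕ) :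
    Newton.newt n (fun k : ℕ => ((k + (n - i)).choose n : ℤ) • one) m = 0 := by
  have hrel : ∀ k, Newton.Rel n (fun k : ℕ => ((k + (n - i)).choose n : ℤ)) k := fun k => by
    refine (fwdDiff_iter_comp_add (1 : ℕ) (fun x : ℕ => (x.choose n : ℤ)) (n - i) (n + 1) k).trans ?_
    rw [Function.iterate_succ_apply']
    have h := fwdDiff_iter_choose (j := 0) (k := n)
    simp only [add_zero] at h
    rw [h]
    simp [fwdDiff]
  refine (Newton.newt_map n ((smulAddHom ℤ A).flip one) (fun k : ℕ => ((k + (n - i)).choose n : ℤ)) m).symm.trans ?_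
  rw [Newton.newt_le n _ (Nat.zero_le m) fun k _ => hrel k, Newton.newt_zero, zero_add,
    Nat.choose_eq_zero_of_lt (by omega), Nat.cast_zero, map_zero]

variable [IsNoetherian T] {KP : Type v} {KY : Type w} [CommRing KP] [CommRing KY]
  {φP : SGA6.Kvb (KRR.PY n T) →+ KP} {φY : SGA6.Kvb T →+ KY}

theorem push_twist_nonneg (h1 : φY (SGA6Ext.cls (Coh.structureModule T)) = 1) {g : KP →+ KY}
    (hg : KRR.IsPushPr n T φP φY g) (m : ℕ) :
    g (φP (SGA6Ext.cls (KRR.twF n T (m : ℤ) (Coh.structureModule _)))) = ((n + m).choose m : KY) := by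
  refine (hg _ (regP_twF_unit m).1 (regP_twF_unit m).2).trans ?_
  refine (congrArg φY (cls_push_twist m)).trans ?_
  rw [map_zsmul, h1, zsmul_one, Int.cast_natCast]

theorem push_unit (h1 : φY (SGA6Ext.cls (Coh.structureModule T)) = 1) {g : KP →+ KY}
    (hg : KRR.IsPushPr n T φP φY g) : g (φP (SGA6Ext.cls (Coh.structureModule (KRR.PY n T)))) = 1 := by
  have h := push_twist_nonneg h1 hg 0
  obtain ⟨e⟩ := nonempty_twF_zero (Coh.structureModule (KRR.PY n T))
  rw [Nat.choose_zero_right, Nat.cast_one] at h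
  rw [← h]
  exact congrArg (fun z => g (φP z)) (SGA6Ext.cls_iso e.symm (isFinLocFree_unit _))

theorem push_twist_neg (h1 : φY (SGA6Ext.cls (Coh.structureModule T)) = 1) {g : KP →+ KY}
    (hg : KRR.IsPushPr n T φP φY g) {i : ℕ} (hi : 1 ≤ i) (hin : i ≤ n) :
    g (φP (SGA6Ext.cls (KRR.twF n T (-(i : ℤ)) (Coh.structureModule _)))) = 0 := by
  let O := Coh.structureModule (KRR.PY n T)
  let F := KRR.twF n T (-(i : ℤ)) O
  have hF : FlatMod.IsFinLocFree F := isFinLocFree_twF _ (isFinLocFree_unit _)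
  let b : ℕ → SGA6.Kvb (KRR.PY n T) := fun k => SGA6Ext.cls (KRR.twF n T (k : ℤ) F)
  obtain ⟨e⟩ := nonempty_twF_zero F
  have h0 : SGA6Ext.cls F = b 0 := SGA6Ext.cls_iso e.symm hF
  show (g.comp φP) (SGA6Ext.cls F) = 0
  rw [h0, ← Newton.newt_zero n b, ← Newton.newt_le n b (Nat.zero_le i) fun k _ => cls_seq_rel hF k, Newton.newt_map]
  rw [Newton.newt_congr n (b := fun k : ℕ => ((k + (n - i)).choose n : ℤ) • (1 : KY)) fun k hk => ?_]
  · exact newt_choose_zero hi hin 1 i
  · obtain ⟨t⟩ := nonempty_twF_twF O (k : ℤ) (-(i : ℤ)) ((k - i : ℕ) : ℤ) (by omega)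
    show g (φP (b k)) = _
    rw [show b k = _ from SGA6Ext.cls_iso t (isFinLocFree_twF _ hF), push_twist_nonneg h1 hg, zsmul_one,
      Int.cast_natCast, show k + (n - i) = n + (k - i) by omega, ← Nat.choose_symm_add]

end Groth.Agent.PnReg
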