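import Groth.Agent.PnReg.KProj

/-!
Push-forward along projective space on models of the rings of bundles.
-/

set_option autoImplicit false
set_option linter.unusedSectionVars false
set_option linter.style.haveILetI false
set_option backward.isDefEq.respectTransparency false
set_option backward.isDefEq.respectTransparency.types false
set_option maxHeartbeats 1000000

universe w v u

open CategoryTheory CategoryTheory.Limits AlgebraicGeometry TopologicalSpace Opposite

noncomputable section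

namespace Groth.Agent.PnReg

variable {n : ℕ} {Y : Scheme.{u}} [IsNoetherian Y] {KP : Type v} {KY : Type w} [CommRing KP] [CommRing KY]
  {φP : SGA6.Kvb (KRR.PY n Y) →+ KP} {φY : SGA6.Kvb Y →+ KY}

/-- A push-forward is determined by the classes of regular bundles. -/
theorem isPushPr_eq {g : KP →+ KY} (hg : KRR.IsPushPr n Y φP φY g) (z : SGA6.Kvb (KRR.PY n Y)) :
    g (φP z) = φY (pushK n Y z) := by
  have h : g.comp φP = φY.comp (pushK n Y) := hom_ext_reg fun F hF => by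
    show g (φP (SGA6Ext.cls F)) = φY (pushK n Y (SGA6Ext.cls F))
    rw [pushK_cls hF]
    exact hg F hF.1 hF.2
  exact DFunLike.congr_fun h z

theorem existsUnique_isPushPr (hφ : Function.Bijective φP) : ∃! g : KP →+ KY, KRR.IsPushPr n Y φP φY g := by
  obtain ⟨e, he⟩ : ∃ e : SGA6.Kvb (KRR.PY n Y) ≃+ KP, ∀ x, e x = φP x :=
    ⟨AddEquiv.ofBijective φP hφ, fun x => rfl⟩
  refine ⟨(φY.comp (pushK n Y)).comp e.symm.toAddMonoidHom, ?_, ?_⟩
  · intro F hF hreg
    show φY (pushK n Y (e.symm (φP (SGA6Ext.cls F)))) = _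
    rw [← he, AddEquiv.symm_apply_apply, pushK_cls ⟨hF, hreg⟩]
  · intro g hg
    refine AddMonoidHom.ext fun y => ?_
    obtain ⟨x, rfl⟩ := e.surjective y
    show g (e x) = φY (pushK n Y (e.symm (e x)))
    rw [AddEquiv.symm_apply_apply, he]
    exact isPushPr_eq hg x

variable {Y₁ : Scheme.{u}} [IsNoetherian Y₁] {KP₁ : Type v} {KY₁ : Type w} [CommRing KP₁] [CommRing KY₁]
  {φP₁ : SGA6.Kvb (KRR.PY n Y₁) →+ KP₁} {φY₁ : SGA6.Kvb Y₁ →+ KY₁}

/-- Base change. -/
theorem pull_push_baseChange (φ : Y₁ ⟶ Y) (hφP : Function.Surjective φP)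
    {gφ : KY →+ KY₁} (hgφ : KRR.IsPull φ φY φY₁ gφ)
    {gψ : KP →+ KP₁} (hgψ : KRR.IsPull (KRR.projSpaceMap n φ) φP φP₁ gψ)
    {b : KP →+ KY} (hb : KRR.IsPushPr n Y φP φY b) {b₁ : KP₁ →+ KY₁} (hb₁ : KRR.IsPushPr n Y₁ φP₁ φY₁ b₁) (z : KP) :
    gφ (b z) = b₁ (gψ z) := by
  obtain ⟨x, rfl⟩ := hφP z
  have h : (gφ.comp b).comp φP = (b₁.comp gψ).comp φP := hom_ext_reg fun F hF => by
    have hsq : KRR.projSpaceMap n φ ≫ KRR.pr n Y = KRR.pr n Y₁ ≫ φ := (isPullback_map φ).w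
    haveI := isIso_bcMap φ hF.1 hF.2 hsq
    show gφ (b (φP (KRR.cl _ F))) = b₁ (gψ (φP (KRR.cl _ F)))
    rw [hb F hF.1 hF.2, hgφ _ (isFinLocFree_push hF.1 hF.2), hgψ F hF.1,
      hb₁ _ (DerPerf.isFinLocFree_pullback _ hF.1) (isRegSheaf_pullback φ hF.1 hF.2)]
    exact congrArg φY₁ (SGA6Ext.cls_iso (asIso (KRR.bcMap n φ hsq F))
      (DerPerf.isFinLocFree_pullback _ (isFinLocFree_push hF.1 hF.2)))
  exact DFunLike.congr_fun h x

/-- The projection formula. -/
theorem push_mul_pull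
    (hmulP : ∀ E F : (KRR.PY n Y).Modules, FlatMod.IsFinLocFree E → FlatMod.IsFinLocFree F →
      φP (SGA6Ext.cls E) * φP (SGA6Ext.cls F) = φP (SGA6Ext.cls (CohB1.tensorMod E F)))
    (hmulY : ∀ E F : Y.Modules, FlatMod.IsFinLocFree E → FlatMod.IsFinLocFree F →
      φY (SGA6Ext.cls E) * φY (SGA6Ext.cls F) = φY (SGA6Ext.cls (CohB1.tensorMod E F)))
    (hφP : Function.Surjective φP) (hφY : Function.Surjective φY)
    {g : KP →+ KY} (hg : KRR.IsPushPr n Y φP φY g) {q : KY →+ KP} (hq : KRR.IsPull (KRR.pr n Y) φY φP q)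
    (x : KP) (y : KY) : g (x * q y) = g x * y := by
  obtain ⟨x, rfl⟩ := hφP x
  obtain ⟨y, rfl⟩ := hφY y
  refine SGA6Ext.cls_induction (C := fun y => g (φP x * q (φY y)) = g (φP x) * φY y) (by simp)
    (fun y hy => by simp [mul_neg, hy]) (fun y y' hy hy' => by simp [mul_add, hy, hy']) (fun E hE => ?_) y
  have key : g.comp ((AddMonoidHom.mulRight (φP (SGA6Ext.cls ((Scheme.Modules.pullback (KRR.pr n Y)).obj E)))).comp φP) =
      (AddMonoidHom.mulRight (φY (SGA6Ext.cls E))).comp (g.comp φP) := hom_ext_reg fun F hF => by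
    show g (φP (SGA6Ext.cls F) * φP (SGA6Ext.cls ((Scheme.Modules.pullback (KRR.pr n Y)).obj E))) =
      g (φP (SGA6Ext.cls F)) * φY (SGA6Ext.cls E)
    have hp := DerPerf.isFinLocFree_pullback (KRR.pr n Y) hE
    have hR := isRegSheaf_pull_tensor hE hF.2
    obtain ⟨i⟩ := nonempty_push_tensor (n := n) F hE
    have hT := DerPerf.isFinLocFree_tensor hp hF.1
    rw [mul_comm, hmulP _ _ hp hF.1]
    refine (hg _ hT hR).trans ?_
    refine Eq.trans ?_ (congrArg (· * φY (SGA6Ext.cls E)) (hg F hF.1 hF.2)).symm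
    rw [mul_comm, hmulY _ _ hE (isFinLocFree_push hF.1 hF.2)]
    exact congrArg φY (SGA6Ext.cls_iso i (isFinLocFree_push hT hR))
  rw [hq E hE]
  exact DFunLike.congr_fun key x

end Groth.Agent.PnReg
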