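import Groth.Agent.PnReg.Sections
import Groth.Agent.PnReg.Mate
import Groth.Agent.CohFinite.RPushVanish

/-!
The resolution of a regular sheaf by twisted inverse images.
-/

set_option autoImplicit false
set_option linter.unusedSectionVars false
set_option linter.style.haveILetI false
set_option backward.isDefEq.respectTransparency false
set_option backward.isDefEq.respectTransparency.types false
set_option maxHeartbeats 1000000

universe u

open CategoryTheory CategoryTheory.Limits AlgebraicGeometry TopologicalSpace Opposite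

noncomputable section

namespace Groth.Agent.PnReg

section Unit

variable {X Y Z : Scheme.{u}}

/-- The unit of an open immersion is bijective below its range. -/
theorem bijective_unit_open (j : X ⟶ Y) [IsOpenImmersion j] (M : Y.Modules) {U : Y.Opens} (hU : U ≤ j.opensRange) :
    Function.Bijective (((Scheme.Modules.pullbackPushforwardAdjunction j).unit.app M).app U) := by
  have he : (Scheme.Modules.restrictAdjunction j).unit.app M ≫
      (Scheme.Modules.pushforward j).map ((Scheme.Modules.restrictFunctorIsoPullback j).hom.app M) =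
        (Scheme.Modules.pullbackPushforwardAdjunction j).unit.app M :=
    Adjunction.unit_leftAdjointUniq_hom_app (Scheme.Modules.restrictAdjunction j)
      (Scheme.Modules.pullbackPushforwardAdjunction j) M
  rw [← he]
  have hU' : j ''ᵁ j ⁻¹ᵁ U = U := by rw [Scheme.Hom.image_preimage_eq_opensRange_inf]; exact inf_eq_right.2 hU
  have h1 : Function.Bijective (((Scheme.Modules.restrictAdjunction j).unit.app M).app U) := by
    rw [Scheme.Modules.restrictAdjunction_unit_app_app]
    haveI : IsIso ((Opens.toTopCat Y.toTopCat).map (homOfLE (j.image_preimage_le U))) :=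
      Functor.map_isIso _ (eqToHom hU') |> fun h => by
        rwa [Subsingleton.elim (homOfLE (j.image_preimage_le U)) (eqToHom hU')]
    haveI : IsIso (homOfLE (j.image_preimage_le U)) := by
      rw [Subsingleton.elim (homOfLE (j.image_preimage_le U)) (eqToHom hU')]; infer_instance
    exact ConcreteCategory.bijective_of_isIso _
  haveI : IsIso (((Scheme.Modules.restrictFunctorIsoPullback j).hom.app M).app (j ⁻¹ᵁ U)) := inferInstance
  exact (ConcreteCategory.bijective_of_isIso
    (((Scheme.Modules.restrictFunctorIsoPullback j).hom.app M).app (j ⁻¹ᵁ U))).comp h1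

/-- The unit of a composite. -/
theorem unit_comp_eq (a : X ⟶ Y) (b : Y ⟶ Z) (M : Z.Modules) :
    ((Scheme.Modules.pullbackPushforwardAdjunction b).unit.app M ≫ (Scheme.Modules.pushforward b).map
      ((Scheme.Modules.pullbackPushforwardAdjunction a).unit.app ((Scheme.Modules.pullback b).obj M) ≫
        (Scheme.Modules.pushforward a).map ((Scheme.Modules.pullbackComp a b).hom.app M))) ≫
      (Scheme.Modules.pushforwardComp a b).hom.app _ =
    (Scheme.Modules.pullbackPushforwardAdjunction (a ≫ b)).unit.app M := by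
  have h := homEquiv_comp a b (M := M) (𝟙 ((Scheme.Modules.pullback (a ≫ b)).obj M))
  rw [Category.comp_id, Adjunction.homEquiv_id] at h
  simpa only [Adjunction.homEquiv_unit] using h

theorem surjective_unit_congr {a b : X ⟶ Y} (h : a = b) (M : Y.Modules) (U : Y.Opens)
    (hs : Function.Surjective (((Scheme.Modules.pullbackPushforwardAdjunction a).unit.app M).app U)) :
    Function.Surjective (((Scheme.Modules.pullbackPushforwardAdjunction b).unit.app M).app U) := h ▸ hs

theorem surjective_unit_top {a : X ⟶ Y} {M : Y.Modules} {U : Y.Opens} (hU : U = ⊤)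
    (hs : Function.Surjective (((Scheme.Modules.pullbackPushforwardAdjunction a).unit.app M).app ⊤)) :
    Function.Surjective (((Scheme.Modules.pullbackPushforwardAdjunction a).unit.app M).app U) := hU ▸ hs

theorem surjective_unit_comp (a : X ⟶ Y) (b : Y ⟶ Z) (M : Z.Modules) (U : Z.Opens)
    (hb : Function.Surjective (((Scheme.Modules.pullbackPushforwardAdjunction b).unit.app M).app U))
    (ha : Function.Surjective
      (((Scheme.Modules.pullbackPushforwardAdjunction a).unit.app ((Scheme.Modules.pullback b).obj M)).app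
        (b ⁻¹ᵁ U))) :
    Function.Surjective (((Scheme.Modules.pullbackPushforwardAdjunction (a ≫ b)).unit.app M).app U) := by
  rw [← unit_comp_eq a b M]
  exact ((ConcreteCategory.bijective_of_isIso
    (((Scheme.Modules.pullbackComp a b).hom.app M).app (a ⁻¹ᵁ b ⁻¹ᵁ U))).2.comp ha).comp hb

theorem surjective_unit_left (a : X ⟶ Y) (b : Y ⟶ Z) (M : Z.Modules) (U : Z.Opens)
    (hab : Function.Surjective (((Scheme.Modules.pullbackPushforwardAdjunction (a ≫ b)).unit.app M).app U))
    (ha : Function.Injective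
      (((Scheme.Modules.pullbackPushforwardAdjunction a).unit.app ((Scheme.Modules.pullback b).obj M)).app
        (b ⁻¹ᵁ U))) :
    Function.Surjective (((Scheme.Modules.pullbackPushforwardAdjunction b).unit.app M).app U) := by
  rw [← unit_comp_eq a b M] at hab
  intro z
  have hi := ((ConcreteCategory.bijective_of_isIso
    (((Scheme.Modules.pullbackComp a b).hom.app M).app (a ⁻¹ᵁ b ⁻¹ᵁ U))).1.comp ha)
  obtain ⟨m, hm⟩ := hab (((Scheme.Modules.pullbackComp a b).hom.app M).app (a ⁻¹ᵁ b ⁻¹ᵁ U)
    (((Scheme.Modules.pullbackPushforwardAdjunction a).unit.app ((Scheme.Modules.pullback b).obj M)).app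
      (b ⁻¹ᵁ U) z))
  exact ⟨m, hi hm⟩

end Unit

variable {n : ℕ} {T : Scheme.{u}}

/-- Sections of inverse images over affine opens of the base come from the base. -/
theorem surjective_unit {M : T.Modules} (hM : Coh.IsQCoh M) {V : T.Opens} (hV : IsAffineOpen V) :
    Function.Surjective (((Scheme.Modules.pullbackPushforwardAdjunction (KRR.pr n T)).unit.app M).app V) := by
  let c := chartAt (n := n) hV
  refine surjective_unit_left c.q (KRR.pr n T) M V ?_ (bijective_unit_open c.q _ c.opensRange.ge).1
  refine surjective_unit_congr c.fac.symm M V (surjective_unit_comp _ _ M V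
    (bijective_unit_open c.aff.fromSpec M c.aff.opensRange_fromSpec.ge).2 ?_)
  exact surjective_unit_top c.aff.fromSpec_preimage_self (unit_surjective (QC.isQCoh_pullback _ hM))

/-- Evaluation is injective on sections over preimages of affine opens. -/
theorem injective_counit {F : (CohB1.ProjSpaceOver n T).Modules} (hF : Coh.IsQCoh F) {V : T.Opens}
    (hV : IsAffineOpen V) : Function.Injective
      (((Scheme.Modules.pullbackPushforwardAdjunction (KRR.pr n T)).counit.app F).app (KRR.pr n T ⁻¹ᵁ V)) := by
  let adj := Scheme.Modules.pullbackPushforwardAdjunction (KRR.pr n T)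
  have hl : ∀ m, (adj.counit.app F).app (KRR.pr n T ⁻¹ᵁ V)
      ((adj.unit.app ((Scheme.Modules.pushforward (KRR.pr n T)).obj F)).app V m) = m := fun m =>
    congrArg (fun χ : (Scheme.Modules.pushforward (KRR.pr n T)).obj F ⟶
      (Scheme.Modules.pushforward (KRR.pr n T)).obj F => χ.app V m) (adj.right_triangle_components F)
  intro a b hab
  obtain ⟨x, rfl⟩ := surjective_unit (n := n) (isQCoh_push hF) hV a
  obtain ⟨y, rfl⟩ := surjective_unit (n := n) (isQCoh_push hF) hV b
  rw [hl, hl] at hab
  rw [hab]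

/-- The successive kernels. -/
def iterK (F : (CohB1.ProjSpaceOver n T).Modules) : ℕ → (CohB1.ProjSpaceOver n T).Modules
  | 0 => F
  | j + 1 => KRR.twF n T 1 (Ker (iterK F j))

variable {F : (CohB1.ProjSpaceOver n T).Modules} (hF : Coh.IsQCoh F) (hreg : KRR.IsRegSheaf n T F)

include hF hreg in
theorem iterK_spec : ∀ j, Coh.IsQCoh (iterK F j) ∧ KRR.IsRegSheaf n T (iterK F j)
  | 0 => ⟨hF, hreg⟩
  | j + 1 => ⟨isQCoh_twF 1 (isQCoh_ker (iterK_spec j).1), isRegSheaf_ker (iterK_spec j).1 (iterK_spec j).2⟩

theorem hh_ker_zero {G : (CohB1.ProjSpaceOver n T).Modules} (hG : Coh.IsQCoh G) {V : T.Opens} (c : Chart n T V) :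
    Subsingleton (Coh.HH (CohB1.ProjSpace n Γ(T, V)) (c.Q.obj (Ker G)) 0) := by
  refine (c.subsingleton_iff _ (isQCoh_ker hG) 0).1 ?_
  haveI : Subsingleton Γ(Ker G, CohB1.ProjSpaceOver.toBase n T ⁻¹ᵁ V) := subsingleton_of_forall_eq 0 fun z => by
    let ε := (Scheme.Modules.pullbackPushforwardAdjunction (KRR.pr n T)).counit.app G
    refine Groth.Agent.QC.app_injective_of_mono (kernel.ι ε) _ ?_
    rw [map_zero]
    refine injective_counit hG c.aff ?_
    rw [map_zero]
    exact congrArg (RegKos.ev z) (kernel.condition ε)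
  exact @Equiv.subsingleton _ _ (SiteCoh.hu0 (Coh.toAb (Ker G)) (CohB1.ProjSpaceOver.toBase n T ⁻¹ᵁ V)).toEquiv
    (inferInstanceAs (Subsingleton Γ(Ker G, CohB1.ProjSpaceOver.toBase n T ⁻¹ᵁ V)))

theorem shortExact_ker_chart {G : (CohB1.ProjSpaceOver n T).Modules} (hG : Coh.IsQCoh G)
    (hr : KRR.IsRegSheaf n T G) {V : T.Opens} (c : Chart n T V) :
    ∃ (N : (Spec (CommRingCat.of Γ(T, V))).Modules) (_ : Coh.IsQCoh N)
      (a : c.Q.obj (Ker G) ⟶ (Scheme.Modules.pullback (CohB1.ProjSpace.toSpec n Γ(T, V))).obj N)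
      (b : (Scheme.Modules.pullback (CohB1.ProjSpace.toSpec n Γ(T, V))).obj N ⟶ c.Q.obj G) (w : a ≫ b = 0),
      (ShortComplex.mk a b w).ShortExact := by
  let adj := Scheme.Modules.pullbackPushforwardAdjunction (KRR.pr n T)
  let M := (Scheme.Modules.pushforward (KRR.pr n T)).obj G
  let i : c.Q.obj ((Scheme.Modules.pullback (KRR.pr n T)).obj M) ≅
      (Scheme.Modules.pullback (CohB1.ProjSpace.toSpec n Γ(T, V))).obj
        ((Scheme.Modules.pullback c.aff.fromSpec).obj M) :=
    (Scheme.Modules.pullbackComp c.q (KRR.pr n T)).app M ≪≫ (Scheme.Modules.pullbackCongr c.fac).app M ≪≫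
      ((Scheme.Modules.pullbackComp (CohB1.ProjSpace.toSpec n Γ(T, V)) c.aff.fromSpec).app M).symm
  refine ⟨_, QC.isQCoh_pullback c.aff.fromSpec (isQCoh_push hG), c.Q.map (kernel.ι (adj.counit.app G)) ≫ i.hom,
    i.inv ≫ c.Q.map (adj.counit.app G), ?_, ?_⟩
  · rw [Category.assoc, Iso.hom_inv_id_assoc, ← Functor.map_comp, kernel.condition, Functor.map_zero]
  · exact ShortComplex.shortExact_of_iso
      (ShortComplex.isoMk (S₁ := ShortComplex.map
          (ShortComplex.mk (kernel.ι (adj.counit.app G)) (adj.counit.app G) (kernel.condition _)) c.Q)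
        (Iso.refl _) i (Iso.refl _) (Category.id_comp _)
        ((i.hom_inv_id_assoc _).trans (Category.comp_id _).symm)) (c.shortExact (shortExact_ker hG hr))

include hF hreg in
theorem hh_iterK : ∀ j a : ℕ, a ≤ j → ∀ (V : T.Opens) (c : Chart n T V),
    Subsingleton (Coh.HH (CohB1.ProjSpace n Γ(T, V))
      (CohB1.tensorMod (c.Q.obj (Ker (iterK F j))) (Ot Γ(T, V) n (-(a : ℤ)))) a) := by
  intro j
  induction j with
  | zero =>
    intro a ha V c
    obtain rfl : a = 0 := by omega
    obtain ⟨e⟩ := nonempty_twistF_zero (c.Q.obj (Ker (iterK F 0)))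
    exact CohQC.hh_subsingleton_of_iso e.symm 0 (hh_ker_zero (iterK_spec hF hreg 0).1 c)
  | succ j ih =>
    intro a ha V c
    rcases a with _ | a
    · obtain ⟨e⟩ := nonempty_twistF_zero (c.Q.obj (Ker (iterK F (j + 1))))
      exact CohQC.hh_subsingleton_of_iso e.symm 0 (hh_ker_zero (iterK_spec hF hreg (j + 1)).1 c)
    obtain ⟨hK, hR⟩ := iterK_spec hF hreg (j + 1)
    obtain ⟨N, hN, α, β, w, hS⟩ := shortExact_ker_chart hK hR c
    haveI : Subsingleton (Coh.HH (CohB1.ProjSpace n Γ(T, V))
        (CohB1.tensorMod (c.Q.obj (iterK F (j + 1))) (Ot Γ(T, V) n (-((a + 1 : ℕ) : ℤ)))) a) := by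
      obtain ⟨e⟩ := c.nonempty_twF 1 (Ker (iterK F j))
      obtain ⟨e'⟩ := nonempty_twistF (c.Q.obj (Ker (iterK F j))) 1 (-((a + 1 : ℕ) : ℤ)) (-(a : ℤ))
        (by push_cast; ring)
      exact CohQC.hh_subsingleton_of_iso ((PicGrp.tensorModIso e (Iso.refl _)) ≪≫ e').symm a (ih a (by omega) V c)
    refine LinRes.hh_left (shortExact_twist hS (-((a + 1 : ℕ) : ℤ))) a (fun x => ⟨0, Subsingleton.elim _ _⟩) ?_
    have h := reg_pull (n := n) hN le_rfl (a + 1) (by omega)
    rwa [zero_sub] at h

include hF hreg in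
/-- The last kernel vanishes. -/
theorem isZero_ker_n : IsZero (Ker (iterK F n)) := by
  have hG := isQCoh_ker (iterK_spec hF hreg n).1
  have hregG : KRR.IsRegSheaf n T (Ker (iterK F n)) := (isRegSheaf_iff hG).2 fun V c q hq => by
    rw [zero_sub]
    rcases lt_or_ge n q with h | h
    · exact hh_above _ (isQCoh_twist (c.isQCoh hG) _) q h
    · exact hh_iterK hF hreg n q h V c
  haveI := epi_counit hG hregG
  have hp : IsZero ((Scheme.Modules.pushforward (KRR.pr n T)).obj (Ker (iterK F n))) := by
    refine CohFinite.isZero_of_affine_cover _ (isQCoh_push hG) (fun V : T.affineOpens => V.1) (fun V => V.2)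
      (fun y => ?_) fun V s => ?_
    · obtain ⟨V, hV, hy, -⟩ := exists_isAffineOpen_mem_and_subset (X := T) (x := y) (U := ⊤) trivial
      exact ⟨⟨V, hV⟩, hy⟩
    · let ε := (Scheme.Modules.pullbackPushforwardAdjunction (KRR.pr n T)).counit.app (iterK F n)
      let z : Γ(Ker (iterK F n), KRR.pr n T ⁻¹ᵁ V.1) := s
      show z = 0
      refine Groth.Agent.QC.app_injective_of_mono (kernel.ι ε) _ ?_
      rw [map_zero]
      refine injective_counit (iterK_spec hF hreg n).1 V.2 ?_
      rw [map_zero]
      exact congrArg (RegKos.ev z) (kernel.condition ε)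
  have h0 := (Scheme.Modules.pullback (KRR.pr n T)).map_isZero hp
  exact (IsZero.iff_id_eq_zero _).2 ((cancel_epi
    ((Scheme.Modules.pullbackPushforwardAdjunction (KRR.pr n T)).counit.app (Ker (iterK F n)))).1 (h0.eq_of_src _ _))

end Groth.Agent.PnReg
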