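import Groth.Agent.PnReg.KTwist

/-!
The group of bundles of projective space is free on the twists.
-/

set_option autoImplicit false
set_option linter.unusedSectionVars false
set_option linter.style.haveILetI false
set_option backward.isDefEq.respectTransparency false
set_option backward.isDefEq.respectTransparency.types false
set_option maxHeartbeats 1000000

universe v u

open CategoryTheory CategoryTheory.Limits AlgebraicGeometry TopologicalSpace Opposite
open fwdDiff

noncomputable section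

namespace Groth.Agent.PnReg

variable {n : ℕ} {T : Scheme.{u}}

variable (n T) in
/-- Twisting, on classes. -/
def twK (d : ℤ) : SGA6.Kvb (CohB1.ProjSpaceOver n T) →+ SGA6.Kvb (CohB1.ProjSpaceOver n T) :=
  SGA6Ext.liftK (fun F => SGA6Ext.cls (KRR.twF n T d F.1)) fun S h₁ h₂ h₃ hS => by
    have g₁ := DQCoh.isFinLocFree_of_iso' (twComm d S.X₁).symm (isFinLocFree_twF d h₁)
    have g₂ := DQCoh.isFinLocFree_of_iso' (twComm d S.X₂).symm (isFinLocFree_twF d h₂)
    have g₃ := DQCoh.isFinLocFree_of_iso' (twComm d S.X₃).symm (isFinLocFree_twF d h₃)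
    rw [← SGA6Ext.cls_iso (twComm d S.X₁) g₁, ← SGA6Ext.cls_iso (twComm d S.X₂) g₂,
      ← SGA6Ext.cls_iso (twComm d S.X₃) g₃]
    exact K0Res.clSub_add (fun M => FlatMod.IsFinLocFree M) (CohFinite.shortExact_tmap (L := Twist.twistOver n T d)
      (PicLoc.isInvertible_pullback _ (CohFinite.isInvertible_twist n _ _)) hS) g₁ g₂ g₃

theorem twK_cls (d : ℤ) {F : (CohB1.ProjSpaceOver n T).Modules} (hF : FlatMod.IsFinLocFree F) :
    twK n T d (SGA6Ext.cls F) = SGA6Ext.cls (KRR.twF n T d F) :=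
  SGA6Ext.liftK_cls _ _ F hF

theorem twK_twK (a b c : ℤ) (h : a + b = c) (x : SGA6.Kvb (CohB1.ProjSpaceOver n T)) :
    twK n T a (twK n T b x) = twK n T c x := by
  have e : (twK n T a).comp (twK n T b) = twK n T c := SGA6Ext.hom_ext_cls fun F hF => by
    rw [AddMonoidHom.comp_apply, twK_cls b hF, twK_cls a (isFinLocFree_twF b hF), twK_cls c hF]
    obtain ⟨i⟩ := nonempty_twF_twF F a b c h
    exact SGA6Ext.cls_iso i (isFinLocFree_twF a (isFinLocFree_twF b hF))
  exact DFunLike.congr_fun e x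

theorem twK_zero (x : SGA6.Kvb (CohB1.ProjSpaceOver n T)) : twK n T 0 x = x := by
  have e : twK n T 0 = AddMonoidHom.id _ := SGA6Ext.hom_ext_cls fun F hF => by
    obtain ⟨i⟩ := nonempty_twF_zero F
    rw [twK_cls 0 hF]
    exact SGA6Ext.cls_iso i (isFinLocFree_twF 0 hF)
  exact DFunLike.congr_fun e x

variable (n T) in
/-- The classes `O(d) ⊗ p^* x`. -/
def gen (d : ℤ) : SGA6.Kvb T →+ SGA6.Kvb (CohB1.ProjSpaceOver n T) :=
  (twK n T d).comp (SGA6Ext.pullK (KRR.pr n T))

theorem gen_cls (d : ℤ) {M : T.Modules} (hM : FlatMod.IsFinLocFree M) :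
    gen n T d (SGA6Ext.cls M) = SGA6Ext.cls (KRR.twF n T d ((Scheme.Modules.pullback (KRR.pr n T)).obj M)) := by
  rw [gen, AddMonoidHom.comp_apply, SGA6Ext.pullK_cls _ hM, twK_cls d (DerPerf.isFinLocFree_pullback _ hM)]

theorem twK_gen (a b c : ℤ) (h : a + b = c) (x : SGA6.Kvb T) : twK n T a (gen n T b x) = gen n T c x :=
  twK_twK a b c h _

variable [CompactSpace T]

theorem regP_pull_tensor {M : T.Modules} (hM : FlatMod.IsFinLocFree M) {F : (CohB1.ProjSpaceOver n T).Modules}
    (hF : regP n T F) : regP n T (CohB1.tensorMod ((Scheme.Modules.pullback (KRR.pr n T)).obj M) F) :=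
  ⟨DerPerf.isFinLocFree_tensor (DerPerf.isFinLocFree_pullback (KRR.pr n T) hM) hF.1, isRegSheaf_pull_tensor hM hF.2⟩

theorem cls_push_pull_tensor {M : T.Modules} (hM : FlatMod.IsFinLocFree M)
    {F : (CohB1.ProjSpaceOver n T).Modules} (hF : regP n T F) :
    pushK n T (SGA6Ext.cls (CohB1.tensorMod ((Scheme.Modules.pullback (KRR.pr n T)).obj M) F)) =
      SGA6Ext.mulK T (SGA6Ext.cls M) (SGA6Ext.cls ((Scheme.Modules.pushforward (KRR.pr n T)).obj F)) := by
  have hG := regP_pull_tensor hM hF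
  obtain ⟨i⟩ := nonempty_push_tensor (n := n) F hM
  rw [pushK_cls hG, SGA6Ext.mulK_cls hM (isFinLocFree_push hF.1 hF.2)]
  exact SGA6Ext.cls_iso i (isFinLocFree_push hG.1 hG.2)

theorem pushK_gen_nonneg (j : ℕ) {M : T.Modules} (hM : FlatMod.IsFinLocFree M) :
    pushK n T (gen n T (j : ℤ) (SGA6Ext.cls M)) = ((n + j).choose j : ℤ) • SGA6Ext.cls M := by
  let E := (Scheme.Modules.pullback (KRR.pr n T)).obj M
  let O := Coh.structureModule (CohB1.ProjSpaceOver n T)
  have hE : FlatMod.IsFinLocFree E := DerPerf.isFinLocFree_pullback (KRR.pr n T) hM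
  have hF : regP n T (KRR.twF n T (j : ℤ) O) := regP_twF_unit j
  let e : KRR.twF n T (j : ℤ) E ≅ CohB1.tensorMod E (KRR.twF n T (j : ℤ) O) :=
    (twComm (j : ℤ) E).symm ≪≫ PicGrp.tensorModIso (Iso.refl E) (twUnitIso (j : ℤ)).symm
  have h1 : SGA6Ext.cls (KRR.twF n T (j : ℤ) E) = SGA6Ext.cls (CohB1.tensorMod E (KRR.twF n T (j : ℤ) O)) :=
    SGA6Ext.cls_iso e (isFinLocFree_twF (j : ℤ) hE)
  rw [gen_cls _ hM]
  refine (congrArg (pushK n T) h1).trans ?_
  refine (cls_push_pull_tensor hM hF).trans ?_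
  rw [cls_push_twist, map_zsmul, SGA6Ext.mulK_comm]
  exact congrArg _ (SGA6Ext.mulK_one (isFinLocFree_unit T) _)

theorem pushK_gen_zero (x : SGA6.Kvb T) : pushK n T (gen n T 0 x) = x := by
  have e : (pushK n T).comp (gen n T 0) = AddMonoidHom.id _ := SGA6Ext.hom_ext_cls fun M hM => by
    have h := pushK_gen_nonneg (n := n) 0 hM
    rw [Nat.cast_zero, Nat.choose_zero_right, Nat.cast_one, one_smul] at h
    exact h
  exact DFunLike.congr_fun e x

theorem pushK_gen_neg {i : ℕ} (hi : 1 ≤ i) (hin : i ≤ n) (x : SGA6.Kvb T) :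
    pushK n T (gen n T (-(i : ℤ)) x) = 0 := by
  have e : (pushK n T).comp (gen n T (-(i : ℤ))) = 0 := SGA6Ext.hom_ext_cls fun M hM => by
    let F := KRR.twF n T (-(i : ℤ)) ((Scheme.Modules.pullback (KRR.pr n T)).obj M)
    have hF : FlatMod.IsFinLocFree F := isFinLocFree_twF _ (DerPerf.isFinLocFree_pullback _ hM)
    let b : ℕ → SGA6.Kvb (CohB1.ProjSpaceOver n T) := fun k => SGA6Ext.cls (KRR.twF n T (k : ℤ) F)
    obtain ⟨z⟩ := nonempty_twF_zero F
    have h0 : SGA6Ext.cls F = b 0 := SGA6Ext.cls_iso z.symm hF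
    rw [AddMonoidHom.comp_apply, gen_cls _ hM, h0, ← Newton.newt_zero n b,
      ← Newton.newt_le n b (Nat.zero_le i) fun k _ => cls_seq_rel hF k, Newton.newt_map]
    rw [Newton.newt_congr n (b := fun k : ℕ => ((k + (n - i)).choose n : ℤ) • SGA6Ext.cls M) fun k hk => ?_]
    · exact newt_choose_zero hi hin _ i
    · show pushK n T (b k) = _
      rw [show b k = twK n T (k : ℤ) (gen n T (-(i : ℤ)) (SGA6Ext.cls M)) by rw [gen_cls _ hM, twK_cls _ hF],
        twK_gen (k : ℤ) (-(i : ℤ)) ((k - i : ℕ) : ℤ) (by omega), pushK_gen_nonneg _ hM,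
        show k + (n - i) = n + (k - i) by omega, ← Nat.choose_symm_add]
  exact DFunLike.congr_fun e x

theorem cls_eq_sum {F : (CohB1.ProjSpaceOver n T).Modules} (hF : FlatMod.IsFinLocFree F)
    (hreg : KRR.IsRegSheaf n T F) :
    SGA6Ext.cls F = ∑ i : Fin (n + 1), gen n T (-((i : ℕ) : ℤ))
      ((-1 : ℤ) ^ (i : ℕ) • SGA6Ext.cls ((Scheme.Modules.pushforward (KRR.pr n T)).obj (iterK F i))) := by
  let adj := Scheme.Modules.pullbackPushforwardAdjunction (KRR.pr n T)
  let K : ℕ → SGA6.Kvb (CohB1.ProjSpaceOver n T) := fun i => twK n T (-(i : ℤ)) (SGA6Ext.cls (iterK F i))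
  let P : ℕ → SGA6.Kvb T := fun i => SGA6Ext.cls ((Scheme.Modules.pushforward (KRR.pr n T)).obj (iterK F i))
  have hstep : ∀ i : ℕ, gen n T (-(i : ℤ)) (P i) = K i + K (i + 1) := by
    intro i
    obtain ⟨hq, hr⟩ := iterK_spec (isQCoh_of_finLocFree hF) hreg i
    have hK := isFinLocFree_iterK hF hreg i
    haveI := epi_counit hq hr
    have hT := isFinLocFree_push hK hr
    have hp := DerPerf.isFinLocFree_pullback (KRR.pr n T) hT
    have hker : FlatMod.IsFinLocFree (Ker (iterK F i)) := DCohLocus.isFinLocFree_kernel _ hp hK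
    have h := K0Res.clSub_add (fun M => FlatMod.IsFinLocFree M) (shortExact_ker hq hr) hker hp hK
    have h' : SGA6Ext.pullK (KRR.pr n T) (P i) = SGA6Ext.cls (Ker (iterK F i)) + SGA6Ext.cls (iterK F i) :=
      (SGA6Ext.pullK_cls _ hT).trans h
    have hnext : K (i + 1) = twK n T (-(i : ℤ)) (SGA6Ext.cls (Ker (iterK F i))) := by
      show twK n T (-((i + 1 : ℕ) : ℤ)) (SGA6Ext.cls (KRR.twF n T 1 (Ker (iterK F i)))) = _
      rw [← twK_cls 1 hker, twK_twK (-((i + 1 : ℕ) : ℤ)) 1 (-(i : ℤ)) (by push_cast; ring)]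
    rw [hnext, show gen n T (-(i : ℤ)) (P i) = twK n T (-(i : ℤ)) (SGA6Ext.pullK (KRR.pr n T) (P i)) from rfl, h',
      map_add, add_comm]
  have htel : ∀ m : ℕ, ∑ i ∈ Finset.range m, (-1 : ℤ) ^ i • gen n T (-(i : ℤ)) (P i) =
      K 0 - (-1 : ℤ) ^ m • K m := by
    intro m
    induction m with
    | zero => simp
    | succ m ih =>
      rw [Finset.sum_range_succ, ih, hstep, pow_succ, smul_add]
      simp only [mul_neg_one, neg_smul]
      abel
  have hz : SGA6Ext.cls (iterK F (n + 1)) = 0 := by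
    have hz := isZero_iterK (isQCoh_of_finLocFree hF) hreg (Nat.lt_succ_self n)
    have hf := DQCoh.isFinLocFree_of_isZero hz
    have h1 : (ShortComplex.mk (0 : iterK F (n + 1) ⟶ iterK F (n + 1)) (0 : iterK F (n + 1) ⟶ iterK F (n + 1)) zero_comp).ShortExact :=
      { exact := ShortComplex.exact_of_isZero_X₂ _ hz
        mono_f := ⟨fun _ _ _ => hz.eq_of_tgt _ _⟩
        epi_g := ⟨fun _ _ _ => hz.eq_of_src _ _⟩ }
    exact left_eq_add.1 (K0Res.clSub_add (fun M => FlatMod.IsFinLocFree M) h1 hf hf hf)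
  have h := htel (n + 1)
  rw [show K (n + 1) = 0 from (congrArg _ hz).trans (map_zero _), smul_zero, sub_zero,
    show K 0 = SGA6Ext.cls F from twK_zero _, ← Fin.sum_univ_eq_sum_range] at h
  rw [← h]
  exact Finset.sum_congr rfl fun i _ => (map_zsmul _ _ _).symm

variable (n T) in
/-- The combinations of the twists. -/
def comb : (Fin (n + 1) → SGA6.Kvb T) →+ SGA6.Kvb (CohB1.ProjSpaceOver n T) where
  toFun x := ∑ i : Fin (n + 1), gen n T ((i : ℕ) : ℤ) (x i)
  map_zero' := by simp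
  map_add' x y := by simp [Finset.sum_add_distrib]

theorem bijective_comb : Function.Bijective (comb n T) := by
  constructor
  · refine (injective_iff_map_eq_zero _).2 fun x hx => ?_
    have key : ∀ d : ℕ, ∀ i : Fin (n + 1), n < (i : ℕ) + d → x i = 0 := by
      intro d
      induction d with
      | zero => intro i hi; have := i.isLt; omega
      | succ d ih =>
        intro i hi
        rcases lt_or_ge n ((i : ℕ) + d) with h | h
        · exact ih i h
        have h' : ∀ j : Fin (n + 1), pushK n T (twK n T (-((i : ℕ) : ℤ)) (gen n T ((j : ℕ) : ℤ) (x j))) =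
            if j = i then x i else 0 := fun j => by
          rcases lt_trichotomy (j : ℕ) (i : ℕ) with hlt | heq | hgt
          · rw [twK_gen _ _ (-(((i : ℕ) - (j : ℕ) : ℕ) : ℤ)) (by omega),
              pushK_gen_neg (by omega) (by omega), if_neg (fun hh => by rw [hh] at hlt; omega)]
          · obtain rfl : j = i := Fin.ext heq
            rw [twK_gen _ _ 0 (by ring), pushK_gen_zero, if_pos rfl]
          · rw [ih j (by omega), map_zero, map_zero, map_zero, if_neg (fun hh => by rw [hh] at hgt; omega)]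
        have h0 := congrArg (fun z => pushK n T (twK n T (-((i : ℕ) : ℤ)) z)) hx
        simp only [comb, AddMonoidHom.coe_mk, ZeroHom.coe_mk, map_sum, map_zero, h', Finset.sum_ite_eq',
          Finset.mem_univ, if_true] at h0
        exact h0
    exact funext fun i => key (n + 1) i (by omega)
  · intro z
    have hm : twK n T (-(n : ℤ)) z ∈ (((twK n T (-(n : ℤ))).comp (comb n T)).range) := by
      rw [← ofReg_toReg (twK n T (-(n : ℤ)) z)]
      refine sub_induction (Q := fun y => ofReg n T y ∈ ((twK n T (-(n : ℤ))).comp (comb n T)).range) (by simp)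
        (fun y hy => by rw [map_neg]; exact neg_mem hy) (fun y y' hy hy' => by rw [map_add]; exact add_mem hy hy')
        (fun F hF => ?_) _
      show ofReg n T (clr F) ∈ _
      rw [ofReg_clr hF, cls_eq_sum hF.1 hF.2]
      refine ⟨fun i => (-1 : ℤ) ^ (n - (i : ℕ)) •
        SGA6Ext.cls ((Scheme.Modules.pushforward (KRR.pr n T)).obj (iterK F (n - (i : ℕ)))), ?_⟩
      simp only [AddMonoidHom.comp_apply, comb, AddMonoidHom.coe_mk, ZeroHom.coe_mk, map_sum]
      refine Fintype.sum_equiv Fin.revPerm _ _ fun i => ?_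
      rw [twK_gen _ _ (-((n - (i : ℕ) : ℕ) : ℤ)) (by omega)]
      simp only [Fin.revPerm_apply, Fin.val_rev, show n + 1 - ((i : ℕ) + 1) = n - (i : ℕ) by omega]
    obtain ⟨x, hx⟩ := hm
    refine ⟨x, ?_⟩
    have h := congrArg (twK n T (n : ℤ)) hx
    rw [AddMonoidHom.comp_apply, twK_twK _ _ 0 (by ring), twK_twK _ _ 0 (by ring), twK_zero, twK_zero] at h
    exact h

theorem mapSub_clSub {C D : Type*} [Category C] [Abelian C] [Category D] [Abelian D] (F : C ⥤ D) [F.Additive]
    [PreservesFiniteLimits F] [PreservesFiniteColimits F] (P : ObjectProperty C) (Q : ObjectProperty D)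
    (h : ∀ X, P X → Q (F.obj X)) {M : C} (hM : P M) :
    SGA6.mapSub F P Q h (KZero.clSub P M) = KZero.clSub Q (F.obj M) := by
  rw [K0Res.clSub_eq _ hM, K0Res.clSub_eq _ (h M hM)]
  simp [SGA6.mapSub, SGA6.objMap, FreeAbelianGroup.map_of_apply]

end Groth.Agent.PnReg

namespace Groth.Agent.PnReg

/-- The map of the statement. -/
theorem mapSub_eq_gen {r : ℕ} {S : Scheme.{u}} (d : ℤ)
    [(Scheme.Modules.pullback (CohB1.ProjSpaceOver.toBase r S)).Additive]
    [PreservesFiniteLimits (Scheme.Modules.pullback (CohB1.ProjSpaceOver.toBase r S))]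
    [PreservesFiniteColimits (Scheme.Modules.pullback (CohB1.ProjSpaceOver.toBase r S))]
    [((DCoh.tensorBi (X := CohB1.ProjSpaceOver r S)).obj (Twist.twistOver r S d)).Additive]
    [PreservesFiniteLimits ((DCoh.tensorBi (X := CohB1.ProjSpaceOver r S)).obj (Twist.twistOver r S d))]
    [PreservesFiniteColimits ((DCoh.tensorBi (X := CohB1.ProjSpaceOver r S)).obj (Twist.twistOver r S d))]
    (hf : ∀ M : S.Modules, FlatMod.IsFinLocFree M →
      FlatMod.IsFinLocFree ((Scheme.Modules.pullback (CohB1.ProjSpaceOver.toBase r S)).obj M))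
    (ht : ∀ M : (CohB1.ProjSpaceOver r S).Modules, FlatMod.IsFinLocFree M →
      FlatMod.IsFinLocFree (((DCoh.tensorBi (X := CohB1.ProjSpaceOver r S)).obj (Twist.twistOver r S d)).obj M))
    (x : SGA6.Kvb S) :
    SGA6.mapSub ((DCoh.tensorBi (X := CohB1.ProjSpaceOver r S)).obj (Twist.twistOver r S d))
      (fun M : (CohB1.ProjSpaceOver r S).Modules => FlatMod.IsFinLocFree M)
      (fun M : (CohB1.ProjSpaceOver r S).Modules => FlatMod.IsFinLocFree M) ht
      (SGA6.mapSub (Scheme.Modules.pullback (CohB1.ProjSpaceOver.toBase r S))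
        (fun M : S.Modules => FlatMod.IsFinLocFree M)
        (fun M : (CohB1.ProjSpaceOver r S).Modules => FlatMod.IsFinLocFree M) hf x) = gen r S d x := by
  refine DFunLike.congr_fun (SGA6Ext.hom_ext_cls (f := (SGA6.mapSub ((DCoh.tensorBi (X := CohB1.ProjSpaceOver r S)).obj (Twist.twistOver r S d))
      (fun M : (CohB1.ProjSpaceOver r S).Modules => FlatMod.IsFinLocFree M)
      (fun M : (CohB1.ProjSpaceOver r S).Modules => FlatMod.IsFinLocFree M) ht).comp
      (SGA6.mapSub (Scheme.Modules.pullback (CohB1.ProjSpaceOver.toBase r S))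
        (fun M : S.Modules => FlatMod.IsFinLocFree M)
        (fun M : (CohB1.ProjSpaceOver r S).Modules => FlatMod.IsFinLocFree M) hf)) fun M hM => ?_) x
  rw [gen_cls d hM, AddMonoidHom.comp_apply, SGA6Ext.cls, mapSub_clSub _ _ _ hf hM, mapSub_clSub _ _ _ ht (hf M hM)]
  rfl

end Groth.Agent.PnReg
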