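import Groth.Agent.PnReg.KReg

/-!
Grothendieck groups of regular bundles and of all bundles agree.
-/

set_option autoImplicit false
set_option linter.unusedSectionVars false
set_option linter.style.haveILetI false
set_option backward.isDefEq.respectTransparency false
set_option backward.isDefEq.respectTransparency.types false
set_option maxHeartbeats 1000000

universe u

open CategoryTheory CategoryTheory.Limits AlgebraicGeometry TopologicalSpace Opposite
open fwdDiff

noncomputable section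

namespace Groth.Agent.PnReg

section Lift

variable {C : Type*} [Category C] [Abelian C] {P : ObjectProperty C} {A : Type*} [AddCommGroup A]

/-- Homomorphisms out of a Grothendieck group. -/
def liftSub (f : Subtype P → A)
    (hf : ∀ (S : ShortComplex C) (h₁ : P S.X₁) (h₂ : P S.X₂) (h₃ : P S.X₃), S.ShortExact →
      f ⟨S.X₂, h₂⟩ = f ⟨S.X₁, h₁⟩ + f ⟨S.X₃, h₃⟩) : KZero.K0sub P →+ A :=
  QuotientAddGroup.lift _ (FreeAbelianGroup.lift f) (by
    rw [KZero.relSub, AddSubgroup.closure_le]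
    rintro x ⟨S, h₁, h₂, h₃, hS, rfl⟩
    simp [AddMonoidHom.mem_ker, hf S h₁ h₂ h₃ hS])

theorem liftSub_cl (f : Subtype P → A) (hf) {M : C} (hM : P M) :
    liftSub f hf (KZero.clSub P M) = f ⟨M, hM⟩ := by
  rw [K0Res.clSub_eq P hM]
  exact (QuotientAddGroup.lift_mk _ _ _).trans (FreeAbelianGroup.lift_apply_of _ _)

theorem sub_induction {Q : KZero.K0sub P → Prop} (h0 : Q 0) (hneg : ∀ x, Q x → Q (-x))
    (hadd : ∀ x y, Q x → Q y → Q (x + y)) (hM : ∀ M, P M → Q (KZero.clSub P M)) (x : KZero.K0sub P) : Q x := by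
  induction x using QuotientAddGroup.induction_on with
  | H a =>
    induction a using FreeAbelianGroup.induction_on with
    | zero => exact h0
    | of M =>
      have := hM M.1 M.2
      rw [K0Res.clSub_eq P M.2] at this
      exact this
    | neg M h => exact hneg _ h
    | add a b ha hb => exact hadd _ _ ha hb

end Lift

variable {n : ℕ} {T : Scheme.{u}}

theorem clr_iso {M N : (CohB1.ProjSpaceOver n T).Modules} (e : M ≅ N) (h : regP n T M) : clr M = clr N :=
  clSub_iso _ e h (regP_iso e h) regP_zero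

/-- The sequence of twists in the group of regular bundles. -/
abbrev tseq (F : (CohB1.ProjSpaceOver n T).Modules) : ℕ → KZero.K0sub (regP n T) :=
  fun j => clr (KRR.twF n T (j : ℤ) F)

theorem tseq_rel {F : (CohB1.ProjSpaceOver n T).Modules} (hF : FlatMod.IsFinLocFree F) {k : ℕ}
    (hk : KRR.IsRegSheaf n T (KRR.twF n T (k : ℤ) F)) : Newton.Rel n (tseq F) k := by
  have h := clr_rel (n := n) ⟨isFinLocFree_twF _ hF, hk⟩
  unfold Newton.Rel at h ⊢
  rw [fwdDiff_iter_eq_sum_shift] at h ⊢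
  refine Eq.trans (Finset.sum_congr rfl fun j hj => ?_) h
  obtain ⟨e⟩ := nonempty_twF_twF (n := n) F (j : ℤ) (k : ℤ) ((k + j : ℕ) : ℤ) (by push_cast; ring)
  have hr : regP n T (KRR.twF n T (j : ℤ) (KRR.twF n T (k : ℤ) F)) :=
    ⟨isFinLocFree_twF _ (isFinLocFree_twF _ hF), isRegSheaf_twF (isQCoh_of_finLocFree (isFinLocFree_twF _ hF)) hk j⟩
  simp only [smul_eq_mul, mul_one, zero_add, tseq]
  rw [clr_iso e hr]

theorem cls_seq_rel {F : (CohB1.ProjSpaceOver n T).Modules} (hF : FlatMod.IsFinLocFree F) (k : ℕ) :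
    Newton.Rel n (fun j : ℕ => SGA6Ext.cls (KRR.twF n T (j : ℤ) F)) k := by
  have h := cls_rel (n := n) (isFinLocFree_twF (k : ℤ) hF)
  unfold Newton.Rel at h ⊢
  rw [fwdDiff_iter_eq_sum_shift] at h ⊢
  refine Eq.trans (Finset.sum_congr rfl fun j hj => ?_) h
  obtain ⟨e⟩ := nonempty_twF_twF (n := n) F (j : ℤ) (k : ℤ) ((k + j : ℕ) : ℤ) (by push_cast; ring)
  simp only [smul_eq_mul, mul_one, zero_add]
  rw [SGA6Ext.cls_iso e (isFinLocFree_twF _ (isFinLocFree_twF _ hF))]

variable [CompactSpace T]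

/-- A bound beyond which the twists are regular. -/
def rbound {F : (CohB1.ProjSpaceOver n T).Modules} (hF : FlatMod.IsFinLocFree F) : ℕ := (exists_reg_twF hF).choose

theorem rbound_spec {F : (CohB1.ProjSpaceOver n T).Modules} (hF : FlatMod.IsFinLocFree F) {m : ℕ}
    (hm : rbound hF ≤ m) : KRR.IsRegSheaf n T (KRR.twF n T (m : ℤ) F) := (exists_reg_twF hF).choose_spec m hm

theorem newt_eq {F : (CohB1.ProjSpaceOver n T).Modules} (hF : FlatMod.IsFinLocFree F) {m : ℕ}
    (hm : rbound hF ≤ m) : Newton.newt n (tseq F) m = Newton.newt n (tseq F) (rbound hF) :=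
  Newton.newt_le n _ hm fun _ hk => tseq_rel hF (rbound_spec hF hk)

variable (n T)

/-- Bundles as combinations of regular bundles. -/
def toReg : SGA6.Kvb (CohB1.ProjSpaceOver n T) →+ KZero.K0sub (regP n T) :=
  SGA6Ext.liftK (fun F => Newton.newt n (tseq F.1) (rbound F.2)) fun S h₁ h₂ h₃ hS => by
    let m := max (rbound h₁) (max (rbound h₂) (rbound h₃))
    rw [← newt_eq h₁ (le_max_left _ _ : rbound h₁ ≤ m),
      ← newt_eq h₂ ((le_max_left _ _).trans (le_max_right _ _) : rbound h₂ ≤ m),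
      ← newt_eq h₃ ((le_max_right _ _).trans (le_max_right _ _) : rbound h₃ ≤ m), ← Newton.newt_add]
    refine Newton.newt_congr n fun k hk => ?_
    have k₁ : rbound h₁ ≤ k := (le_max_left _ _ : rbound h₁ ≤ m).trans hk
    have k₂ : rbound h₂ ≤ k := ((le_max_left _ _).trans (le_max_right _ _) : rbound h₂ ≤ m).trans hk
    have k₃ : rbound h₃ ≤ k := ((le_max_right _ _).trans (le_max_right _ _) : rbound h₃ ≤ m).trans hk
    have hT := CohFinite.shortExact_tmap (L := Twist.twistOver n T (k : ℤ))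
      (PicLoc.isInvertible_pullback _ (CohFinite.isInvertible_twist n _ _)) hS
    have p₁ : regP n T (KRR.twF n T (k : ℤ) S.X₁) := ⟨isFinLocFree_twF _ h₁, rbound_spec h₁ k₁⟩
    have p₂ : regP n T (KRR.twF n T (k : ℤ) S.X₂) := ⟨isFinLocFree_twF _ h₂, rbound_spec h₂ k₂⟩
    have p₃ : regP n T (KRR.twF n T (k : ℤ) S.X₃) := ⟨isFinLocFree_twF _ h₃, rbound_spec h₃ k₃⟩
    simp only [Pi.add_apply, tseq]
    rw [← clr_iso (twComm _ _) (regP_iso (twComm _ _).symm p₁), ← clr_iso (twComm _ _) (regP_iso (twComm _ _).symm p₂),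
      ← clr_iso (twComm _ _) (regP_iso (twComm _ _).symm p₃)]
    exact K0Res.clSub_add (regP n T) hT (regP_iso (twComm _ _).symm p₁) (regP_iso (twComm _ _).symm p₂)
      (regP_iso (twComm _ _).symm p₃)

/-- The inclusion. -/
def ofReg : KZero.K0sub (regP n T) →+ SGA6.Kvb (CohB1.ProjSpaceOver n T) :=
  liftSub (fun F => SGA6Ext.cls F.1) fun S h₁ h₂ h₃ hS =>
    K0Res.clSub_add (fun M => FlatMod.IsFinLocFree M) hS h₁.1 h₂.1 h₃.1

variable {n T}

theorem ofReg_clr {F : (CohB1.ProjSpaceOver n T).Modules} (hF : regP n T F) :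
    ofReg n T (clr F) = SGA6Ext.cls F :=
  liftSub_cl _ _ hF

theorem toReg_cls {F : (CohB1.ProjSpaceOver n T).Modules} (hF : FlatMod.IsFinLocFree F) :
    toReg n T (SGA6Ext.cls F) = Newton.newt n (tseq F) (rbound hF) :=
  SGA6Ext.liftK_cls _ _ F hF

theorem toReg_ofReg (x : KZero.K0sub (regP n T)) : toReg n T (ofReg n T x) = x := by
  refine sub_induction (Q := fun x => toReg n T (ofReg n T x) = x) (by simp) (fun x hx => by simp [hx])
    (fun x y hx hy => by simp [hx, hy]) (fun F hF => ?_) x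
  show toReg n T (ofReg n T (clr F)) = clr F
  rw [ofReg_clr hF, toReg_cls hF.1]
  rw [Newton.newt_le n (tseq F) (Nat.zero_le _) fun k _ =>
      tseq_rel hF.1 (isRegSheaf_twF (isQCoh_of_finLocFree hF.1) hF.2 k), Newton.newt_zero]
  obtain ⟨e⟩ := nonempty_twF_zero F
  exact clr_iso e ⟨isFinLocFree_twF _ hF.1, isRegSheaf_of_iso e.symm hF.2⟩

theorem ofReg_toReg (x : SGA6.Kvb (CohB1.ProjSpaceOver n T)) : ofReg n T (toReg n T x) = x := by
  refine SGA6Ext.cls_induction (C := fun x => ofReg n T (toReg n T x) = x) (by simp) (fun x hx => by simp [hx])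
    (fun x y hx hy => by simp [hx, hy]) (fun F hF => ?_) x
  rw [toReg_cls hF, Newton.newt_map]
  rw [Newton.newt_congr n (b := fun j : ℕ => SGA6Ext.cls (KRR.twF n T (j : ℤ) F)) fun k hk =>
      ofReg_clr ⟨isFinLocFree_twF _ hF, rbound_spec hF hk⟩]
  rw [Newton.newt_le n _ (Nat.zero_le _) fun k _ => cls_seq_rel hF k, Newton.newt_zero]
  obtain ⟨e⟩ := nonempty_twF_zero F
  exact SGA6Ext.cls_iso e (isFinLocFree_twF _ hF)

variable (n T) in
theorem bijective_incl (h : ∀ M : (KRR.PY n T).Modules, regP n T M → FlatMod.IsFinLocFree M) :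
    Function.Bijective (SGA6.mapSub (𝟭 (KRR.PY n T).Modules) (regP n T) (KRR.vbP (KRR.PY n T)) h) := by
  have he : ∀ x, SGA6.mapSub (𝟭 (KRR.PY n T).Modules) (regP n T) (KRR.vbP (KRR.PY n T)) h x = ofReg n T x := by
    refine sub_induction (by simp only [map_zero]) (fun x hx => by simp only [map_neg, hx])
      (fun x y hx hy => by simp only [map_add, hx, hy]) fun M hM => ?_
    rw [ofReg_clr hM]
    rw [K0Res.clSub_eq _ hM]
    show _ = KZero.clSub _ M
    rw [K0Res.clSub_eq _ hM.1]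
    simp [SGA6.mapSub, SGA6.objMap, FreeAbelianGroup.map_of_apply]
  refine Function.bijective_iff_has_inverse.2 ⟨toReg n T, fun x => ?_, fun x => ?_⟩
  · rw [he, toReg_ofReg]
  · rw [he, ofReg_toReg]

end Groth.Agent.PnReg
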