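import Groth.Agent.PnReg.Chart
import Groth.Agent.RegTilde.LinRes

/-!
Exact sequences of regular sheaves on `P^n_T`.
-/

set_option autoImplicit false
set_option linter.unusedSectionVars false
set_option linter.style.haveILetI false
set_option backward.isDefEq.respectTransparency false
set_option backward.isDefEq.respectTransparency.types false
set_option maxHeartbeats 1000000

universe u

open CategoryTheory CategoryTheory.Limits AlgebraicGeometry TopologicalSpace Opposite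

noncomputable section

namespace Groth.Agent.PnReg

section Ring

variable {R : Type u} [CommRing R] {n : ℕ} {S : ShortComplex (CohB1.ProjSpace n R).Modules}

theorem shortExact_twist (hS : S.ShortExact) (c : ℤ) :
    (ShortComplex.mk (CohFinite.tmap S.f (Ot R n c)) (CohFinite.tmap S.g (Ot R n c))
      (by rw [← CohFinite.tmap_comp, S.zero, CohFinite.tmap_zero])).ShortExact :=
  CohFinite.shortExact_tmap (CohFinite.isInvertible_twist n R c) hS

theorem reg_X2 (hS : S.ShortExact) {m : ℤ} (h₁ : Reg S.X₁ m) (h₃ : Reg S.X₃ m) : Reg S.X₂ m :=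
  fun q hq => CohFinite.subsingleton_of_shortExact_mid (shortExact_twist hS _) q (h₁ q hq) (h₃ q hq)

theorem reg_X3 (hS : S.ShortExact) {m : ℤ} (h₂ : Reg S.X₂ m) (h₁ : Reg S.X₁ (m + 1)) : Reg S.X₃ m :=
  fun q hq => CohFinite.subsingleton_of_shortExact (shortExact_twist hS _) q (h₂ q hq) (by
    have h := h₁ (q + 1) (by omega)
    rwa [show m + 1 - ((q + 1 : ℕ) : ℤ) = m - q by push_cast; ring] at h)

theorem reg_X1 (hS : S.ShortExact) (h₂ : Reg S.X₂ 1) (h₃ : Reg S.X₃ 0)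
    (hs : Function.Surjective (S.g.app ⊤)) : Reg S.X₁ 1 := by
  intro q hq
  obtain ⟨p, rfl⟩ : ∃ p, q = p + 1 := ⟨q - 1, by omega⟩
  rcases Nat.eq_zero_or_pos p with hp | hp
  · subst hp
    norm_num
    obtain ⟨i₁⟩ := nonempty_twistF_zero S.X₁
    obtain ⟨i₂⟩ := nonempty_twistF_zero S.X₂
    have h := h₂ 1 le_rfl
    norm_num at h
    exact CohQC.hh_subsingleton_of_iso i₁.symm 1
      (LinRes.hh_left hS 0 (LinRes.h0_surj S.g fun z => hs z) (CohQC.hh_subsingleton_of_iso i₂ 1 h))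
  · refine LinRes.hh_left (shortExact_twist hS _) p (fun x => ⟨0, ?_⟩) (h₂ (p + 1) hq)
    haveI : Subsingleton (Coh.HH (CohB1.ProjSpace n R) (CohB1.tensorMod S.X₃ (Ot R n (1 - ((p + 1 : ℕ) : ℤ)))) p) := by
      have h := h₃ p hp
      rwa [show (0 : ℤ) - (p : ℤ) = 1 - ((p + 1 : ℕ) : ℤ) by push_cast; ring] at h
    exact Subsingleton.elim _ _

end Ring

variable {n : ℕ} {T : Scheme.{u}}

theorem isRegSheaf_twF {F : (CohB1.ProjSpaceOver n T).Modules} (hF : Coh.IsQCoh F) (hreg : KRR.IsRegSheaf n T F)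
    (m : ℕ) : KRR.IsRegSheaf n T (KRR.twF n T (m : ℤ) F) :=
  (isRegSheaf_iff (isQCoh_twF _ hF)).2 fun V c => (c.reg_twF (m : ℤ) F).2 (by
    simpa using reg_add (c.isQCoh hF) ((isRegSheaf_iff hF).1 hreg V c) m)

theorem isZero_rpush_of_reg {F : (CohB1.ProjSpaceOver n T).Modules} (hF : Coh.IsQCoh F)
    (hreg : KRR.IsRegSheaf n T F) (i : ℕ) (hi : 1 ≤ i) :
    IsZero ((Coh.RpushAb (KRR.pr n T) i).obj (Coh.toAb F)) :=
  (isZero_iff F hF i).2 fun V c => hh_of_reg (c.isQCoh hF) ((isRegSheaf_iff hF).1 hreg V c) i hi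

variable {S : ShortComplex (CohB1.ProjSpaceOver n T).Modules}

theorem isRegSheaf_X2 (hS : S.ShortExact) (h₁ : Coh.IsQCoh S.X₁) (h₂ : Coh.IsQCoh S.X₂) (h₃ : Coh.IsQCoh S.X₃)
    (r₁ : KRR.IsRegSheaf n T S.X₁) (r₃ : KRR.IsRegSheaf n T S.X₃) : KRR.IsRegSheaf n T S.X₂ :=
  (isRegSheaf_iff h₂).2 fun V c =>
    reg_X2 (c.shortExact hS) ((isRegSheaf_iff h₁).1 r₁ V c) ((isRegSheaf_iff h₃).1 r₃ V c)

theorem isRegSheaf_X3 (hS : S.ShortExact) (h₁ : Coh.IsQCoh S.X₁) (h₂ : Coh.IsQCoh S.X₂) (h₃ : Coh.IsQCoh S.X₃)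
    (r₂ : KRR.IsRegSheaf n T S.X₂) (r₁ : KRR.IsRegSheaf n T (KRR.twF n T 1 S.X₁)) : KRR.IsRegSheaf n T S.X₃ :=
  (isRegSheaf_iff h₃).2 fun V c =>
    reg_X3 (c.shortExact hS) ((isRegSheaf_iff h₂).1 r₂ V c) (by
      rw [zero_add]
      exact (c.reg_twF 1 S.X₁).1 ((isRegSheaf_iff (isQCoh_twF _ h₁)).1 r₁ V c))

theorem Chart.opensRange {V : T.Opens} (c : Chart n T V) :
    c.q.opensRange = CohB1.ProjSpaceOver.toBase n T ⁻¹ᵁ V := by
  refine TopologicalSpace.Opens.ext ?_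
  refine c.range.trans ?_
  exact Scheme.Opens.range_ι _

/-- Surjectivity on the preimage is surjectivity in the chart. -/
theorem Chart.surjective_map {V : T.Opens} (c : Chart n T V) {M N : (CohB1.ProjSpaceOver n T).Modules} (g : M ⟶ N)
    (h : Function.Surjective (g.app (CohB1.ProjSpaceOver.toBase n T ⁻¹ᵁ V))) :
    Function.Surjective ((c.Q.map g).app ⊤) := by
  let α := Scheme.Modules.restrictFunctorIsoPullback c.q
  have h' : Function.Surjective (((Scheme.Modules.restrictFunctor c.q).map g).app ⊤) := by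
    have he : c.q ''ᵁ (⊤ : (CohB1.ProjSpace n Γ(T, V)).Opens) = CohB1.ProjSpaceOver.toBase n T ⁻¹ᵁ V :=
      (Scheme.Hom.image_top_eq_opensRange c.q).trans c.opensRange
    change Function.Surjective (g.app (c.q ''ᵁ ⊤))
    rw [he]
    exact h
  intro z
  obtain ⟨w, hw⟩ := h' ((α.inv.app N).app ⊤ z)
  refine ⟨(α.hom.app M).app ⊤ w, ?_⟩
  refine (congrArg (RegKos.ev w) (α.hom.naturality g)).symm.trans ?_
  refine (congrArg ((α.hom.app N).app ⊤) hw).trans ?_
  exact congrArg (RegKos.ev z) (α.inv_hom_id_app N)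

theorem surjective_of_epi_push {M N : (CohB1.ProjSpaceOver n T).Modules} (hM : Coh.IsQCoh M) (hN : Coh.IsQCoh N)
    (g : M ⟶ N) (hepi : Epi ((Scheme.Modules.pushforward (CohB1.ProjSpaceOver.toBase n T)).map g)) {V : T.Opens}
    (hV : IsAffineOpen V) : Function.Surjective (g.app (CohB1.ProjSpaceOver.toBase n T ⁻¹ᵁ V)) := by
  haveI := HQProj.isProper_toBase n T
  haveI : M.IsQuasicoherent := hM
  haveI : N.IsQuasicoherent := hN
  haveI := hepi
  exact QC.app_surjective_of_epi hV (QC.isQCoh_pushforward (M := M) (CohB1.ProjSpaceOver.toBase n T))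
    (QC.isQCoh_pushforward (M := N) (CohB1.ProjSpaceOver.toBase n T))
    ((Scheme.Modules.pushforward (CohB1.ProjSpaceOver.toBase n T)).map g)

theorem isRegSheaf_X1 (hS : S.ShortExact) (h₁ : Coh.IsQCoh S.X₁) (h₂ : Coh.IsQCoh S.X₂) (h₃ : Coh.IsQCoh S.X₃)
    (r₂ : KRR.IsRegSheaf n T (KRR.twF n T 1 S.X₂)) (r₃ : KRR.IsRegSheaf n T S.X₃)
    (hepi : Epi ((Scheme.Modules.pushforward (KRR.pr n T)).map S.g)) :
    KRR.IsRegSheaf n T (KRR.twF n T 1 S.X₁) := by
  refine (isRegSheaf_iff (isQCoh_twF _ h₁)).2 fun V c => (c.reg_twF 1 S.X₁).2 ?_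
  have hs := c.surjective_map S.g (surjective_of_epi_push h₂ h₃ S.g hepi c.aff)
  have e₂ : Reg (c.Q.obj S.X₂) 1 := (c.reg_twF 1 S.X₂).1 ((isRegSheaf_iff (isQCoh_twF _ h₂)).1 r₂ V c)
  have e₃ : Reg (c.Q.obj S.X₃) 0 := (isRegSheaf_iff h₃).1 r₃ V c
  exact reg_X1 (S := S.map c.Q) (c.shortExact hS) e₂ e₃ hs

/-- Regular sheaves are generated by the sections over preimages of affine opens. -/
theorem epi_counit {F : (CohB1.ProjSpaceOver n T).Modules} (hF : Coh.IsQCoh F) (hreg : KRR.IsRegSheaf n T F) :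
    Epi ((Scheme.Modules.pullbackPushforwardAdjunction (KRR.pr n T)).counit.app F) := by
  let adj := Scheme.Modules.pullbackPushforwardAdjunction (KRR.pr n T)
  refine InvGen.epi_of_locally _ fun U s x hx => ?_
  obtain ⟨V, hV, hxV, -⟩ :=
    exists_isAffineOpen_mem_and_subset (X := T) (x := (KRR.pr n T).base x) (U := ⊤) trivial
  let P : (CohB1.ProjSpaceOver n T).Opens := KRR.pr n T ⁻¹ᵁ V
  let c := chartAt (n := n) hV
  obtain ⟨y, rfl⟩ : ∃ y, c.q y = x := by
    have : x ∈ Set.range (CohB1.ProjSpaceOver.toBase n T ⁻¹ᵁ V).ι := by rw [Scheme.Opens.range_ι]; exact hxV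
    rw [← c.range] at this
    exact this
  let R := Scheme.Modules.restrictFunctor c.q
  obtain ⟨W, hW, hyW, hmem⟩ := generated_of_reg ((R.obj F)) (QC.isQCoh_restrict c.q hF)
    (reg_of_iso ((Scheme.Modules.restrictFunctorIsoPullback c.q).app F).symm ((isRegSheaf_iff hF).1 hreg V c))
    (U := c.q ⁻¹ᵁ U) (QC.res F (show c.q ''ᵁ (c.q ⁻¹ᵁ U) ≤ U from
      (Scheme.Hom.image_preimage_eq_opensRange_inf c.q U).le.trans inf_le_right) s) hx
  have hWU : c.q ''ᵁ W ≤ U := (Scheme.Hom.image_mono c.q hW).trans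
    ((Scheme.Hom.image_preimage_eq_opensRange_inf c.q U).le.trans inf_le_right)
  refine ⟨c.q ''ᵁ W, hWU, ⟨y, hyW, rfl⟩, ?_⟩
  suffices h : ∀ t ∈ Submodule.span Γ(CohB1.ProjSpace n Γ(T, V), W)
      (Set.range fun g : Γ(R.obj F, ⊤) => QC.res (R.obj F) (le_top : W ≤ ⊤) g),
      ∃ w, (adj.counit.app F).app (c.q ''ᵁ W) w = (show Γ(F, c.q ''ᵁ W) from t) by
    obtain ⟨w, hw⟩ := h _ hmem
    exact ⟨w, hw.trans ((QC.res_res F _ _ s).trans rfl)⟩
  intro t ht
  induction ht using Submodule.span_induction with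
  | zero => exact ⟨0, map_zero _⟩
  | add a b _ _ ha hb =>
    obtain ⟨p, hp⟩ := ha
    obtain ⟨q, hq⟩ := hb
    exact ⟨p + q, (map_add _ p q).trans (congrArg₂ (· + ·) hp hq)⟩
  | smul r a _ ha =>
    obtain ⟨p, hp⟩ := ha
    refine ⟨(c.q.appIso W).inv r • p, (Scheme.Modules.Hom.app_smul _ _ p).trans ?_⟩
    exact congrArg (fun z => (c.q.appIso W).inv r • z) hp
  | mem a ha =>
    obtain ⟨g, rfl⟩ := ha
    have hP : P ≤ c.q ''ᵁ (⊤ : (CohB1.ProjSpace n Γ(T, V)).Opens) :=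
      ((Scheme.Hom.image_top_eq_opensRange c.q).trans c.opensRange).ge
    have hPW : c.q ''ᵁ W ≤ P := (Scheme.Hom.image_mono c.q le_top).trans
      ((Scheme.Hom.image_top_eq_opensRange c.q).trans c.opensRange).le
    let g' : Γ(F, P) := QC.res F hP g
    refine ⟨QC.res _ hPW ((adj.unit.app ((Scheme.Modules.pushforward (KRR.pr n T)).obj F)).app V g'), ?_⟩
    rw [← QC.app_res]
    refine (congrArg (QC.res F hPW) (congrArg (fun χ : (Scheme.Modules.pushforward (KRR.pr n T)).obj F ⟶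
      (Scheme.Modules.pushforward (KRR.pr n T)).obj F => χ.app V g') (adj.right_triangle_components F))).trans ?_
    exact (QC.res_res F _ _ g).trans rfl

end Groth.Agent.PnReg
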