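import Mathlib.RingTheory.Binomial
import Mathlib.Algebra.Group.ForwardDiff

/-!
Extrapolation of sequences with a vanishing difference.
-/

set_option autoImplicit false

open fwdDiff Finset

namespace Groth.Agent.PnReg.Newton

variable {A : Type*} [AddCommGroup A] (n : ℕ)

/-- The value at zero, extrapolated from the values at `m, …, m + n`. -/
def newt (a : ℕ → A) (m : ℕ) : A :=
  ∑ i ∈ range (n + 1), (Ring.choose (-(m : ℤ)) i) • (Δ_[1]^[i] a) m

/-- The recurrence. -/
def Rel (a : ℕ → A) (k : ℕ) : Prop := (Δ_[1]^[n + 1] a) k = 0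

theorem newt_succ (a : ℕ → A) (m : ℕ) (h : Rel n a m) : newt n a (m + 1) = newt n a m := by
  have hs : ∀ i, (Δ_[1]^[i] a) (m + 1) = (Δ_[1]^[i] a) m + (Δ_[1]^[i + 1] a) m := fun i => by
    rw [Function.iterate_succ_apply' (fwdDiff 1) i a, fwdDiff]
    abel
  have hr : -(m : ℤ) = -((m + 1 : ℕ) : ℤ) + 1 := by push_cast; ring
  simp only [newt, hs, smul_add, sum_add_distrib]
  rw [sum_range_succ (fun i => Ring.choose (-((m + 1 : ℕ) : ℤ)) i • (Δ_[1]^[i + 1] a) m) n,
    show (Δ_[1]^[n + 1] a) m = 0 from h, smul_zero, add_zero,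
    sum_range_succ' (fun i => Ring.choose (-((m + 1 : ℕ) : ℤ)) i • (Δ_[1]^[i] a) m) n,
    sum_range_succ' (fun i => Ring.choose (-(m : ℤ)) i • (Δ_[1]^[i] a) m) n]
  simp only [Ring.choose_zero_right, hr, Ring.choose_succ_succ, add_smul, sum_add_distrib]
  abel

theorem newt_le (a : ℕ → A) {m m' : ℕ} (hm : m ≤ m') (h : ∀ k, m ≤ k → Rel n a k) :
    newt n a m' = newt n a m := by
  induction m', hm using Nat.le_induction with
  | base => rfl
  | succ k hk ih => rw [newt_succ n a k (h k hk), ih]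

theorem newt_zero (a : ℕ → A) : newt n a 0 = a 0 := by
  rw [newt, sum_range_succ']
  simp [Ring.choose_zero_succ]

theorem iter_congr {a b : ℕ → A} {m : ℕ} (h : ∀ k, m ≤ k → a k = b k) (i : ℕ) {k : ℕ} (hk : m ≤ k) :
    (Δ_[1]^[i] a) k = (Δ_[1]^[i] b) k := by
  rw [fwdDiff_iter_eq_sum_shift, fwdDiff_iter_eq_sum_shift]
  exact sum_congr rfl fun j _ => congrArg _ (h _ (le_add_right hk))

theorem newt_congr {a b : ℕ → A} {m : ℕ} (h : ∀ k, m ≤ k → a k = b k) : newt n a m = newt n b m :=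
  sum_congr rfl fun i _ => congrArg _ (iter_congr h i le_rfl)

theorem newt_add {a b : ℕ → A} (m : ℕ) : newt n (a + b) m = newt n a m + newt n b m := by
  simp only [newt, fwdDiff_iter_add, Pi.add_apply, smul_add, sum_add_distrib]

theorem iter_map {B : Type*} [AddCommGroup B] (f : A →+ B) (a : ℕ → A) (i k : ℕ) :
    f ((Δ_[1]^[i] a) k) = (Δ_[1]^[i] (fun j => f (a j))) k := by
  rw [fwdDiff_iter_eq_sum_shift, fwdDiff_iter_eq_sum_shift, map_sum]
  exact sum_congr rfl fun j _ => map_zsmul f _ _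

theorem newt_map {B : Type*} [AddCommGroup B] (f : A →+ B) (a : ℕ → A) (m : ℕ) :
    f (newt n a m) = newt n (fun j => f (a j)) m := by
  simp only [newt, map_sum, map_zsmul, iter_map]

end Groth.Agent.PnReg.Newton
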