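import Groth.Agent.PnReg.HighReg
import Groth.Agent.PnReg.BaseChange
import Groth.Agent.PnReg.WedgeLine
import Groth.Agent.PnReg.Newton
import Groth.Agent.PBundle.Free
import Groth.Agent.VBTwo.Ext

/-!
The Koszul relation between the twists of a bundle.
-/

set_option autoImplicit false
set_option linter.unusedSectionVars false
set_option linter.style.haveILetI false
set_option backward.isDefEq.respectTransparency false
set_option backward.isDefEq.respectTransparency.types false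
set_option maxHeartbeats 1000000

universe u

open CategoryTheory CategoryTheory.Limits AlgebraicGeometry TopologicalSpace Opposite
open fwdDiff

noncomputable section

namespace Groth.Agent.PnReg

variable (n : ℕ) (T : Scheme.{u})

theorem exists_kos :
    ∃ K : ℕ → (CohB1.ProjSpaceOver n T).Modules, (∀ i, FlatMod.IsFinLocFree (K i)) ∧
      Nonempty (K 0 ≅ Coh.structureModule _) ∧
      IsZero (CohB1.tensorMod (K (n + 1)) (Twist.twistOver n T 1)) ∧
      ∀ i, ∃ S : ShortComplex (CohB1.ProjSpaceOver n T).Modules, S.ShortExact ∧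
        Nonempty (S.X₁ ≅ K (i + 1)) ∧ Nonempty (S.X₂ ≅ FlatMod.freeMod _ ((n + 1).choose (i + 1))) ∧
        Nonempty (S.X₃ ≅ CohB1.tensorMod (K i) (Twist.twistOver n T 1)) :=
  have h := PBundle.isProjBundle_free (n := n) (S := T)
  haveI := h.epi
  exists_koszul (DerPerf.pullFreeIso _ (n + 1)) h.invertible (PBundle.q0 n T)

/-- The Koszul modules. -/
def kos : ℕ → (CohB1.ProjSpaceOver n T).Modules := (exists_kos n T).choose

variable {n T}

/-- Moving a twist inside. -/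
def moveIso (M F : (CohB1.ProjSpaceOver n T).Modules) (j : ℤ) :
    CohB1.tensorMod M (KRR.twF n T j F) ≅ KRR.twF n T j (CohB1.tensorMod M F) :=
  (TMul.assocIso M (Twist.twistOver n T j) F).symm ≪≫
    PicGrp.tensorModIso (TMul.commIso M (Twist.twistOver n T j)) (Iso.refl F) ≪≫ TMul.assocIso _ M F

theorem isZero_kos_top (F : (CohB1.ProjSpaceOver n T).Modules) :
    IsZero (CohB1.tensorMod (kos n T (n + 1)) F) := by
  obtain ⟨e⟩ := nonempty_twF_twF F 1 (-1) 0 (by norm_num)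
  obtain ⟨e'⟩ := nonempty_twF_zero F
  refine IsZero.of_iso (isZero_tensor (exists_kos n T).choose_spec.2.2.1 (KRR.twF n T (-1) F)) ?_
  exact PicGrp.tensorModIso (Iso.refl _) (e'.symm ≪≫ e.symm) ≪≫
    (TMul.assocIso (kos n T (n + 1)) (Twist.twistOver n T 1) (KRR.twF n T (-1) F)).symm

/-- The Koszul sequences, twisted. -/
theorem kos_seq {F : (CohB1.ProjSpaceOver n T).Modules} (hF : FlatMod.IsFinLocFree F) (i : ℕ) (j : ℤ) :
    ∃ S : ShortComplex (CohB1.ProjSpaceOver n T).Modules, S.ShortExact ∧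
      Nonempty (S.X₁ ≅ KRR.twF n T j (CohB1.tensorMod (kos n T (i + 1)) F)) ∧
      Nonempty (S.X₂ ≅ CohB1.tensorMod (FlatMod.freeMod _ ((n + 1).choose (i + 1))) (KRR.twF n T j F)) ∧
      Nonempty (S.X₃ ≅ KRR.twF n T (j + 1) (CohB1.tensorMod (kos n T i) F)) := by
  obtain ⟨S, hS, ⟨a⟩, ⟨b⟩, ⟨c⟩⟩ := (exists_kos n T).choose_spec.2.2.2 i
  obtain ⟨t⟩ := nonempty_twF_twF F 1 j (j + 1) (by ring)
  refine ⟨_, shortExact_tensor (isFinLocFree_twF j hF) hS, ⟨?_⟩, ⟨PicGrp.tensorModIso b (Iso.refl _)⟩, ⟨?_⟩⟩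
  · exact PicGrp.tensorModIso a (Iso.refl _) ≪≫ moveIso _ F j
  · exact PicGrp.tensorModIso c (Iso.refl _) ≪≫
      TMul.assocIso (kos n T i) (Twist.twistOver n T 1) (KRR.twF n T j F) ≪≫
        PicGrp.tensorModIso (Iso.refl _) t ≪≫ moveIso _ F (j + 1)

theorem kos_head (F : (CohB1.ProjSpaceOver n T).Modules) : Nonempty (CohB1.tensorMod (kos n T 0) F ≅ F) := by
  obtain ⟨e⟩ := (exists_kos n T).choose_spec.2.1
  exact ⟨PicGrp.tensorModIso e (Iso.refl F) ≪≫ TMul.leftUnitIso F⟩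

theorem isFinLocFree_kos_tensor {F : (CohB1.ProjSpaceOver n T).Modules} (hF : FlatMod.IsFinLocFree F) (i : ℕ) :
    FlatMod.IsFinLocFree (CohB1.tensorMod (kos n T i) F) :=
  DerPerf.isFinLocFree_tensor ((exists_kos n T).choose_spec.1 i) hF

/-- The relation, for a class of modules closed enough. -/
theorem kos_rel {Pp : ObjectProperty (CohB1.ProjSpaceOver n T).Modules} (hzero : ∀ M, IsZero M → Pp M)
    (hiso : ∀ {M N : (CohB1.ProjSpaceOver n T).Modules}, (M ≅ N) → Pp M → Pp N)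
    (hext : ∀ {S : ShortComplex (CohB1.ProjSpaceOver n T).Modules}, S.ShortExact → Pp S.X₁ → Pp S.X₃ → Pp S.X₂)
    {A : Type*} [AddCommGroup A] (f : (CohB1.ProjSpaceOver n T).Modules → A)
    (hadd : ∀ {S : ShortComplex (CohB1.ProjSpaceOver n T).Modules}, S.ShortExact →
      Pp S.X₁ → Pp S.X₂ → Pp S.X₃ → f S.X₂ = f S.X₁ + f S.X₃)
    (hfiso : ∀ {M N : (CohB1.ProjSpaceOver n T).Modules}, (M ≅ N) → Pp M → f M = f N)
    {F : (CohB1.ProjSpaceOver n T).Modules} (hF : FlatMod.IsFinLocFree F)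
    (hPF : ∀ j : ℕ, Pp (KRR.twF n T (j : ℤ) F))
    (hPK : ∀ i j : ℕ, i ≤ n + 1 → 1 ≤ j → Pp (KRR.twF n T (j : ℤ) (CohB1.tensorMod (kos n T i) F))) :
    Newton.Rel n (fun j : ℕ => f (KRR.twF n T (j : ℤ) F)) 0 := by
  let a : ℕ → A := fun j => f (KRR.twF n T (j : ℤ) F)
  have hf0 : ∀ M, IsZero M → f M = 0 := fun M hM => by
    have h1 : (ShortComplex.mk (0 : M ⟶ M) (0 : M ⟶ M) zero_comp).ShortExact :=
      { exact := ShortComplex.exact_of_isZero_X₂ _ hM
        mono_f := ⟨fun _ _ _ => hM.eq_of_tgt _ _⟩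
        epi_g := ⟨fun _ _ _ => hM.eq_of_src _ _⟩ }
    exact left_eq_add.1 (hadd h1 (hzero _ hM) (hzero _ hM) (hzero _ hM))
  have key : ∀ d : ℕ, d ≤ n + 1 → f (KRR.twF n T (d : ℤ) (CohB1.tensorMod (kos n T (n + 1 - d)) F)) =
      ∑ k ∈ Finset.range d, ((-1 : ℤ) ^ (d - 1 - k) * (n + 1).choose k) • a k := by
    intro d
    induction d with
    | zero =>
      intro _
      rw [Finset.sum_range_zero]
      exact hf0 _ (isZero_twF _ (isZero_kos_top F))
    | succ d ih =>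
      intro hd
      obtain ⟨i, hi⟩ : ∃ i, i + d = n := ⟨n - d, by omega⟩
      obtain ⟨S, hS, ⟨u⟩, ⟨v⟩, ⟨w⟩⟩ := kos_seq hF i (d : ℤ)
      have p₁ : Pp S.X₁ := by
        refine hiso u.symm ?_
        rcases Nat.eq_zero_or_pos d with rfl | hd0
        · obtain rfl : i = n := by omega
          exact hzero _ (isZero_twF _ (isZero_kos_top F))
        · exact hPK _ d (by omega) hd0
      have p₃ : Pp S.X₃ := hiso w.symm (by
        have h := hPK i (d + 1) (by omega) (by omega)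
        rwa [Nat.cast_succ] at h)
      obtain ⟨pF, eF⟩ := rel_free_tensor hzero @hiso @hext f @hadd @hfiso (isFinLocFree_twF (d : ℤ) hF) (hPF d)
        ((n + 1).choose (i + 1))
      have h := hadd hS p₁ (hext hS p₁ p₃) p₃
      rw [hfiso v (hext hS p₁ p₃), eF, hfiso u p₁, hfiso w p₃,
        show i + 1 = n + 1 - d by omega, ih (by omega), Nat.choose_symm (by omega : d ≤ n + 1)] at h
      rw [show n + 1 - (d + 1) = i by omega, Nat.cast_succ, Finset.sum_range_succ]
      rw [show ∑ k ∈ Finset.range d, ((-1 : ℤ) ^ (d + 1 - 1 - k) * (n + 1).choose k) • a k =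
          -∑ k ∈ Finset.range d, ((-1 : ℤ) ^ (d - 1 - k) * (n + 1).choose k) • a k from ?_]
      · rw [show d + 1 - 1 - d = 0 by omega, pow_zero, one_mul, neg_add_eq_sub]
        exact eq_sub_of_add_eq' h.symm
      · rw [← Finset.sum_neg_distrib]
        refine Finset.sum_congr rfl fun k hk => ?_
        rw [Finset.mem_range] at hk
        rw [show d + 1 - 1 - k = d - 1 - k + 1 by omega, pow_succ, mul_neg_one, neg_mul, neg_smul]
  have h0 := key (n + 1) le_rfl
  rw [Nat.sub_self] at h0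
  obtain ⟨z⟩ := kos_head F
  have hz : f (KRR.twF n T ((n + 1 : ℕ) : ℤ) (CohB1.tensorMod (kos n T 0) F)) = a (n + 1) :=
    hfiso (PicGrp.tensorModIso (Iso.refl _) z) (hPK 0 (n + 1) (by omega) (by omega))
  rw [hz] at h0
  show ((fwdDiff (1 : ℕ))^[n + 1] a) 0 = 0
  rw [fwdDiff_iter_eq_sum_shift, Finset.sum_range_succ]
  simp only [smul_eq_mul, mul_one, zero_add, Nat.choose_self, Nat.sub_self, pow_zero, Nat.cast_one, one_smul]
  rw [h0, ← Finset.sum_add_distrib]
  refine Finset.sum_eq_zero fun k hk => ?_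
  rw [Finset.mem_range] at hk
  rw [← add_smul, show n + 1 - k = n + 1 - 1 - k + 1 by omega, pow_succ, mul_neg_one, neg_mul, neg_add_cancel, zero_smul]

variable (n T) in
/-- Regular bundles. -/
abbrev regP : ObjectProperty (CohB1.ProjSpaceOver n T).Modules :=
  fun M => FlatMod.IsFinLocFree M ∧ KRR.IsRegSheaf n T M

/-- The class of a regular bundle. -/
abbrev clr (M : (CohB1.ProjSpaceOver n T).Modules) : KZero.K0sub (regP n T) := KZero.clSub (regP n T) M

theorem regP_iso {M N : (CohB1.ProjSpaceOver n T).Modules} (e : M ≅ N) (h : regP n T M) : regP n T N :=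
  ⟨DQCoh.isFinLocFree_of_iso' e h.1, isRegSheaf_of_iso e h.2⟩

theorem regP_ext {S : ShortComplex (CohB1.ProjSpaceOver n T).Modules} (hS : S.ShortExact) (h₁ : regP n T S.X₁)
    (h₃ : regP n T S.X₃) : regP n T S.X₂ :=
  have h₂ := VBTwo.isFinLocFree_middle hS h₁.1 h₃.1
  ⟨h₂, isRegSheaf_X2 hS (isQCoh_of_finLocFree h₁.1) (isQCoh_of_finLocFree h₂) (isQCoh_of_finLocFree h₃.1) h₁.2 h₃.2⟩

theorem clSub_iso {C : Type*} [Category C] [Abelian C] (P : ObjectProperty C) {M N : C} (e : M ≅ N) (hM : P M)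
    (hN : P N) (hzero : ∀ Z, IsZero Z → P Z) : KZero.clSub P M = KZero.clSub P N := by
  have hz : IsZero (cokernel e.hom) := isZero_cokernel_of_epi e.hom
  have h : (ShortComplex.mk e.hom (cokernel.π e.hom) (cokernel.condition _)).ShortExact :=
    { exact := ShortComplex.exact_cokernel _ }
  have := K0Res.clSub_add P h hM hN (hzero _ hz)
  have h1 : (ShortComplex.mk (0 : cokernel e.hom ⟶ cokernel e.hom) (0 : cokernel e.hom ⟶ cokernel e.hom) zero_comp).ShortExact :=
    { exact := ShortComplex.exact_of_isZero_X₂ _ hz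
      mono_f := ⟨fun _ _ _ => hz.eq_of_tgt _ _⟩
      epi_g := ⟨fun _ _ _ => hz.eq_of_src _ _⟩ }
  rw [left_eq_add.1 (K0Res.clSub_add P h1 (hzero _ hz) (hzero _ hz) (hzero _ hz)), add_zero] at this
  exact this.symm

theorem regP_zero (M : (CohB1.ProjSpaceOver n T).Modules) (hM : IsZero M) : regP n T M :=
  ⟨DQCoh.isFinLocFree_of_isZero hM, isRegSheaf_of_isZero hM⟩

/-- The Koszul modules of a regular bundle are regular after one twist. -/
theorem isRegSheaf_kos {F : (CohB1.ProjSpaceOver n T).Modules} (hF : regP n T F) :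
    ∀ d i : ℕ, n + 1 ≤ i + d → i ≤ n + 1 →
      KRR.IsRegSheaf n T (KRR.twF n T 1 (CohB1.tensorMod (kos n T i) F)) := by
  intro d
  induction d with
  | zero =>
    intro i h1 h2
    obtain rfl : i = n + 1 := by omega
    exact isRegSheaf_of_isZero (isZero_twF _ (isZero_kos_top F))
  | succ d ih =>
    intro i h1 h2
    rcases eq_or_lt_of_le h2 with rfl | hlt
    · exact isRegSheaf_of_isZero (isZero_twF _ (isZero_kos_top F))
    obtain ⟨S, hS, ⟨u⟩, ⟨v⟩, ⟨w⟩⟩ := kos_seq hF.1 i 0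
    obtain ⟨z⟩ := nonempty_twF_zero (CohB1.tensorMod (kos n T (i + 1)) F)
    obtain ⟨z'⟩ := nonempty_twF_zero F
    have hv : regP n T S.X₂ := regP_iso v.symm (rel_free_tensor regP_zero (fun e h => regP_iso e h) (fun hS h₁ h₃ => regP_ext hS h₁ h₃)
      clr (fun hS h₁ h₂ h₃ => K0Res.clSub_add _ hS h₁ h₂ h₃)
      (fun e h => clSub_iso _ e h (regP_iso e h) regP_zero) (isFinLocFree_twF 0 hF.1)
      (regP_iso z'.symm hF) _).1
    have f₁ : FlatMod.IsFinLocFree S.X₁ :=
      DQCoh.isFinLocFree_of_iso' (u ≪≫ z).symm (isFinLocFree_kos_tensor hF.1 (i + 1))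
    have f₃ : FlatMod.IsFinLocFree S.X₃ :=
      DQCoh.isFinLocFree_of_iso' w.symm (isFinLocFree_twF _ (isFinLocFree_kos_tensor hF.1 i))
    have r₁ : KRR.IsRegSheaf n T (KRR.twF n T 1 S.X₁) :=
      isRegSheaf_of_iso (PicGrp.tensorModIso (Iso.refl _) (u ≪≫ z).symm) (ih (i + 1) (by omega) (by omega))
    have r₃ := isRegSheaf_X3 hS (isQCoh_of_finLocFree f₁) (isQCoh_of_finLocFree hv.1) (isQCoh_of_finLocFree f₃) hv.2 r₁
    have hfin := isRegSheaf_of_iso w r₃
    rwa [zero_add] at hfin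

/-- The relation in the group of regular bundles. -/
theorem clr_rel {F : (CohB1.ProjSpaceOver n T).Modules} (hF : regP n T F) :
    Newton.Rel n (fun j : ℕ => clr (KRR.twF n T (j : ℤ) F)) 0 :=
  kos_rel regP_zero (fun e h => regP_iso e h) (fun hS h₁ h₃ => regP_ext hS h₁ h₃) clr (fun hS h₁ h₂ h₃ => K0Res.clSub_add _ hS h₁ h₂ h₃)
    (fun e h => clSub_iso _ e h (regP_iso e h) regP_zero) hF.1
    (fun j => ⟨isFinLocFree_twF _ hF.1, isRegSheaf_twF (isQCoh_of_finLocFree hF.1) hF.2 j⟩)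
    fun i j hi hj => by
      refine ⟨isFinLocFree_twF _ (isFinLocFree_kos_tensor hF.1 i), ?_⟩
      obtain ⟨k, rfl⟩ : ∃ k, j = k + 1 := ⟨j - 1, by omega⟩
      obtain ⟨e⟩ := nonempty_twF_twF (CohB1.tensorMod (kos n T i) F) (k : ℤ) 1 ((k + 1 : ℕ) : ℤ) (by push_cast; ring)
      exact isRegSheaf_of_iso e (isRegSheaf_twF (isQCoh_twF _ (isQCoh_of_finLocFree (isFinLocFree_kos_tensor hF.1 i)))
        (isRegSheaf_kos hF (n + 1) i (by omega) hi) k)

theorem cls_rel {F : (CohB1.ProjSpaceOver n T).Modules} (hF : FlatMod.IsFinLocFree F) :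
    Newton.Rel n (fun j : ℕ => SGA6Ext.cls (KRR.twF n T (j : ℤ) F)) 0 :=
  kos_rel (Pp := fun M => FlatMod.IsFinLocFree M) (fun M h => DQCoh.isFinLocFree_of_isZero h)
    (fun e h => DQCoh.isFinLocFree_of_iso' e h) (fun hS h₁ h₃ => VBTwo.isFinLocFree_middle hS h₁ h₃)
    SGA6Ext.cls (fun hS h₁ h₂ h₃ => K0Res.clSub_add (fun M => FlatMod.IsFinLocFree M) hS h₁ h₂ h₃)
    (fun e h => SGA6Ext.cls_iso e h) hF (fun j => isFinLocFree_twF _ hF)
    fun i j _ _ => isFinLocFree_twF _ (isFinLocFree_kos_tensor hF i)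

end Groth.Agent.PnReg
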