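import Groth.Agent.FlatRes.Basic
import Groth.Agent.FlatModB.Basic
import Groth.Agent.RelPC.FlatBC
import Groth.Agent.DQCoh.RelTor
import Groth.Agent.LocFree.Props
import Groth.Agent.TMul.Frame
import Groth.Agent.W7Strat.Frame

/-!
Kernels of presentations of flat finitely presented sheaves.
-/

set_option autoImplicit false
set_option linter.unusedSectionVars false
set_option linter.style.haveILetI false
set_option backward.isDefEq.respectTransparency false
set_option backward.isDefEq.respectTransparency.types false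
set_option maxHeartbeats 1000000

universe u

open CategoryTheory CategoryTheory.Limits AlgebraicGeometry TopologicalSpace Opposite

noncomputable section

namespace Groth.Agent.PnReg

variable {X S : Scheme.{u}} (f : X ⟶ S)

/-- The first term of a sequence with flat middle and last terms is flat. -/
theorem isFlatOver_X1 {T : ShortComplex X.Modules} (hT : T.ShortExact) (h₂ : FlatMod.IsFlatOver f T.X₂)
    (h₃ : FlatMod.IsFlatOver f T.X₃) : FlatMod.IsFlatOver f T.X₁ := fun x => by
  rw [DQCoh.isFlatOverAt_iff]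
  have h := hT.map_of_exact (DQCoh.stA f x)
  haveI : Module.Flat (S.presheaf.stalk (f.base x)) ((DQCoh.stA f x).obj T.X₂) := h₂ x
  haveI : Module.Flat (S.presheaf.stalk (f.base x)) ((DQCoh.stA f x).obj T.X₃) := h₃ x
  haveI := h.mono_f
  haveI := h.epi_g
  exact RelPC.flat_kernel ((DQCoh.stA f x).map T.f).hom ((DQCoh.stA f x).map T.g).hom
    ((ModuleCat.mono_iff_injective _).1 h.mono_f)
    ((ShortComplex.ShortExact.moduleCat_exact_iff_function_exact _).1 h.exact)
    ((ModuleCat.epi_iff_surjective _).1 h.epi_g)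

open TMul in
/-- The kernel of a surjection from a locally free sheaf onto a flat finitely presented one is finitely presented. -/
theorem isFP_kernel [LocallyOfFinitePresentation f] {E F : X.Modules} (hE : FlatMod.IsFinLocFree E)
    (hFq : Coh.IsQCoh F) (hF : CohB1.IsFP F) (hfl : FlatMod.IsFlatOver f F) (q : E ⟶ F) [Epi q] :
    CohB1.IsFP (kernel q) := by
  have hEq := LocFree.isQCoh_of_isFinLocFree hE
  have hKq := QC.isQCoh_kernel hEq hFq q
  refine QC.isFP_iff_exists_hasFinPres.mpr fun x => ?_
  obtain ⟨W, m, e, hxW, he⟩ := TMul.exists_isFrame hE x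
  obtain ⟨U, hU, hxU, -⟩ := exists_isAffineOpen_mem_and_subset (X := S) (x := f x) (U := ⊤) trivial
  obtain ⟨D, hD, hxD, hDle⟩ := exists_isAffineOpen_mem_and_subset (X := X) (x := x) (U := W ⊓ f ⁻¹ᵁ U) ⟨hxW, hxU⟩
  have hDW : D ≤ W := fun _ h => (hDle h).1
  have hDU : D ≤ f ⁻¹ᵁ U := fun _ h => (hDle h).2
  haveI hfp := LocFree.finitePresentation_sections_of_isFP hFq hF hD
  letI : Algebra Γ(S, U) Γ(X, D) := (f.appLE U D hDU).hom.toAlgebra
  letI := FlatModB.secModule f F D U hDU
  haveI : Algebra.FinitePresentation Γ(S, U) Γ(X, D) :=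
    f.finitePresentation_appLE hU hD hDU
  haveI : IsScalarTower Γ(S, U) Γ(X, D) Γ(F, D) := ⟨fun a c n => mul_smul ((f.appLE U D hDU).hom a) c n⟩
  haveI : Module.Flat Γ(S, U) Γ(F, D) := (FlatModB.flat_sections_iff f F hFq hD hU hDU).2 fun y _ => hfl y
  let qD : Γ(E, D) →ₗ[Γ(X, D)] Γ(F, D) :=
    { toFun := q.app D
      map_add' := map_add _
      map_smul' := fun r a => Scheme.Modules.Hom.app_smul q r a }
  have hqD : Function.Surjective qD := QC.app_surjective_of_epi hD hEq hFq q
  let a : (Fin m → Γ(X, D)) ≃ₗ[Γ(X, D)] Γ(E, D) := he.equiv hDW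
  let g := qD.comp a.toLinearMap
  haveI hg := FlatRes.finitePresentation_ker (A := Γ(S, U)) g (hqD.comp a.surjective)
  let ι : Γ(kernel q, D) →ₗ[Γ(X, D)] Γ(E, D) :=
    { toFun := (kernel.ι q).app D
      map_add' := map_add _
      map_smul' := fun r z => Scheme.Modules.Hom.app_smul (kernel.ι q) r z }
  let κ : Γ(kernel q, D) →ₗ[Γ(X, D)] LinearMap.ker g :=
    LinearMap.codRestrict _
      (a.symm.toLinearMap.comp ι)
      fun z => by
        show qD (a (a.symm ((kernel.ι q).app D z))) = 0
        rw [LinearEquiv.apply_symm_apply]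
        exact congrArg (fun χ : kernel q ⟶ F => χ.app D z) (kernel.condition q)
  have hκ : Function.Bijective κ := by
    refine ⟨fun z w h => QC.app_injective_of_mono (kernel.ι q) D (a.symm.injective (congrArg Subtype.val h)), fun v => ?_⟩
    obtain ⟨z, hz⟩ := (QC.mem_range_kernel_app q D (a v.1)).2 v.2
    exact ⟨z, Subtype.ext ((congrArg a.symm hz).trans (a.symm_apply_apply _))⟩
  haveI : Module.FinitePresentation Γ(X, D) Γ(kernel q, D) :=
    Module.FinitePresentation.of_equiv (LinearEquiv.ofBijective κ hκ).symm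
  exact ⟨D, hxD, QC.hasFinPres_of_finitePresentation hD (hM := hKq)⟩

end Groth.Agent.PnReg
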