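import Groth.Agent.PnReg.VanishFree
import Groth.Agent.PnReg.FPFlat
import Groth.Agent.PicFam.Pn
import Groth.Agent.DerPerf.Local

/-!
Serre vanishing for flat finitely presented sheaves on projective space over any ring.
-/

set_option autoImplicit false
set_option linter.style.haveILetI false
set_option backward.isDefEq.respectTransparency false
set_option backward.isDefEq.respectTransparency.types false
set_option maxHeartbeats 1000000

universe u

open CategoryTheory CategoryTheory.Limits AlgebraicGeometry TopologicalSpace Opposite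

noncomputable section

namespace Groth.Agent.PnReg

attribute [local instance] Abelian.hasFiniteBiproducts

theorem isFT_of_isFP {X : Scheme.{u}} {F : X.Modules} (hq : Coh.IsQCoh F) (h : CohB1.IsFP F) : CohB1.IsFT F :=
  (QC.isFT_iff_finite_sections (hM := hq)).mpr fun V => by
    haveI := LocFree.finitePresentation_sections_of_isFP hq h V.2
    infer_instance

open CohFinite in
theorem vanish_flat_deg (n : ℕ) (R : Type u) [CommRing R] :
    ∀ (k p : ℕ) (F : (CohB1.ProjSpace n R).Modules), Coh.IsQCoh F → CohB1.IsFP F →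
      FlatMod.IsFlatOver (CohB1.ProjSpace.toSpec n R) F → n ≤ p + k → ∃ m₀ : ℕ, ∀ m, m₀ ≤ m →
      Subsingleton (Coh.HH (CohB1.ProjSpace n R)
        (CohB1.tensorMod F (CohB1.tensorPow (Twist.twistProjSpace n R 1) m)) (p + 1)) := by
  obtain ⟨hflat, hlfp⟩ := PerfGen.flat_lfp_toSpec n R
  haveI := hflat
  haveI := hlfp
  intro k
  induction k with
  | zero =>
    intro p F hFq hF hfl hp
    refine ⟨0, fun m _ => ?_⟩
    have : Coh.IsQCoh (CohB1.tensorMod F (CohB1.tensorPow (Twist.twistProjSpace n R 1) m)) :=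
      TMul.isQCoh_tensor (isInvertible_twistPow n R m) (hF := hFq)
    exact Groth.Agent.S0022.result n R _ (p + 1) (by omega)
  | succ k ih =>
    intro p F hFq hF hfl hp
    obtain ⟨N, hN⟩ := GrT.exists_epi_twists
      (v := fun i : ProjCech.J.{u} n => (MvPolynomial.X i.down : MvPolynomial (Fin (n + 1)) R))
      (fun i => MvPolynomial.isHomogeneous_X R i.down) hFq
      (isFT_of_isFP hFq hF) (cov_X n R)
    obtain ⟨l, q, hq⟩ := hN N le_rfl
    let T : Fin l → (CohB1.ProjSpace n R).Modules := fun _ => Twist.twistProjSpace n R (-(N : ℤ))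
    let q' : ⨁ T ⟶ F := (biproduct.isoCoproduct T).hom ≫ q
    have : Epi q' := epi_comp _ _
    have hT : FlatMod.IsFinLocFree (⨁ T) := DQCoh.isFinLocFree_of_iso' (biproduct.isoCoproduct T).symm
      (isFinLocFree_sigma T fun _ => ResDesc.isFinLocFree_of_isInvertible (isInvertible_twist n R _))
    have hKq : Coh.IsQCoh (kernel q') := QC.isQCoh_kernel (LocFree.isQCoh_of_isFinLocFree hT) hFq q'
    have hK : CohB1.IsFP (kernel q') := isFP_kernel (CohB1.ProjSpace.toSpec n R) hT hFq hF hfl q'
    have hS : (ShortComplex.mk (kernel.ι q') q' (kernel.condition q')).ShortExact :=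
      { exact := ShortComplex.exact_of_f_is_kernel _ (kernelIsKernel q') }
    have hKfl : FlatMod.IsFlatOver (CohB1.ProjSpace.toSpec n R) (kernel q') :=
      isFlatOver_X1 (CohB1.ProjSpace.toSpec n R) hS
        (DQCoh.flatOver_of_flat _ (DerPerf.isFlat_of_isFinLocFree hT)) hfl
    obtain ⟨m₁, hm₁⟩ := ih (p + 1) (kernel q') hKq hK hKfl (by omega)
    refine ⟨max m₁ N, fun m hm => ?_⟩
    refine subsingleton_of_shortExact (shortExact_tmap (isInvertible_twistPow n R m) hS) (p + 1) ?_
      (hm₁ m (le_trans (le_max_left _ _) hm))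
    refine subsingleton_of_split _ (fun _ : Fin l => CohB1.tensorMod (Twist.twistProjSpace n R (-(N : ℤ)))
        (CohB1.tensorPow (Twist.twistProjSpace n R 1) m))
      (fun j => tmap (biproduct.ι T j) _) (fun j => tmap (biproduct.π T j) _) ?_ (p + 1) fun j => ?_
    · simp only [← tmap_comp]
      exact (tmap_sum _ _ _).symm.trans ((congrArg (fun ψ => tmap ψ _) biproduct.total).trans (tmap_id _ _))
    · obtain ⟨e⟩ := nonempty_twist_tensorPow n R (-(N : ℤ)) m
      refine CohQC.hh_subsingleton_of_iso e.symm _ (ProjCech.twist_vanish n _ _ (by omega) ?_)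
      have := le_trans (le_max_right m₁ N) hm
      omega

/-- Serre vanishing for a flat finitely presented sheaf, over any ring. -/
theorem vanish_flat (n : ℕ) (R : Type u) [CommRing R] (F : (CohB1.ProjSpace n R).Modules) (hFq : Coh.IsQCoh F)
    (hF : CohB1.IsFP F) (hfl : FlatMod.IsFlatOver (CohB1.ProjSpace.toSpec n R) F) :
    ∃ m₀ : ℕ, ∀ m, m₀ ≤ m → ∀ p : ℕ, Subsingleton (Coh.HH (CohB1.ProjSpace n R)
      (CohB1.tensorMod F (CohB1.tensorPow (Twist.twistProjSpace n R 1) m)) (p + 1)) := by
  choose f hf using fun p => vanish_flat_deg n R n p F hFq hF hfl (by omega)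
  refine ⟨(Finset.range n).sup f, fun m hm p => ?_⟩
  by_cases hp : p < n
  · exact hf p m (le_trans (Finset.le_sup (Finset.mem_range.mpr hp)) hm)
  · have : Coh.IsQCoh (CohB1.tensorMod F (CohB1.tensorPow (Twist.twistProjSpace n R 1) m)) :=
      TMul.isQCoh_tensor (CohFinite.isInvertible_twistPow n R m) (hF := hFq)
    exact Groth.Agent.S0022.result n R _ (p + 1) (by omega)

end Groth.Agent.PnReg
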