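import Groth.Agent.PnReg.Ring
import Groth.Agent.TwistOverVan.Basic
import Groth.Prelude.Def_KRR

/-!
Regular sheaves on `P^n_T` over the affine opens of the base.
-/

set_option autoImplicit false
set_option linter.unusedSectionVars false
set_option linter.style.haveILetI false
set_option backward.isDefEq.respectTransparency false
set_option backward.isDefEq.respectTransparency.types false
set_option maxHeartbeats 1000000

universe u

open CategoryTheory CategoryTheory.Limits AlgebraicGeometry TopologicalSpace Opposite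

noncomputable section

namespace Groth.Agent.PnReg

variable {n : ℕ} {T : Scheme.{u}}

variable (n T) in
/-- A chart of `P^n_T` over an affine open of `T`. -/
structure Chart (V : T.Opens) where
  aff : IsAffineOpen V
  q : CohB1.ProjSpace n Γ(T, V) ⟶ CohB1.ProjSpaceOver n T
  imm : IsOpenImmersion q
  range : Set.range q = Set.range (CohB1.ProjSpaceOver.toBase n T ⁻¹ᵁ V).ι
  fac : q ≫ CohB1.ProjSpaceOver.toBase n T = CohB1.ProjSpace.toSpec n Γ(T, V) ≫ aff.fromSpec
  tw : ∀ d : ℤ, (Scheme.Modules.pullback q).obj (Twist.twistOver n T d) ≅ Twist.twistProjSpace n Γ(T, V) d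

attribute [instance] Chart.imm

theorem nonempty_chart {V : T.Opens} (hV : IsAffineOpen V) : Nonempty (Chart n T V) := by
  let A := Γ(T, V)
  let j := hV.fromSpec
  let f := CohB1.ProjSpaceOver.toBase n T
  let fA := CohB1.ProjSpaceOver.toBase n (Spec A)
  let a := CohB1.ProjSpace.toSpec n (ULift.{u} ℤ)
  let g : CohB1.ProjSpaceOver n (Spec A) ⟶ CohB1.ProjSpaceOver n T :=
    pullback.lift (pullback.fst a (specULiftZIsTerminal.from (Spec A))) (fA ≫ j)
      (by rw [pullback.condition, Category.assoc, specULiftZIsTerminal.hom_ext (j ≫ _) (specULiftZIsTerminal.from _)]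
          rfl)
  have hg1 : g ≫ pullback.fst a (specULiftZIsTerminal.from T) =
      pullback.fst a (specULiftZIsTerminal.from (Spec A)) := pullback.lift_fst _ _ _
  have hg2 : g ≫ f = fA ≫ j := pullback.lift_snd _ _ _
  have hsq : IsPullback g fA f j :=
    IsPullback.of_right
      (by
        rw [hg1, specULiftZIsTerminal.hom_ext (j ≫ _) (specULiftZIsTerminal.from _)]
        exact IsPullback.of_hasPullback a (specULiftZIsTerminal.from (Spec A)))
      hg2 (IsPullback.of_hasPullback a (specULiftZIsTerminal.from T))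
  obtain ⟨e, he₁, he⟩ := PnSpec.exists_iso_twist n A
  haveI : IsOpenImmersion g := MorphismProperty.of_isPullback hsq.flip (inferInstanceAs (IsOpenImmersion j))
  refine ⟨⟨hV, e.hom ≫ g, inferInstance, ?_, ?_, fun d => ((Scheme.Modules.pullbackComp e.hom g).app _).symm ≪≫
      (Scheme.Modules.pullback e.hom).mapIso ((Scheme.Modules.pullbackComp g _).app _ ≪≫
        (Scheme.Modules.pullbackCongr hg1).app _) ≪≫ (he d).some⟩⟩
  · rw [Scheme.Opens.range_ι, show Set.range (e.hom ≫ g) = Set.range g from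
      (Scheme.homeoOfIso e).surjective.range_comp g]
    refine Eq.trans (b := Set.range (pullback.fst f j)) ?_ ?_
    · rw [← hsq.isoPullback_hom_fst]
      exact (Scheme.homeoOfIso hsq.isoPullback).surjective.range_comp (pullback.fst f j)
    · rw [Scheme.Pullback.range_fst, hV.range_fromSpec]
      rfl
  · rw [Category.assoc, hg2, ← Category.assoc]
    exact congrArg (fun z => z ≫ j) he₁

/-- The chosen chart. -/
def chartAt (n : ℕ) {V : T.Opens} (hV : IsAffineOpen V) : Chart n T V := (nonempty_chart hV).some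

variable {V : T.Opens} (c : Chart n T V)

/-- Inverse images to a chart. -/
abbrev Chart.Q : (CohB1.ProjSpaceOver n T).Modules ⥤ (CohB1.ProjSpace n Γ(T, V)).Modules :=
  Scheme.Modules.pullback c.q

theorem Chart.isQCoh {M : (CohB1.ProjSpaceOver n T).Modules} (hM : Coh.IsQCoh M) : Coh.IsQCoh (c.Q.obj M) :=
  QC.isQCoh_pullback c.q hM

theorem Chart.shortExact {S : ShortComplex (CohB1.ProjSpaceOver n T).Modules} (hS : S.ShortExact) :
    (S.map c.Q).ShortExact :=
  ShortComplex.shortExact_of_iso (S.mapNatIso (Scheme.Modules.restrictFunctorIsoPullback c.q))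
    (hS.map_of_exact (Scheme.Modules.restrictFunctor c.q))

/-- The isomorphism of the preimage with the projective space. -/
def Chart.kappa : (CohB1.ProjSpaceOver.toBase n T ⁻¹ᵁ V).toScheme ≅ CohB1.ProjSpace n Γ(T, V) :=
  IsOpenImmersion.isoOfRangeEq (CohB1.ProjSpaceOver.toBase n T ⁻¹ᵁ V).ι c.q c.range.symm

theorem Chart.kappa_fac : c.kappa.hom ≫ c.q = (CohB1.ProjSpaceOver.toBase n T ⁻¹ᵁ V).ι :=
  IsOpenImmersion.isoOfRangeEq_hom_fac _ _ _

/-- The two ways of restricting to a preimage. -/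
def Chart.resIso (M : (CohB1.ProjSpaceOver n T).Modules) :
    (Scheme.Modules.pullback c.kappa.hom).obj (c.Q.obj M) ≅
      M.restrict (CohB1.ProjSpaceOver.toBase n T ⁻¹ᵁ V).ι :=
  (Scheme.Modules.pullbackComp c.kappa.hom c.q).app _ ≪≫
    (Scheme.Modules.pullbackCongr c.kappa_fac).app _ ≪≫
      ((Scheme.Modules.restrictFunctorIsoPullback _).app _).symm

theorem Chart.subsingleton_iff (M : (CohB1.ProjSpaceOver n T).Modules) (hM : Coh.IsQCoh M) (i : ℕ) :
    Subsingleton (CohSite.HU (Coh.toAb M) i (CohB1.ProjSpaceOver.toBase n T ⁻¹ᵁ V)) ↔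
      Subsingleton (Coh.HH (CohB1.ProjSpace n Γ(T, V)) (c.Q.obj M) i) := by
  obtain ⟨a⟩ := CohQC.hu_restrict M (CohB1.ProjSpaceOver.toBase n T ⁻¹ᵁ V) i
  constructor
  · intro h
    have h' : Subsingleton (Coh.HH _ (M.restrict (CohB1.ProjSpaceOver.toBase n T ⁻¹ᵁ V).ι) i) :=
      a.symm.toEquiv.subsingleton
    have h'' := CohQC.hh_subsingleton_of_iso (c.resIso M).symm i h'
    have h3 := TwistOverVan.subsingleton_hh_pullback_iso c.kappa.inv _
      (QC.isQCoh_pullback c.kappa.hom (c.isQCoh hM)) i h''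
    exact CohQC.hh_subsingleton_of_iso ((Scheme.Modules.pullbackComp c.kappa.inv c.kappa.hom).app _ ≪≫
      (Scheme.Modules.pullbackCongr c.kappa.inv_hom_id).app _ ≪≫ (Scheme.Modules.pullbackId _).app _) i h3
  · intro h
    have h' := TwistOverVan.subsingleton_hh_pullback_iso c.kappa.hom _ (c.isQCoh hM) i h
    have h'' := CohQC.hh_subsingleton_of_iso (c.resIso M) i h'
    exact a.toEquiv.subsingleton

theorem Chart.nonempty_twF (d : ℤ) (F : (CohB1.ProjSpaceOver n T).Modules) :
    Nonempty (c.Q.obj (KRR.twF n T d F) ≅ CohB1.tensorMod (c.Q.obj F) (Ot Γ(T, V) n d)) := by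
  obtain ⟨e⟩ := TMul.nonempty_pullTensorIso c.q (Twist.twistOver n T d) F
  exact ⟨e.symm ≪≫ PicGrp.tensorModIso (c.tw d) (Iso.refl _) ≪≫ TMul.commIso _ _⟩

theorem isQCoh_twF (d : ℤ) {F : (CohB1.ProjSpaceOver n T).Modules} (hF : Coh.IsQCoh F) :
    Coh.IsQCoh (KRR.twF n T d F) :=
  QC.isQCoh_of_iso (TMul.commIso F (Twist.twistOver n T d))
    (TMul.isQCoh_tensor (PicLoc.isInvertible_pullback _ (CohFinite.isInvertible_twist n _ d)) (hF := hF))

/-- Vanishing of a higher direct image, chart by chart. -/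
theorem isZero_iff (M : (CohB1.ProjSpaceOver n T).Modules) (hM : Coh.IsQCoh M) (i : ℕ) :
    IsZero ((Coh.RpushAb (CohB1.ProjSpaceOver.toBase n T) i).obj (Coh.toAb M)) ↔
      ∀ (V : T.Opens) (c : Chart n T V), Subsingleton (Coh.HH (CohB1.ProjSpace n Γ(T, V)) (c.Q.obj M) i) := by
  haveI := HQProj.isProper_toBase n T
  constructor
  · intro hz V c
    refine (c.subsingleton_iff M hM i).1 ?_
    obtain ⟨b⟩ := W7Hull.hu_equiv_sections (CohB1.ProjSpaceOver.toBase n T) M hM c.aff i
    haveI : Subsingleton ↑(((Coh.RpushAb (CohB1.ProjSpaceOver.toBase n T) i).obj (Coh.toAb M)).obj.obj (op V)) :=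
      AddCommGrpCat.subsingleton_of_isZero ((Functor.map_isZero (sheafToPresheaf _ _) hz).obj (op V))
    exact b.toEquiv.subsingleton
  · intro h
    refine W7Hull.isZero_rpushAb_of_cover _ _ hM i fun y => ?_
    obtain ⟨V, hV, hyV, -⟩ := exists_isAffineOpen_mem_and_subset (X := T) (x := y) (U := ⊤) trivial
    exact ⟨V, hV, hyV, ((chartAt n hV).subsingleton_iff M hM i).2 (h V _)⟩

/-- Regularity, chart by chart. -/
theorem isRegSheaf_iff {F : (CohB1.ProjSpaceOver n T).Modules} (hF : Coh.IsQCoh F) :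
    KRR.IsRegSheaf n T F ↔ ∀ (V : T.Opens) (c : Chart n T V), Reg (c.Q.obj F) 0 := by
  constructor
  · intro h V c q hq
    obtain ⟨e⟩ := c.nonempty_twF (-(q : ℤ)) F
    rw [zero_sub]
    exact CohQC.hh_subsingleton_of_iso e q ((isZero_iff _ (isQCoh_twF _ hF) q).1 (h q hq) V c)
  · intro h q hq
    refine (isZero_iff _ (isQCoh_twF _ hF) q).2 fun V c => ?_
    obtain ⟨e⟩ := c.nonempty_twF (-(q : ℤ)) F
    have := h V c q hq
    rw [zero_sub] at this
    exact CohQC.hh_subsingleton_of_iso e.symm q this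

/-- Regularity of a twist, chart by chart. -/
theorem Chart.reg_twF (d : ℤ) (F : (CohB1.ProjSpaceOver n T).Modules) :
    Reg (c.Q.obj (KRR.twF n T d F)) 0 ↔ Reg (c.Q.obj F) d := by
  obtain ⟨e⟩ := c.nonempty_twF d F
  refine ⟨fun h => ?_, fun h => reg_of_iso e.symm ?_⟩
  · simpa using reg_of_twist (a := d) (reg_of_iso e h)
  · simpa using reg_twist h d

end Groth.Agent.PnReg
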