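import Groth.Agent.PnReg.Push
import Groth.Agent.K0Coh.Basic
import Groth.Agent.CohFinite.Serre
import Groth.Agent.PnReg.VanishFree

/-!
High twists of a coherent sheaf are regular.
-/

set_option autoImplicit false
set_option linter.unusedSectionVars false
set_option linter.style.haveILetI false
set_option backward.isDefEq.respectTransparency false
set_option backward.isDefEq.respectTransparency.types false
set_option maxHeartbeats 1000000

universe u

open CategoryTheory CategoryTheory.Limits AlgebraicGeometry TopologicalSpace Opposite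

noncomputable section

namespace Groth.Agent.PnReg

variable {n : ℕ} {T : Scheme.{u}}

theorem exists_reg_twF [CompactSpace T] {F : (CohB1.ProjSpaceOver n T).Modules} (hF : FlatMod.IsFinLocFree F) :
    ∃ m₀ : ℕ, ∀ m : ℕ, m₀ ≤ m → KRR.IsRegSheaf n T (KRR.twF n T (m : ℤ) F) := by
  haveI := HQProj.isProper_toBase n T
  have hcov : ∀ y : T, ∃ V : T.affineOpens, y ∈ V.1 := fun y => by
    obtain ⟨V, hV, hy, -⟩ := exists_isAffineOpen_mem_and_subset (X := T) (x := y) (U := ⊤) trivial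
    exact ⟨⟨V, hV⟩, hy⟩
  choose V hV using hcov
  obtain ⟨t, ht⟩ := isCompact_univ.elim_finite_subcover (fun y : T => ((V y).1 : Set T)) (fun y => (V y).1.2)
    fun y _ => Set.mem_iUnion.2 ⟨y, hV y⟩
  have hb : ∀ y : T, ∃ N : ℕ, ∀ m : ℕ, N ≤ m →
      Reg ((chartAt (n := n) (V y).2).Q.obj F) (m : ℤ) := fun y => by
    let c := chartAt (n := n) (V y).2
    have hQ : FlatMod.IsFinLocFree (c.Q.obj F) := DerPerf.isFinLocFree_pullback c.q hF
    obtain ⟨m₁, hm₁⟩ := vanish_free n Γ(T, (V y).1) _ hQ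
    refine ⟨m₁ + n, fun m hm q hq => ?_⟩
    rcases lt_or_ge n q with h | h
    · exact hh_above _ (isQCoh_twist (c.isQCoh (isQCoh_of_finLocFree hF)) _) q h
    obtain ⟨p, rfl⟩ : ∃ p, q = p + 1 := ⟨q - 1, by omega⟩
    obtain ⟨e⟩ := GrT.nonempty_iso_tensorPow (𝒜 := CohB1.polyGrading n Γ(T, (V y).1)) (CohFinite.cov_one n _) (m - (p + 1))
    have hh := hm₁ (m - (p + 1)) (by omega) p
    rw [show (m : ℤ) - ((p + 1 : ℕ) : ℤ) = ((m - (p + 1) : ℕ) : ℤ) by omega]
    exact CohQC.hh_subsingleton_of_iso (PicGrp.tensorModIso (Iso.refl _) e).symm _ hh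
  choose N hN using hb
  refine ⟨t.sup N, fun m hm q hq => ?_⟩
  refine W7Hull.isZero_rpushAb_of_cover _ _ (isQCoh_twF _ (isQCoh_twF _ (isQCoh_of_finLocFree hF))) q fun z => ?_
  obtain ⟨y, hy⟩ := Set.mem_iUnion.1 (ht (Set.mem_univ z))
  obtain ⟨hyt, hzy⟩ := Set.mem_iUnion.1 hy
  let c := chartAt (n := n) (V y).2
  refine ⟨(V y).1, (V y).2, hzy, (c.subsingleton_iff _ (isQCoh_twF _ (isQCoh_twF _ (isQCoh_of_finLocFree hF))) q).2 ?_⟩
  obtain ⟨e⟩ := c.nonempty_twF (-(q : ℤ)) (KRR.twF n T (m : ℤ) F)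
  have h := (c.reg_twF (m : ℤ) F).2 (hN y m ((Finset.le_sup hyt).trans hm)) q hq
  rw [zero_sub] at h
  exact CohQC.hh_subsingleton_of_iso e.symm q h

end Groth.Agent.PnReg
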