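import Groth.Agent.PnReg.KPush
import Groth.Agent.S0927

/-!
The projection formula for the push-forward of regular bundles.
-/

set_option autoImplicit false
set_option linter.unusedSectionVars false
set_option linter.style.haveILetI false
set_option backward.isDefEq.respectTransparency false
set_option backward.isDefEq.respectTransparency.types false
set_option maxHeartbeats 1000000

universe u

open CategoryTheory CategoryTheory.Limits AlgebraicGeometry TopologicalSpace Opposite

noncomputable section

namespace Groth.Agent.PnReg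

theorem isZero_of_toAb {X : Scheme.{u}} {M : X.Modules} (h : IsZero (Coh.toAb M)) : IsZero M := by
  rw [IsZero.iff_id_eq_zero]
  exact (SheafOfModules.toSheaf X.ringCatSheaf).map_injective (h.eq_of_src _ _)

variable {n : ℕ} {T : Scheme.{u}} {E : T.Modules}

/-- Tensoring with a bundle from the base keeps regularity. -/
theorem isRegSheaf_pull_tensor {F : (CohB1.ProjSpaceOver n T).Modules} (hE : FlatMod.IsFinLocFree E)
    (hreg : KRR.IsRegSheaf n T F) :
    KRR.IsRegSheaf n T (CohB1.tensorMod ((Scheme.Modules.pullback (KRR.pr n T)).obj E) F) := by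
  intro i hi
  let F' := KRR.twF n T (-(i : ℤ)) F
  obtain ⟨a⟩ := CohQC.toAb_rpush_iso (KRR.pr n T) F' i
  have hz : IsZero ((Coh.Rpush (KRR.pr n T) i).obj F') := isZero_of_toAb ((hreg i hi).of_iso a)
  obtain ⟨b⟩ := Groth.Agent.S0927.result (KRR.pr n T) F' E hE i
  have hz' := (isZero_tensor_right hz E).of_iso b.symm
  obtain ⟨a'⟩ := CohQC.toAb_rpush_iso (KRR.pr n T) (CohB1.tensorMod ((Scheme.Modules.pullback (KRR.pr n T)).obj E) F') i
  refine ((SheafOfModules.toSheaf _).map_isZero hz').of_iso ?_
  exact (Coh.RpushAb (KRR.pr n T) i).mapIso ((SheafOfModules.toSheaf _).mapIso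
    (moveIso ((Scheme.Modules.pullback (KRR.pr n T)).obj E) F (-(i : ℤ))).symm) ≪≫ a'.symm

/-- The projection formula. -/
theorem nonempty_push_tensor (F : (CohB1.ProjSpaceOver n T).Modules) (hE : FlatMod.IsFinLocFree E) :
    Nonempty ((Scheme.Modules.pushforward (KRR.pr n T)).obj
        (CohB1.tensorMod ((Scheme.Modules.pullback (KRR.pr n T)).obj E) F) ≅
      CohB1.tensorMod E ((Scheme.Modules.pushforward (KRR.pr n T)).obj F)) := by
  obtain ⟨b⟩ := Groth.Agent.S0927.result (KRR.pr n T) F E hE 0
  exact ⟨(((Coh.push (KRR.pr n T)).rightDerivedZeroIsoSelf).app _).symm ≪≫ b.symm ≪≫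
    PicGrp.tensorModIso (Iso.refl E) (((Coh.push (KRR.pr n T)).rightDerivedZeroIsoSelf).app F)⟩

end Groth.Agent.PnReg
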