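import Groth.Agent.GrT.TwistEpi
import Groth.Agent.RegTilde.LinRes

/-!
Local sections on `Proj` come from maps out of negative twists.
-/

set_option autoImplicit false
set_option backward.isDefEq.respectTransparency false
set_option backward.isDefEq.respectTransparency.types false
set_option linter.style.haveILetI false

universe u

open CategoryTheory CategoryTheory.Limits DirectSum TopologicalSpace AlgebraicGeometry Opposite
open Groth.Agent.QC (res resO res_res res_smul resO_resO app_res)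
open GrT

noncomputable section

namespace Groth.Agent.PnReg

variable {R A : Type u} [CommRing R] [CommRing A] [Algebra R A] {𝒜 : ℕ → Submodule R A}
  [GradedAlgebra 𝒜]

section Shift

variable {M : Type u} [AddCommGroup M] [Module R M] [Module A M] (ℳ : ℕ → Submodule R M)
  [SetLike.GradedSMul 𝒜 ℳ]

theorem exists_shift {U : (Proj 𝒜).Opens} (s : Γ(GrTilde.tilde 𝒜 ℳ 0, U)) {x : Proj 𝒜} (hx : x ∈ U) :
    ∃ (N : ℕ) (φ : Twist.twist 𝒜 (-(N : ℤ)) ⟶ GrTilde.tilde 𝒜 ℳ 0) (V : (Proj 𝒜).Opens) (hV : V ≤ U),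
      x ∈ V ∧ ∃ t, φ.app V t = res _ hV s := by
  obtain ⟨l, i', b, a, -, hb, ha, hn, hbx, hbU, hval⟩ := exists_frac_nhd 𝒜 ℳ
    (U := op U) (s : GrTilde.sect 𝒜 ℳ 0 (op U)) ⟨x, hx⟩
  have hl : i' = l := by omega
  subst hl
  let V := Proj.basicOpen 𝒜 b
  have hVU : V ≤ U := fun z hz => hbU ((ProjectiveSpectrum.mem_basicOpen 𝒜 b z).mpr
    ((ProjectiveSpectrum.mem_basicOpen 𝒜 _ z).mp hz))
  let t : Γ(GrTilde.tilde 𝒜 𝒜 (-(i' : ℤ)), V) :=
    fracSect 𝒜 𝒜 (-(i' : ℤ)) (SetLike.GradedOne.one_mem (A := 𝒜)) hb (by simp) V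
      fun z => (ProjectiveSpectrum.mem_basicOpen 𝒜 _ z.1).mp z.2
  refine ⟨i', shiftTilde (𝒜 := 𝒜) ℳ ha, V, hVU, (ProjectiveSpectrum.mem_basicOpen 𝒜 _ x).mpr hbx, t,
    pt_ext 𝒜 ℳ fun y => ?_⟩
  have hby := (ProjectiveSpectrum.mem_basicOpen 𝒜 _ y.1).mp y.2
  refine (pt_shiftTilde ℳ ha t y).trans ?_
  refine Eq.trans ?_ (hval ⟨y.1, hVU y.2⟩ hby).symm
  refine (shiftLoc_fr a y.1 _ hby).trans ?_
  exact congrArg (fun m => fr 𝒜 y.1 m b hby) (one_smul A a)

end Shift

/-- Every local section comes from a map out of a negative twist. -/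
theorem exists_from_twist {ι : Type u} [Finite ι] {v : ι → A} (hv : ∀ i, v i ∈ 𝒜 1) {F : (Proj 𝒜).Modules}
    (hF : Coh.IsQCoh F) (hcov : ∀ x : ProjectiveSpectrum 𝒜, ∃ i, v i ∉ x.asHomogeneousIdeal)
    {U : (Proj 𝒜).Opens} (s : Γ(F, U)) {x : Proj 𝒜} (hx : x ∈ U) :
    ∃ (N : ℕ) (φ : Twist.twist 𝒜 (-(N : ℤ)) ⟶ F) (V : (Proj 𝒜).Opens) (hV : V ≤ U),
      x ∈ V ∧ ∃ t, φ.app V t = res _ hV s := by
  haveI := isIso_toTilde (hv := hv) hF hcov
  let e := asIso (GrT.toTilde hv hF hcov)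
  obtain ⟨N, φ, V, hV, hxV, t, ht⟩ := exists_shift (piece 𝒜 v hv F) (e.hom.app U s) hx
  refine ⟨N, φ ≫ e.inv, V, hV, hxV, t, ?_⟩
  refine (congrArg (e.inv.app V) ht).trans ?_
  rw [← app_res]
  exact congrArg (res F hV) (congrArg (RegKos.ev s) e.hom_inv_id)

section Gen

variable {X : Scheme.{u}} {L L' F : X.Modules}

open RegKos Mumford in
/-- Maps out of `L` have image in the span of global sections when the twisted global sections split. -/
theorem mem_span_of_pureSums (η : CohB1.tensorMod L' L ≅ Coh.structureModule X) (hL : PicF.IsInvertible L) (hL' : PicF.IsInvertible L')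
    (h : ∀ z, z ∈ pureSums F L') (φ : L ⟶ F) {U : X.Opens} (t : Γ(L, U)) :
    φ.app U t ∈ Submodule.span Γ(X, U) (Set.range fun g : Γ(F, ⊤) => res F (le_top : U ≤ ⊤) g) := by
  have he : φ = LinRes.secHom η ((CohFinite.tmap φ L').app ⊤ (LinRes.gen₀ η)) := by
    rw [← sub_eq_zero]
    refine LinRes.eq_zero_of_tmap hL' _ (LinRes.eq_zero_of_gen (TMul.commIso L L' ≪≫ η) _ ?_)
    change (CohFinite.tmap (φ - LinRes.secHom η ((CohFinite.tmap φ L').app ⊤ (LinRes.gen₀ η))) L').app ⊤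
      (LinRes.gen₀ η) = 0
    have hadd := CohFinite.tmap_add (φ - LinRes.secHom η ((CohFinite.tmap φ L').app ⊤ (LinRes.gen₀ η)))
      (LinRes.secHom η ((CohFinite.tmap φ L').app ⊤ (LinRes.gen₀ η))) L'
    rw [sub_add_cancel] at hadd
    have h2 := congrArg (ev (LinRes.gen₀ η)) hadd
    rw [map_add] at h2
    change (CohFinite.tmap φ L').app ⊤ (LinRes.gen₀ η) = _ + (CohFinite.tmap (LinRes.secHom η _) L').app ⊤ (LinRes.gen₀ η) at h2
    rw [LinRes.tmap_secHom_gen η hL'] at h2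
    exact add_eq_right.1 h2.symm
  rw [he, LinRes.secHom_app]
  obtain ⟨p, hp⟩ := h ((CohFinite.tmap φ L').app ⊤ (LinRes.gen₀ η))
  rw [← hp]
  clear hp he
  induction p using TensorProduct.induction_on with
  | zero => rw [map_zero, map_zero, TMul.zero_tm, map_zero]; exact zero_mem _
  | tmul g a =>
    rw [TMul.tt_tmul, TMul.res_tm, Phi_tm]
    exact Submodule.smul_mem _ _ (Submodule.subset_span ⟨g, rfl⟩)
  | add a b ha hb => rw [map_add, map_add, TMul.tm_add, map_add]; exact add_mem ha hb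

end Gen

end Groth.Agent.PnReg
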