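import Groth.Agent.RegTilde.Mumford
import Groth.Agent.PnReg.Local
import Groth.Agent.LocFree.Props
import Groth.Agent.DQCoh.PerfCrit


/-!
Castelnuovo–Mumford regularity of quasi-coherent modules on projective space over any ring.
-/

set_option autoImplicit false
set_option linter.unusedSectionVars false
set_option linter.style.haveILetI false
set_option backward.isDefEq.respectTransparency false
set_option backward.isDefEq.respectTransparency.types false

universe u

open CategoryTheory CategoryTheory.Limits AlgebraicGeometry TopologicalSpace Opposite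
open Groth.Agent.QC (res res_res app_res)
open Groth.Agent.RegKos Groth.Agent.Mumford

noncomputable section

namespace Groth.Agent.PnReg

section Cx

variable {X : Scheme.{u}} (E : ChainComplex X.Modules ℕ)

/-- The map from the cokernel onto the image of the next differential. -/
def toIm (s : ℕ) : cokernel (E.d (s + 1 + 1) (s + 1)) ⟶ Abelian.image (E.d (s + 1) s) :=
  cokernel.desc _ (Abelian.factorThruImage (E.d (s + 1) s))
    (by rw [← cancel_mono (Abelian.image.ι (E.d (s + 1) s)), Category.assoc, Abelian.image.fac, E.d_comp_d, zero_comp])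

theorem isIso_toIm (s : ℕ) (hz : IsZero (E.homology (s + 1))) : IsIso (toIm E s) := by
  haveI : Epi (cokernel.π (E.d (s + 1 + 1) (s + 1)) ≫ toIm E s) := by
    rw [toIm, cokernel.π_desc]; infer_instance
  haveI : Epi (toIm E s) := epi_of_epi (cokernel.π _) _
  let k : kernel (toIm E s) ≅ E.homology (s + 1) :=
    (kernelCompMono (toIm E s) (Abelian.image.ι (E.d (s + 1) s))).symm ≪≫
      kernelIsoOfEq (show toIm E s ≫ Abelian.image.ι _ = cokernel.desc _ (E.d (s + 1) s) (E.d_comp_d _ _ _) by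
        rw [← cancel_epi (cokernel.π (E.d (s + 1 + 1) (s + 1))), toIm, cokernel.π_desc_assoc, cokernel.π_desc,
          Abelian.image.fac]) ≪≫
      (E.sc' (s + 1 + 1) (s + 1) s).homologyIsoKernelDesc.symm ≪≫
      (E.homologyIsoSc' (s + 1 + 1) (s + 1) s (by simp) (by simp)).symm
  haveI : Mono (toIm E s) := Preadditive.mono_of_isZero_kernel _ (IsZero.of_iso hz k)
  exact isIso_of_mono_of_epi _

end Cx

variable {R : Type u} [CommRing R] {n : ℕ}

variable (R n) in
/-- `O(a)`. -/
abbrev Ot (a : ℤ) : (CohB1.ProjSpace n R).Modules := Twist.twistProjSpace n R a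

/-- Regularity in all positive degrees. -/
def Reg (F : (CohB1.ProjSpace n R).Modules) (m : ℤ) : Prop :=
  ∀ q : ℕ, 1 ≤ q → Subsingleton (Coh.HH (CohB1.ProjSpace n R) (CohB1.tensorMod F (Ot R n (m - q))) q)

theorem isQCoh_twist {F : (CohB1.ProjSpace n R).Modules} (hF : Coh.IsQCoh F) (c : ℤ) :
    Coh.IsQCoh (CohB1.tensorMod F (Ot R n c)) :=
  TMul.isQCoh_tensor (CohFinite.isInvertible_twist n R c) (hF := hF)

/-- Vanishing above the relative dimension. -/
theorem hh_above (F : (CohB1.ProjSpace n R).Modules) (hF : Coh.IsQCoh F) (q : ℕ) (hq : n < q) :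
    Subsingleton (Coh.HH (CohB1.ProjSpace n R) F q) :=
  haveI := hF
  Groth.Agent.S0022.result n R _ q hq

set_option maxHeartbeats 2000000 in
lemma nonempty_twist_twist (a b c : ℤ) (h : a + b = c) :
    Nonempty (CohB1.tensorMod (Ot R n a) (Ot R n b) ≅ Ot R n c) := by
  obtain ⟨i⟩ := GrT.nonempty_tensor_iso (a := a) (b := b) (c := c) (CohB1.polyGrading n R) (CohFinite.cov_one n R) h
  exact ⟨i⟩

lemma nonempty_twist_zero : Nonempty (Ot R n 0 ≅ Coh.structureModule (CohB1.ProjSpace n R)) :=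
  GrT.nonempty_twist_zero_iso (𝒜 := CohB1.polyGrading n R)

set_option maxHeartbeats 2000000 in
lemma exists_eta_pow (e : ℤ) :
    Nonempty (CohB1.tensorMod (Ot R n e) (Ot R n (-e)) ≅ Coh.structureModule (CohB1.ProjSpace n R)) := by
  obtain ⟨i⟩ := nonempty_twist_twist (R := R) (n := n) e (-e) 0 (by norm_num)
  obtain ⟨j⟩ := nonempty_twist_zero (R := R) (n := n)
  exact ⟨i ≪≫ j⟩

lemma nonempty_twistF (F : (CohB1.ProjSpace n R).Modules) (a b c : ℤ) (h : a + b = c) :
    Nonempty (CohB1.tensorMod (CohB1.tensorMod F (Ot R n a)) (Ot R n b) ≅ CohB1.tensorMod F (Ot R n c)) := by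
  obtain ⟨e⟩ := nonempty_twist_twist (R := R) (n := n) a b c h
  exact ⟨TMul.assocIso _ _ _ ≪≫ PicGrp.tensorModIso (Iso.refl _) e⟩

lemma nonempty_twistF_zero (F : (CohB1.ProjSpace n R).Modules) :
    Nonempty (CohB1.tensorMod F (Ot R n 0) ≅ F) := by
  obtain ⟨j⟩ := nonempty_twist_zero (R := R) (n := n)
  exact ⟨PicGrp.tensorModIso (Iso.refl F) j ≪≫ TMul.commIso F (Coh.structureModule _) ≪≫ TMul.leftUnitIso F⟩

lemma hh_twist_twist (F : (CohB1.ProjSpace n R).Modules) (a b c : ℤ) (h : a + b = c) (q : ℕ)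
    (hv : Subsingleton (Coh.HH (CohB1.ProjSpace n R) (CohB1.tensorMod F (Ot R n c)) q)) :
    Subsingleton (Coh.HH (CohB1.ProjSpace n R) (CohB1.tensorMod (CohB1.tensorMod F (Ot R n a)) (Ot R n b)) q) := by
  obtain ⟨e⟩ := nonempty_twistF F a b c h
  exact CohQC.hh_subsingleton_of_iso e.symm _ hv

theorem reg_twist {F : (CohB1.ProjSpace n R).Modules} {m : ℤ} (hF : Reg F m) (a : ℤ) :
    Reg (CohB1.tensorMod F (Ot R n a)) (m - a) := fun q hq =>
  hh_twist_twist F a (m - a - q) (m - q) (by ring) q (hF q hq)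

theorem reg_of_twist {F : (CohB1.ProjSpace n R).Modules} {m a : ℤ}
    (hF : Reg (CohB1.tensorMod F (Ot R n a)) m) : Reg F (m + a) := fun q hq => by
  obtain ⟨e⟩ := nonempty_twistF F a (m - q) (m + a - q) (by ring)
  exact CohQC.hh_subsingleton_of_iso e _ (hF q hq)

theorem reg_of_iso {F G : (CohB1.ProjSpace n R).Modules} (i : F ≅ G) {m : ℤ} (hF : Reg F m) : Reg G m :=
  fun q hq => CohQC.hh_subsingleton_of_iso (PicGrp.tensorModIso i (Iso.refl _)) _ (hF q hq)

theorem reg_of_isZero {Z : (CohB1.ProjSpace n R).Modules} (hZ : IsZero Z) (m : ℤ) : Reg Z m := fun q _ =>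
  CohFinite.subsingleton_of_split _ (fun e : Fin 0 => e.elim0) (fun e => e.elim0) (fun e => e.elim0) (by
    rw [Finset.univ_eq_empty, Finset.sum_empty, ← CohFinite.tmap_id, show 𝟙 Z = 0 from hZ.eq_of_src _ _,
      CohFinite.tmap_zero]) q fun e => e.elim0

theorem reg_biprod {A B : (CohB1.ProjSpace n R).Modules} {m : ℤ} (hA : Reg A m) (hB : Reg B m) :
    Reg (A ⊞ B) m := fun q hq =>
  CohQC.subsingleton_hh_middle
    (CohFinite.shortExact_tmap (CohFinite.isInvertible_twist n R _)
      (ShortComplex.Splitting.ofHasBinaryBiproduct A B).shortExact) q (hA q hq) (hB q hq)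

/-- Regularity along an exact complex. -/
theorem reg_of_complex (E : ChainComplex (CohB1.ProjSpace n R).Modules ℕ) (hcoh : ∀ s : ℕ, Coh.IsQCoh (E.X s))
    (d : ℤ) (hreg : ∀ s : ℕ, Reg (E.X s) (d + s)) (hex : ∀ s : ℕ, IsZero (E.homology (s + 1))) :
    ∀ (m q s : ℕ), n < q + m → 1 ≤ q →
      Subsingleton (Coh.HH (CohB1.ProjSpace n R)
          (CohB1.tensorMod (cokernel (E.d (s + 1) s)) (Ot R n (d + s - q))) q) ∧
        Subsingleton (Coh.HH (CohB1.ProjSpace n R)
          (CohB1.tensorMod (Abelian.image (E.d (s + 1) s)) (Ot R n (d + s + 1 - q))) q) := by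
  have hi : ∀ s, IsIso (toIm E s) := fun s => isIso_toIm E s (hex s)
  intro m
  induction m with
  | zero =>
    intro q s hq _
    exact ⟨hh_above _ (isQCoh_twist (QC.isQCoh_cokernel (hcoh _) (hcoh _) _) _) q (by omega),
      hh_above _ (isQCoh_twist (QC.isQCoh_kernel (hcoh _) (QC.isQCoh_cokernel (hcoh _) (hcoh _) _) _) _) q
        (by omega)⟩
  | succ m ih =>
    have hcok : ∀ (q s : ℕ), n < q + (m + 1) → 1 ≤ q → Subsingleton (Coh.HH (CohB1.ProjSpace n R)
        (CohB1.tensorMod (cokernel (E.d (s + 1) s)) (Ot R n (d + s - q))) q) := by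
      intro q s hq h1
      have hS : (ShortComplex.mk (Abelian.image.ι (E.d (s + 1) s)) (cokernel.π (E.d (s + 1) s))
          (kernel.condition _)).ShortExact :=
        { exact := ShortComplex.exact_of_f_is_kernel _ (kernelIsKernel _) }
      refine CohFinite.subsingleton_of_shortExact
        (CohFinite.shortExact_tmap (CohFinite.isInvertible_twist n R (d + s - q)) hS) q (hreg s q h1) ?_
      have h := (ih (q + 1) s (by omega) (by omega)).2
      rwa [show d + (s : ℤ) + 1 - ((q + 1 : ℕ) : ℤ) = d + s - q by push_cast; ring] at h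
    intro q s hq h1
    refine ⟨hcok q s hq h1, ?_⟩
    haveI := hi s
    have h := hcok q (s + 1) hq h1
    rw [show d + ((s + 1 : ℕ) : ℤ) - (q : ℤ) = d + s + 1 - q by push_cast; ring] at h
    exact CohQC.hh_subsingleton_of_iso (PicGrp.tensorModIso (asIso (toIm E s)) (Iso.refl _)) _ h

variable (R n) in
/-- A chosen trivialisation of `O(-1) ⊗ O(1)`. -/
def eta : CohB1.tensorMod (Ot R n (-1)) (Ot R n 1) ≅ Coh.structureModule (CohB1.ProjSpace n R) :=
  ((nonempty_twist_twist (R := R) (n := n) (-1) 1 0 (by norm_num)).some ≪≫ nonempty_twist_zero.some)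

lemma top_le_one : (⊤ : (CohB1.ProjSpace n R).Opens) ≤
    Proj.basicOpen (CohB1.polyGrading n R) (1 : MvPolynomial (Fin (n + 1)) R) :=
  (Proj.basicOpen_one (CohB1.polyGrading n R)).ge

/-- The coordinate as a section of `O(1)`. -/
def secX (i : Fin (n + 1)) : Γ(Ot R n 1, ⊤) :=
  GrT.twistGen (CohB1.polyGrading n R) (i := 1) (j := 0) (MvPolynomial.isHomogeneous_X R i)
    SetLike.GradedOne.one_mem (by norm_num) (U := ⊤) top_le_one

lemma secX_isGen (i : Fin (n + 1)) :
    TMul.IsGen (res (Ot R n 1) (le_top : Proj.basicOpen (CohB1.polyGrading n R) (MvPolynomial.X i) ≤ ⊤)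
      (secX (R := R) i)) :=
  GrT.twistGen_bijective (CohB1.polyGrading n R) (i := 1) (j := 0) (MvPolynomial.isHomogeneous_X R i)
    SetLike.GradedOne.one_mem (by norm_num) le_rfl (le_top.trans top_le_one)

/-- The Koszul complex of the coordinates. -/
def K (F : (CohB1.ProjSpace n R).Modules) : Cx (CohB1.ProjSpace n R) :=
  kos (eta R n) F (List.ofFn secX)

lemma exists_cover (x : CohB1.ProjSpace n R) :
    ∃ i : Fin (n + 1), x ∈ Proj.basicOpen (CohB1.polyGrading n R) (MvPolynomial.X i) := by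
  obtain ⟨i, hi⟩ := CohFinite.cov_X n R x
  exact ⟨i.down, (ProjectiveSpectrum.mem_basicOpen _ _ x).mpr hi⟩

/-- A chart around a point. -/
def chart (x : CohB1.ProjSpace n R) : (CohB1.ProjSpace n R).Opens :=
  Proj.basicOpen (CohB1.polyGrading n R) (MvPolynomial.X (exists_cover x).choose)

lemma locEx_K (F : (CohB1.ProjSpace n R).Modules) (x : CohB1.ProjSpace n R) : LocEx (K F) (chart x) :=
  locEx_kos (eta R n) (CohFinite.isInvertible_twist n R (-1)) F _
    ⟨_, List.mem_ofFn.2 ⟨_, rfl⟩, secX_isGen _⟩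

lemma mem_chart (x : CohB1.ProjSpace n R) : x ∈ chart x := (exists_cover x).choose_spec

lemma kos_zero (F : (CohB1.ProjSpace n R).Modules) (l : List Γ(Ot R n 1, ⊤)) :
    (kos (eta R n) F l).obj 0 = F := by
  induction l with
  | nil => rfl
  | cons b l ih => exact ih

lemma isQCoh_of_isZero {Z : (CohB1.ProjSpace n R).Modules} (hZ : IsZero Z) : Coh.IsQCoh Z :=
  LocFree.isQCoh_of_isFinLocFree (DQCoh.isFinLocFree_of_isZero hZ)

lemma kos_terms (F : (CohB1.ProjSpace n R).Modules) (hF : Coh.IsQCoh F) (m : ℤ) (hreg : Reg F m) :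
    ∀ (l : List Γ(Ot R n 1, ⊤)) (s : ℕ), Coh.IsQCoh ((kos (eta R n) F l).obj s) ∧
      Reg ((kos (eta R n) F l).obj s) (m + s)
  | [], 0 => ⟨hF, by rw [Nat.cast_zero, add_zero]; exact hreg⟩
  | [], s + 1 => ⟨isQCoh_of_isZero initialIsInitial.isZero, reg_of_isZero initialIsInitial.isZero _⟩
  | b :: l, 0 => kos_terms F hF m hreg l 0
  | b :: l, s + 1 => by
    obtain ⟨h1, h2⟩ := kos_terms F hF m hreg l (s + 1)
    obtain ⟨h3, h4⟩ := kos_terms F hF m hreg l s
    refine ⟨CohQC.isQCoh_biprod h1 (isQCoh_twist h3 (-1)), reg_biprod h2 ?_⟩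
    have h5 := reg_twist h4 (-1)
    rwa [show m + (s : ℤ) - -1 = m + ((s + 1 : ℕ) : ℤ) by push_cast; ring] at h5

theorem reg_chain (F : (CohB1.ProjSpace n R).Modules) (hF : Coh.IsQCoh F) (m : ℤ)
    (hreg : Reg F m) (q s : ℕ) (hq : 1 ≤ q) :
    Subsingleton (Coh.HH (CohB1.ProjSpace n R)
      (CohB1.tensorMod (Abelian.image ((K F).d s)) (Ot R n (m + s + 1 - q))) q) := by
  have h := (reg_of_complex (K F).toChain (fun s => (kos_terms F hF m hreg _ s).1) m
    (fun s => (kos_terms F hF m hreg _ s).2) (fun s => RegKos.isZero_homology (K F) chart mem_chart (locEx_K F) s)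
      (n + 1) q s (by omega) hq).2
  rwa [Cx.toChain_d] at h

instance epi_d0 (F : (CohB1.ProjSpace n R).Modules) : Epi ((K F).d 0) :=
  epi_of_locEx (K F) chart mem_chart (locEx_K F)

/-- Regularity is monotone. -/
theorem reg_succ {F : (CohB1.ProjSpace n R).Modules} (hF : Coh.IsQCoh F) {m : ℤ} (hreg : Reg F m) :
    Reg F (m + 1) := by
  intro q hq
  have h := reg_chain F hF m hreg q 0 hq
  rw [Nat.cast_zero, add_zero] at h
  haveI : Epi (Abelian.image.ι ((K F).d 0)) := by
    haveI : Epi (Abelian.factorThruImage ((K F).d 0) ≫ Abelian.image.ι ((K F).d 0)) := by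
      rw [Abelian.image.fac]; infer_instance
    exact epi_of_epi (Abelian.factorThruImage ((K F).d 0)) _
  haveI : IsIso (Abelian.image.ι ((K F).d 0)) := isIso_of_mono_of_epi _
  exact CohQC.hh_subsingleton_of_iso
    (PicGrp.tensorModIso (asIso (Abelian.image.ι ((K F).d 0)) ≪≫ eqToIso (kos_zero F _)) (Iso.refl _)) _ h

theorem reg_add {F : (CohB1.ProjSpace n R).Modules} (hF : Coh.IsQCoh F) {m : ℤ} (hreg : Reg F m) :
    ∀ e : ℕ, Reg F (m + e)
  | 0 => by simpa using hreg
  | e + 1 => by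
    have h := reg_succ hF (reg_add hF hreg e)
    rwa [show m + (e : ℤ) + 1 = m + ((e + 1 : ℕ) : ℤ) by push_cast; ring] at h

theorem reg_twist_nat {F : (CohB1.ProjSpace n R).Modules} (hF : Coh.IsQCoh F) (hreg : Reg F 0) (e : ℕ) :
    Reg (CohB1.tensorMod F (Ot R n (e : ℤ))) 0 := by
  have := reg_twist (reg_add hF hreg e) (e : ℤ)
  simpa using this

/-- Regular modules have no higher cohomology. -/
theorem hh_of_reg {F : (CohB1.ProjSpace n R).Modules} (hF : Coh.IsQCoh F) (hreg : Reg F 0) (q : ℕ)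
    (hq : 1 ≤ q) : Subsingleton (Coh.HH (CohB1.ProjSpace n R) F q) := by
  have h := reg_add hF hreg q q hq
  rw [show (0 : ℤ) + q - q = 0 by ring] at h
  obtain ⟨i⟩ := nonempty_twistF_zero F
  exact CohQC.hh_subsingleton_of_iso i _ h

theorem surjective_one (G : (CohB1.ProjSpace n R).Modules) (hG : Coh.IsQCoh G) (hreg : Reg G 0)
    (z : Γ(CohB1.tensorMod G (Ot R n 1), ⊤)) : z ∈ pureSums G (Ot R n 1) := by
  haveI : Mono (cokernel.desc ((K G).d 1) ((K G).d 0) ((K G).dd 0)) :=
    (exact_of_locEx (K G) chart mem_chart (locEx_K G) 0).mono_cokernelDesc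
  let e : Abelian.image ((K G).d 1) ≅ kernel ((K G).d 0) :=
    (kernelCompMono (cokernel.π ((K G).d 1)) (cokernel.desc ((K G).d 1) ((K G).d 0) ((K G).dd 0))).symm ≪≫
      kernelIsoOfEq (cokernel.π_desc _ _ _)
  have hS : (ShortComplex.mk (kernel.ι ((K G).d 0)) ((K G).d 0) (kernel.condition _)).ShortExact :=
    { exact := ShortComplex.exact_of_f_is_kernel _ (kernelIsKernel _) }
  have h1 := reg_chain G hG 0 hreg 1 1 le_rfl
  norm_num at h1
  have h2 := CohQC.hh_subsingleton_of_iso (PicGrp.tensorModIso e (Iso.refl (Ot R n 1))) _ h1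
  have hsurj := CohQC.sections_surjective_top
    (CohQC.seq_shortExact (CohFinite.shortExact_tmap (CohFinite.isInvertible_twist n R 1) hS)) h2
  revert z
  suffices key : ∀ (H : (CohB1.ProjSpace n R).Modules) (h : (K G).obj 0 = H)
      (z : Γ(CohB1.tensorMod H (Ot R n 1), ⊤)), z ∈ pureSums H (Ot R n 1) from key G (kos_zero G _)
  rintro _ rfl z
  obtain ⟨w, rfl⟩ := hsurj z
  exact kos_range (eta R n) (CohFinite.isInvertible_twist n R 1) G _ w

theorem surjective_all (G : (CohB1.ProjSpace n R).Modules) (hG : Coh.IsQCoh G) (hreg : Reg G 0) :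
    ∀ (e : ℕ) (z : Γ(CohB1.tensorMod G (Ot R n (e : ℤ)), ⊤)), z ∈ pureSums G (Ot R n (e : ℤ))
  | 0, z => by
    let one : Γ(Ot R n ((0 : ℕ) : ℤ), ⊤) :=
      GrT.twistGen (CohB1.polyGrading n R) (i := 0) (j := 0) SetLike.GradedOne.one_mem
        SetLike.GradedOne.one_mem (by norm_num) (U := ⊤) top_le_one
    have hgen : TMul.IsGen one := GrT.twistGen_bijective (CohB1.polyGrading n R) (i := 0) (j := 0)
      SetLike.GradedOne.one_mem SetLike.GradedOne.one_mem (by norm_num) top_le_one top_le_one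
    obtain ⟨g, rfl⟩ := (TMul.tm_bijective hgen ⊤ le_rfl).2 z
    exact tm_mem _ _
  | e + 1, z => by
    obtain ⟨i⟩ := nonempty_twist_twist (R := R) (n := n) (e : ℤ) 1 ((e + 1 : ℕ) : ℤ) (by push_cast; rfl)
    obtain ⟨v, rfl⟩ := whisk_surjective G i ⊤ z
    obtain ⟨v, rfl⟩ : ∃ v', (TMul.assocHom G (Ot R n (e : ℤ)) (Ot R n 1)).app ⊤ v' = v :=
      ⟨(TMul.assocInv G _ _).app ⊤ v, congrArg (ev v) (TMul.assocIso G (Ot R n (e : ℤ)) (Ot R n 1)).inv_hom_id⟩
    obtain ⟨p, rfl⟩ := surjective_one _ (isQCoh_twist hG _) (reg_twist_nat hG hreg e) v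
    induction p using TensorProduct.induction_on with
    | zero => rw [map_zero, map_zero, map_zero]; exact zero_mem _
    | tmul h b =>
      rw [TMul.tt_tmul]
      obtain ⟨q, rfl⟩ := surjective_all G hG hreg e h
      induction q using TensorProduct.induction_on with
      | zero => rw [map_zero, TMul.zero_tm, map_zero, map_zero]; exact zero_mem _
      | tmul g a =>
        rw [TMul.tt_tmul, TMul.assocHom_tm, whisk_tm]
        exact tm_mem _ _
      | add q q' hq hq' => rw [map_add, TMul.tm_add, map_add, map_add]; exact add_mem hq hq'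
    | add p p' hp hp' => rw [map_add, map_add, map_add]; exact add_mem hp hp'

/-- Regular modules are generated by their global sections. -/
theorem generated_of_reg (G : (CohB1.ProjSpace n R).Modules) (hG : Coh.IsQCoh G) (hreg : Reg G 0)
    {U : (CohB1.ProjSpace n R).Opens} (s : Γ(G, U)) {x : CohB1.ProjSpace n R} (hx : x ∈ U) :
    ∃ (V : (CohB1.ProjSpace n R).Opens) (hV : V ≤ U), x ∈ V ∧
      res G hV s ∈ Submodule.span Γ(CohB1.ProjSpace n R, V)
        (Set.range fun g : Γ(G, ⊤) => res G (le_top : V ≤ ⊤) g) := by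
  obtain ⟨N, φ, V, hV, hxV, t, ht⟩ := exists_from_twist (ι := ULift.{u} (Fin (n + 1)))
    (v := fun i => MvPolynomial.X i.down) (fun i => MvPolynomial.isHomogeneous_X R i.down) hG
    (CohFinite.cov_X n R) s hx
  obtain ⟨η⟩ := exists_eta_pow (R := R) (n := n) (N : ℤ)
  exact ⟨V, hV, hxV, ht ▸ mem_span_of_pureSums η (CohFinite.isInvertible_twist n R _)
    (CohFinite.isInvertible_twist n R _) (surjective_all G hG hreg N) φ t⟩

end Groth.Agent.PnReg
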