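import Groth.Agent.PnReg.Push
import Groth.Agent.PnReg.VanishFlat
import Groth.Agent.FibDepth.Global
import Groth.Agent.ModDesc.Iso
import Groth.Agent.W7Strat.Strat

/-!
High twists of a flat finitely presented sheaf.
-/

set_option autoImplicit false
set_option linter.unusedSectionVars false
set_option linter.style.haveILetI false
set_option backward.isDefEq.respectTransparency false
set_option backward.isDefEq.respectTransparency.types false
set_option maxHeartbeats 1000000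

universe u

open CategoryTheory CategoryTheory.Limits AlgebraicGeometry TopologicalSpace Opposite

noncomputable section

namespace Groth.Agent.PnReg

variable {n : ℕ} {T : Scheme.{u}}

theorem Chart.isPullback {V : T.Opens} (c : Chart n T V) :
    IsPullback c.q (CohB1.ProjSpace.toSpec n Γ(T, V)) (CohB1.ProjSpaceOver.toBase n T) c.aff.fromSpec := by
  refine (IsOpenImmersion.isPullback (CohB1.ProjSpace.toSpec n Γ(T, V)) c.q c.aff.fromSpec
    (CohB1.ProjSpaceOver.toBase n T) c.fac ?_).flip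
  rw [c.aff.opensRange_fromSpec, c.opensRange]

theorem exists_vanish_twF [CompactSpace T] {F : (CohB1.ProjSpaceOver n T).Modules} (hF : CohB1.IsFP F)
    (hfl : FlatMod.IsFlatOver (KRR.pr n T) F) :
    ∃ n₀ : ℕ, ∀ m : ℕ, n₀ ≤ m → (∀ q : ℕ, 1 ≤ q →
      IsZero ((Coh.RpushAb (KRR.pr n T) q).obj (Coh.toAb (KRR.twF n T (m : ℤ) F)))) ∧
        FlatMod.IsFinLocFree ((Scheme.Modules.pushforward (KRR.pr n T)).obj (KRR.twF n T (m : ℤ) F)) := by
  haveI := HQProj.isProper_toBase n T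
  haveI := (PicFam.flat_lfp_toBase n T).2
  have hq := FibDepth.isQCoh_of_isFP hF
  have hcov : ∀ y : T, ∃ V : T.affineOpens, y ∈ V.1 := fun y => by
    obtain ⟨V, hV, hy, -⟩ := exists_isAffineOpen_mem_and_subset (X := T) (x := y) (U := ⊤) trivial
    exact ⟨⟨V, hV⟩, hy⟩
  choose V hV using hcov
  obtain ⟨t, ht⟩ := isCompact_univ.elim_finite_subcover (fun y : T => ((V y).1 : Set T)) (fun y => (V y).1.2)
    fun y _ => Set.mem_iUnion.2 ⟨y, hV y⟩
  have hb : ∀ y : T, ∃ N : ℕ, ∀ m : ℕ, N ≤ m → ∀ p : ℕ, Subsingleton (Coh.HH (CohB1.ProjSpace n Γ(T, (V y).1))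
      (CohB1.tensorMod ((chartAt (n := n) (V y).2).Q.obj F) (Ot Γ(T, (V y).1) n (m : ℤ))) (p + 1)) := fun y => by
    let c := chartAt (n := n) (V y).2
    obtain ⟨m₁, hm₁⟩ := vanish_flat n Γ(T, (V y).1) (c.Q.obj F) (c.isQCoh hq) (ModDesc.isFP_pullback c.q hq hF)
      (W7Strat.isFlatOver_pullback hfl c.isPullback)
    refine ⟨m₁, fun m hm p => ?_⟩
    obtain ⟨e⟩ := GrT.nonempty_iso_tensorPow (𝒜 := CohB1.polyGrading n Γ(T, (V y).1)) (CohFinite.cov_one n _) m
    exact CohQC.hh_subsingleton_of_iso (PicGrp.tensorModIso (Iso.refl _) e).symm _ (hm₁ m hm p)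
  choose N hN using hb
  refine ⟨t.sup N, fun m hm => ?_⟩
  let G := KRR.twF n T (m : ℤ) F
  have hGq : Coh.IsQCoh G := isQCoh_twF _ hq
  have hinv : PicF.IsInvertible (Twist.twistOver n T (m : ℤ)) :=
    PicLoc.isInvertible_pullback _ (CohFinite.isInvertible_twist n _ _)
  have hGfl : FlatMod.IsFlatOver (KRR.pr n T) G :=
    DQCoh.isFlatOver_of_iso (twComm (m : ℤ) F) (W7Cech.isFlatOver_tensor_invertible (KRR.pr n T) hq hfl hinv)
  have hGfp : CohB1.IsFP G := W7Cech.isFP_of_iso (twComm (m : ℤ) F) (W7Cech.isFP_tensor_invertible hF hinv)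
  have hu : ∀ y ∈ t, ∀ p : ℕ, Subsingleton (CohSite.HU (Coh.toAb G) (p + 1) (KRR.pr n T ⁻¹ᵁ (V y).1)) :=
    fun y hy p => by
      let c := chartAt (n := n) (V y).2
      obtain ⟨e⟩ := c.nonempty_twF (m : ℤ) F
      exact (c.subsingleton_iff G hGq (p + 1)).2
        (CohQC.hh_subsingleton_of_iso e.symm _ (hN y m ((Finset.le_sup hy).trans hm) p))
  have hcover : ∀ z : T, ∃ y ∈ t, z ∈ (V y).1 := fun z => by
    obtain ⟨y, hy⟩ := Set.mem_iUnion.1 (ht (Set.mem_univ z))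
    obtain ⟨hyt, hzy⟩ := Set.mem_iUnion.1 hy
    exact ⟨y, hyt, hzy⟩
  refine ⟨fun q hq1 => ?_, ?_⟩
  · obtain ⟨p, rfl⟩ : ∃ p, q = p + 1 := ⟨q - 1, by omega⟩
    refine W7Hull.isZero_rpushAb_of_cover _ _ hGq (p + 1) fun z => ?_
    obtain ⟨y, hy, hz⟩ := hcover z
    exact ⟨(V y).1, (V y).2, hz, hu y hy p⟩
  · refine W7Hull.isFinLocFree_push_of_vanish (KRR.pr n T) hGq hGfp hGfl fun z => ?_
    obtain ⟨y, hy, hz⟩ := hcover z
    refine ⟨(V y).1, hz, fun W hW hWV p => ?_⟩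
    refine W7Hull.subsingleton_rpush_sections_of_le (KRR.pr n T) G hGq (p + 1) (V y).2 hW hWV ?_
    obtain ⟨a⟩ := CohQC.hu_restrict G (KRR.pr n T ⁻¹ᵁ (V y).1) (p + 1)
    haveI := hu y hy p
    exact a.symm.toEquiv.subsingleton

end Groth.Agent.PnReg
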