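import Groth.Agent.PnReg.KFree

/-!
Direct images of high twists depend only on the class.
-/

set_option autoImplicit false
set_option linter.style.haveILetI false
set_option backward.isDefEq.respectTransparency false
set_option backward.isDefEq.respectTransparency.types false

universe u

open CategoryTheory CategoryTheory.Limits AlgebraicGeometry

noncomputable section

namespace Groth.Agent.PnReg

theorem exists_push_cls_eq {n : ℕ} {T : Scheme.{u}} [CompactSpace T] {F G : (CohB1.ProjSpaceOver n T).Modules}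
    (hF : FlatMod.IsFinLocFree F) (hG : FlatMod.IsFinLocFree G) (h : SGA6Ext.cls F = SGA6Ext.cls G) :
    ∃ n₀ : ℕ, ∀ m : ℕ, n₀ ≤ m →
      FlatMod.IsFinLocFree ((Scheme.Modules.pushforward (KRR.pr n T)).obj (KRR.twF n T (m : ℤ) F)) ∧
      FlatMod.IsFinLocFree ((Scheme.Modules.pushforward (KRR.pr n T)).obj (KRR.twF n T (m : ℤ) G)) ∧
      SGA6Ext.cls ((Scheme.Modules.pushforward (KRR.pr n T)).obj (KRR.twF n T (m : ℤ) F)) =
        SGA6Ext.cls ((Scheme.Modules.pushforward (KRR.pr n T)).obj (KRR.twF n T (m : ℤ) G)) := by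
  refine ⟨max (rbound hF) (rbound hG), fun m hm => ?_⟩
  have pF : regP n T (KRR.twF n T (m : ℤ) F) :=
    ⟨isFinLocFree_twF _ hF, rbound_spec hF ((le_max_left _ _).trans hm)⟩
  have pG : regP n T (KRR.twF n T (m : ℤ) G) :=
    ⟨isFinLocFree_twF _ hG, rbound_spec hG ((le_max_right _ _).trans hm)⟩
  refine ⟨isFinLocFree_push pF.1 pF.2, isFinLocFree_push pG.1 pG.2, ?_⟩
  rw [← pushK_cls pF, ← pushK_cls pG, ← twK_cls _ hF, ← twK_cls _ hG, h]

end Groth.Agent.PnReg
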