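import Groth.Agent.PnReg.Pull

/-!
The kernel of the evaluation on a regular sheaf.
-/

set_option autoImplicit false
set_option linter.unusedSectionVars false
set_option linter.style.haveILetI false
set_option backward.isDefEq.respectTransparency false
set_option backward.isDefEq.respectTransparency.types false
set_option maxHeartbeats 1000000

universe u

open CategoryTheory CategoryTheory.Limits AlgebraicGeometry TopologicalSpace Opposite

noncomputable section

namespace Groth.Agent.PnReg

variable {n : ℕ} {T : Scheme.{u}}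

theorem isQCoh_push {F : (CohB1.ProjSpaceOver n T).Modules} (hF : Coh.IsQCoh F) :
    Coh.IsQCoh ((Scheme.Modules.pushforward (KRR.pr n T)).obj F) :=
  haveI := HQProj.isProper_toBase n T
  haveI : F.IsQuasicoherent := hF
  QC.isQCoh_pushforward (M := F) (CohB1.ProjSpaceOver.toBase n T)

/-- The kernel of the evaluation. -/
abbrev Ker (F : (CohB1.ProjSpaceOver n T).Modules) : (CohB1.ProjSpaceOver n T).Modules :=
  kernel ((Scheme.Modules.pullbackPushforwardAdjunction (KRR.pr n T)).counit.app F)

theorem isQCoh_ker {F : (CohB1.ProjSpaceOver n T).Modules} (hF : Coh.IsQCoh F) : Coh.IsQCoh (Ker F) :=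
  QC.isQCoh_kernel (QC.isQCoh_pullback _ (isQCoh_push hF)) hF _

theorem shortExact_ker {F : (CohB1.ProjSpaceOver n T).Modules} (hF : Coh.IsQCoh F) (hreg : KRR.IsRegSheaf n T F) :
    (ShortComplex.mk (kernel.ι ((Scheme.Modules.pullbackPushforwardAdjunction (KRR.pr n T)).counit.app F))
      ((Scheme.Modules.pullbackPushforwardAdjunction (KRR.pr n T)).counit.app F) (kernel.condition _)).ShortExact :=
  haveI := epi_counit hF hreg
  { exact := ShortComplex.exact_kernel _ }

theorem epi_push_counit (F : (CohB1.ProjSpaceOver n T).Modules) :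
    Epi ((Scheme.Modules.pushforward (KRR.pr n T)).map
      ((Scheme.Modules.pullbackPushforwardAdjunction (KRR.pr n T)).counit.app F)) :=
  let adj := Scheme.Modules.pullbackPushforwardAdjunction (KRR.pr n T)
  (SplitEpi.mk (adj.unit.app ((Scheme.Modules.pushforward (KRR.pr n T)).obj F))
    (adj.right_triangle_components F)).epi

theorem isRegSheaf_twF_one_pull {M : T.Modules} (hM : Coh.IsQCoh M) :
    KRR.IsRegSheaf n T (KRR.twF n T 1 ((Scheme.Modules.pullback (KRR.pr n T)).obj M)) := by
  have h := isRegSheaf_twF_pull (n := n) hM 1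
  rwa [Nat.cast_one] at h

theorem isRegSheaf_ker {F : (CohB1.ProjSpaceOver n T).Modules} (hF : Coh.IsQCoh F) (hreg : KRR.IsRegSheaf n T F) :
    KRR.IsRegSheaf n T (KRR.twF n T 1 (Ker F)) := by
  let adj := Scheme.Modules.pullbackPushforwardAdjunction (KRR.pr n T)
  let S := ShortComplex.mk (kernel.ι (adj.counit.app F)) (adj.counit.app F) (kernel.condition _)
  have hS : S.ShortExact := shortExact_ker hF hreg
  have h₁ : Coh.IsQCoh S.X₁ := isQCoh_ker hF
  have h₂ : Coh.IsQCoh S.X₂ := QC.isQCoh_pullback _ (isQCoh_push hF)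
  have r₂ : KRR.IsRegSheaf n T (KRR.twF n T 1 S.X₂) := isRegSheaf_twF_one_pull (isQCoh_push hF)
  have he : Epi ((Scheme.Modules.pushforward (KRR.pr n T)).map S.g) := epi_push_counit F
  have hfin : KRR.IsRegSheaf n T (KRR.twF n T 1 S.X₁) := isRegSheaf_X1 hS h₁ h₂ hF r₂ hreg he
  exact hfin

end Groth.Agent.PnReg
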