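import Groth.Agent.PnReg.Main
import Groth.Agent.TopDegRep.Basic
import Groth.Agent.FlatFunLib.ModCond
import Groth.Agent.ModSiteTensor.Colimit
import Groth.Agent.PerfGen.PnFlat

/-!
Twisted inverse images from the base have no higher cohomology.
-/

set_option autoImplicit false
set_option linter.unusedSectionVars false
set_option linter.style.haveILetI false
set_option backward.isDefEq.respectTransparency false
set_option backward.isDefEq.respectTransparency.types false
set_option maxHeartbeats 1000000

universe u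

open CategoryTheory CategoryTheory.Limits AlgebraicGeometry TopologicalSpace Opposite

noncomputable section

namespace Groth.Agent.PnReg

/-- Cohomology of a finite sum. -/
theorem hh_finite_sigma {X : Scheme.{u}} {J : Type u} [Fintype J] (Z : J → X.Modules) (q : ℕ)
    (h : ∀ i, Subsingleton (Coh.HH X (Z i) q)) : Subsingleton (Coh.HH X (∐ Z) q) := by
  classical
  refine subsingleton_of_forall_eq 0 fun z => ?_
  let π : ∀ t : J, ∐ Z ⟶ Z t := fun t => Sigma.desc fun s => if hs : s = t then eqToHom (by rw [hs]) else 0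
  have hπ : ∑ t : J, π t ≫ Sigma.ι Z t = 𝟙 (∐ Z) := by
    refine Sigma.hom_ext _ _ fun s => ?_
    rw [Preadditive.comp_sum, Category.comp_id, Finset.sum_eq_single s]
    · simp [π]
    · intro t _ ht
      simp [π, Ne.symm ht]
    · simp
  let Φ : (∐ Z ⟶ ∐ Z) →+ Coh.HH X (∐ Z) q :=
    AddMonoidHom.mk' (fun φ => Sheaf.H.map ((SheafOfModules.toSheaf X.ringCatSheaf).map φ) q z) fun φ ψ => by
      rw [Functor.map_add, Sheaf.H.map_add_apply]
  have hz : Φ (𝟙 (∐ Z)) = z := by
    simp only [Φ, AddMonoidHom.mk'_apply, CategoryTheory.Functor.map_id, Sheaf.H.map_id_apply]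
  rw [← hz, ← hπ, map_sum]
  refine Finset.sum_eq_zero fun t _ => ?_
  simp only [Φ, AddMonoidHom.mk'_apply, Functor.map_comp, Sheaf.H.map_comp_apply]
  rw [(h t).elim (Sheaf.H.map ((SheafOfModules.toSheaf X.ringCatSheaf).map (π t)) q z) 0, map_zero]

open CoproductsFromFiniteFiltered in
/-- Cohomology of a qcqs scheme kills coproducts of acyclic modules. -/
theorem hh_sigma {X : Scheme.{u}} [CompactSpace X] [QuasiSeparatedSpace X] {α : Type u} (Z : α → X.Modules)
    (q : ℕ) (h : ∀ i, Subsingleton (Coh.HH X (Z i) q)) : Subsingleton (Coh.HH X (∐ Z) q) := by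
  classical
  haveI : PrespectralSpace X.toTopCat := inferInstanceAs (PrespectralSpace ↥X)
  haveI : QuasiSeparatedSpace X.toTopCat := inferInstanceAs (QuasiSeparatedSpace ↥X)
  haveI : CompactSpace X.toTopCat := inferInstanceAs (CompactSpace ↥X)
  let L := liftToFinsetObj (Discrete.functor Z)
  let e : ∐ Z ≅ colimit L :=
    IsColimit.coconePointUniqueUpToIso (colimit.isColimit (Discrete.functor Z))
      (liftToFinsetColimitCocone (Discrete.functor Z)).isColimit
  refine CohQC.hh_subsingleton_of_iso e.symm q (subsingleton_of_forall_eq 0 fun x => ?_)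
  let E := SheafOfModules.toSheaf.{u} X.ringCatSheaf ⋙
    (Sheaf.cohomologyPresheafFunctor (Opens.grothendieckTopology X) q).flip.obj (op (⊤ : X.Opens))
  haveI : PreservesColimitsOfShape (Finset (Discrete α))
      ((Sheaf.cohomologyPresheafFunctor (Opens.grothendieckTopology X) q).flip.obj (op (⊤ : X.Opens))) :=
    TopQC.preservesColimitsOfShape_HU (X := X.toTopCat) ⊤ isCompact_univ q
  haveI : PreservesColimitsOfShape (Finset (Discrete α)) E := inferInstance
  let w := SiteCoh.huTerminalEquiv (Opens.grothendieckTopology X) isTerminalTop (Coh.toAb (colimit L)) q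
  obtain ⟨J, y, hy⟩ := Concrete.isColimit_exists_rep _ (isColimitOfPreserves E (colimit.isColimit L)) (w x)
  haveI : Subsingleton (Coh.HH X (L.obj J) q) := hh_finite_sigma (fun t : J => (Discrete.functor Z).obj t.val) q fun t => h t.val.as
  haveI : Subsingleton ((forget AddCommGrpCat.{u}).obj ((L ⋙ E).obj J)) :=
    (SiteCoh.huTerminalEquiv (Opens.grothendieckTopology X) isTerminalTop (Coh.toAb (L.obj J)) q).symm.toEquiv.subsingleton
  refine w.injective ?_
  rw [← hy, Subsingleton.elim y (0 : (L ⋙ E).obj J), map_zero, map_zero]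

variable {R : Type u} [CommRing R] {n : ℕ}

/-- Quasi-coherent modules on an affine scheme are quotients of free ones. -/
theorem exists_free_epi' {A : CommRingCat.{u}} {N : (Spec A).Modules} (hN : Coh.IsQCoh N) :
    ∃ (ι : Type u) (π : (∐ fun _ : ι => Coh.structureModule (Spec A)) ⟶ N), Epi π := by
  haveI : N.IsQuasicoherent := hN
  obtain ⟨M, ⟨e⟩⟩ : ∃ M : ModuleCat.{u} A, Nonempty (tilde M ≅ N) := ⟨_, ⟨QC.isoTildeΓ N⟩⟩
  let l : ModuleCat.of A (M →₀ A) ⟶ M := ModuleCat.ofHom (Finsupp.linearCombination (α := M) A (id : M → M))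
  haveI : Epi l := (ModuleCat.epi_iff_surjective _).2 fun m => ⟨Finsupp.single m 1, by simp [l]⟩
  haveI : Epi (tilde.map l) := inferInstanceAs (Epi ((tilde.functor _).map l))
  exact ⟨M, (tildeFinsupp M).inv ≫ tilde.map l ≫ e.hom, inferInstance⟩

theorem exists_free_epi {N : (Spec (CommRingCat.of R)).Modules} (hN : Coh.IsQCoh N) :
    ∃ (ι : Type u) (π : (∐ fun _ : ι => Coh.structureModule (Spec (CommRingCat.of R))) ⟶ N), Epi π :=
  exists_free_epi' hN

/-- Twisted inverse images from an affine base have no cohomology in the good range. -/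
theorem hh_pull (N : (Spec (CommRingCat.of R)).Modules) (hN : Coh.IsQCoh N) (d : ℤ) (hd : -(n : ℤ) ≤ d) :
    ∀ (k q : ℕ), n < q + k → 1 ≤ q → Subsingleton (Coh.HH (CohB1.ProjSpace n R)
      (CohB1.tensorMod ((Scheme.Modules.pullback (CohB1.ProjSpace.toSpec n R)).obj N) (Ot R n d)) q) := by
  intro k
  induction k generalizing N with
  | zero => intro q hq _; exact hh_above _ (isQCoh_twist (QC.isQCoh_pullback _ hN) d) q (by omega)
  | succ k ih =>
    intro q hq h1
    let f := CohB1.ProjSpace.toSpec n R
    haveI : Flat f := (PerfGen.flat_lfp_toSpec n R).1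
    haveI : IsProper f := ProjMor.isProper_toSpec n R
    haveI : CompactSpace (CohB1.ProjSpace n R) := QuasiCompact.compactSpace_of_compactSpace f
    haveI : QuasiSeparatedSpace (CohB1.ProjSpace n R) := quasiSeparatedSpace_of_quasiSeparated f
    obtain ⟨ι, π, hπ⟩ := exists_free_epi hN
    let F₀ := ∐ fun _ : ι => Coh.structureModule (Spec (CommRingCat.of R))
    have hF₀ : Coh.IsQCoh F₀ :=
      (inferInstance : (SheafOfModules.free.{u} (R := (Spec (CommRingCat.of R)).ringCatSheaf) ι).IsQuasicoherent)
    have hK : Coh.IsQCoh (kernel π) := QC.isQCoh_kernel hF₀ hN π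
    let P := Scheme.Modules.pullback f
    have hS : (ShortComplex.mk (kernel.ι π) π (kernel.condition π)).ShortExact :=
      { exact := ShortComplex.exact_kernel π }
    haveI : Mono (P.map (kernel.ι π)) := FlatFunLib.mono_pullback_of_flat f (kernel.ι π)
    have hS' : ((ShortComplex.mk (kernel.ι π) π (kernel.condition π)).map P).ShortExact :=
      ShortComplex.ShortExact.mk' (ShortComplex.exact_of_g_is_cokernel _
        (CokernelCofork.mapIsColimit _ hS.gIsCokernel P)) (inferInstanceAs (Mono (P.map (kernel.ι π))))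
        (inferInstanceAs (Epi (P.map π)))
    refine CohFinite.subsingleton_of_shortExact
      (CohFinite.shortExact_tmap (CohFinite.isInvertible_twist n R d) hS') q ?_ (ih (kernel π) hK (q + 1) (by omega) (by omega))
    let G : (Spec (CommRingCat.of R)).Modules ⥤ (CohB1.ProjSpace n R).Modules :=
      P ⋙ (DCoh.tensorBi (X := CohB1.ProjSpace n R)).flip.obj (Ot R n d)
    haveI : PreservesColimitsOfSize.{u, u} ((DCoh.tensorBi (X := CohB1.ProjSpace n R)).flip.obj (Ot R n d)) :=
      ModSiteTensor.preservesColimits_tensorBi_flip_obj (CohB1.ProjSpace n R).sheaf _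
    haveI : PreservesColimitsOfSize.{u, u} P :=
      (Scheme.Modules.pullbackPushforwardAdjunction f).leftAdjoint_preservesColimits
    refine CohQC.hh_subsingleton_of_iso (PreservesCoproduct.iso G _).symm q ?_
    refine hh_sigma _ q fun _ => ?_
    let c := DerPerf.pullUnitIso f
    exact CohQC.hh_subsingleton_of_iso
      (TMul.leftUnitIso (Ot R n d) ≪≫ Iso.refl _ ≪≫ Iso.refl _).symm q
      (ProjCech.twist_vanish n d q (fun h => by omega) (fun h => by omega)) |> fun h =>
        CohQC.hh_subsingleton_of_iso (PicGrp.tensorModIso c.symm (Iso.refl _)) q h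

theorem reg_pull {N : (Spec (CommRingCat.of R)).Modules} (hN : Coh.IsQCoh N) {m : ℤ} (hm : 0 ≤ m) :
    Reg ((Scheme.Modules.pullback (CohB1.ProjSpace.toSpec n R)).obj N) m := fun q hq => by
  rcases lt_or_ge n q with h | h
  · exact hh_above _ (isQCoh_twist (QC.isQCoh_pullback _ hN) _) q h
  · exact hh_pull N hN (m - q) (by omega) (n + 1) q (by omega) hq

variable {T : Scheme.{u}}

/-- Inverse images from the base are regular in all non-negative twists. -/
theorem isRegSheaf_twF_pull {M : T.Modules} (hM : Coh.IsQCoh M) (m : ℕ) :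
    KRR.IsRegSheaf n T (KRR.twF n T (m : ℤ) ((Scheme.Modules.pullback (KRR.pr n T)).obj M)) :=
  (isRegSheaf_iff (isQCoh_twF _ (QC.isQCoh_pullback _ hM))).2 fun V c => (c.reg_twF (m : ℤ) _).2
    (reg_of_iso
      ((Scheme.Modules.pullbackComp (CohB1.ProjSpace.toSpec n Γ(T, V)) c.aff.fromSpec).app M ≪≫
        (Scheme.Modules.pullbackCongr c.fac.symm).app M ≪≫
          ((Scheme.Modules.pullbackComp c.q (KRR.pr n T)).app M).symm)
      (reg_pull (QC.isQCoh_pullback c.aff.fromSpec hM) (Int.natCast_nonneg m)))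

theorem isRegSheaf_pull {M : T.Modules} (hM : Coh.IsQCoh M) :
    KRR.IsRegSheaf n T ((Scheme.Modules.pullback (KRR.pr n T)).obj M) :=
  (isRegSheaf_iff (QC.isQCoh_pullback _ hM)).2 fun V c => by
    have h := (c.reg_twF ((0 : ℕ) : ℤ) _).1
      ((isRegSheaf_iff (isQCoh_twF _ (QC.isQCoh_pullback _ hM))).1 (isRegSheaf_twF_pull (n := n) hM 0) V c)
    simpa using h

end Groth.Agent.PnReg
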