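import Groth.Agent.PnReg.Push
import Groth.Agent.K0Coh.Basic

set_option autoImplicit false
set_option linter.style.haveILetI false
set_option backward.isDefEq.respectTransparency false
set_option backward.isDefEq.respectTransparency.types false

universe u

open CategoryTheory CategoryTheory.Limits AlgebraicGeometry

noncomputable section

namespace Groth.Agent.PnReg

variable {n : ℕ} {T : Scheme.{u}}

/-- Direct images of high twists of a locally free sheaf are locally free. -/
theorem exists_isFinLocFree_push_twF [IsNoetherian T] {F : (CohB1.ProjSpaceOver n T).Modules}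
    (hF : FlatMod.IsFinLocFree F) : ∃ m₀ : ℕ, ∀ m : ℕ, m₀ ≤ m →
      FlatMod.IsFinLocFree ((Scheme.Modules.pushforward (KRR.pr n T)).obj (KRR.twF n T (m : ℤ) F)) := by
  obtain ⟨n₀, hn₀⟩ := W7Hull.exists_locFree_push_twist n (𝟙 (CohB1.ProjSpaceOver n T)) F
    (K0Coh.isCoh_of_isFinLocFree hF) (by rw [Category.id_comp]; exact isFlatOver_pr hF)
  refine ⟨n₀.toNat, fun m hm => ?_⟩
  have h := hn₀ (m : ℤ) (by omega)
  refine W7Hull.isFinLocFree_of_iso ?_ h
  exact (Scheme.Modules.pushforward _).mapIso
      (PicGrp.tensorModIso (Iso.refl F) ((Scheme.Modules.pullbackId _).app _) ≪≫ twComm (m : ℤ) F) ≪≫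
    (Scheme.Modules.pushforwardCongr (Category.id_comp (KRR.pr n T))).app _

end Groth.Agent.PnReg
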