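import Mathlib.Algebra.Homology.QuasiIso
import Mathlib.Algebra.Homology.Single
import Mathlib.Algebra.Homology.ShortComplex.Abelian
import Mathlib.Algebra.Homology.ShortComplex.ShortExact
import Mathlib.Algebra.Homology.SingleHomology

/-!
Splicing short exact sequences into a resolution.
-/

set_option autoImplicit false
set_option backward.isDefEq.respectTransparency false

open CategoryTheory CategoryTheory.Limits

noncomputable section

namespace Groth.Agent.PnReg.Splice

variable {C : Type*} [Category C] [Abelian C] {X A : ℕ → C} (π : ∀ i, X i ⟶ A i) (ι : ∀ i, A (i + 1) ⟶ X i)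
  (w : ∀ i, ι i ≫ π i = 0)

/-- The spliced complex. -/
def cx : ChainComplex C ℕ :=
  ChainComplex.of X (fun i => π (i + 1) ≫ ι i) fun i => by
    rw [Category.assoc, ← Category.assoc (ι (i + 1)), w, zero_comp, comp_zero]

theorem cx_d (i : ℕ) : (cx π ι w).d (i + 1) i = π (i + 1) ≫ ι i := ChainComplex.of_d X (fun i => π (i + 1) ≫ ι i) i

/-- The augmentation. -/
def aug : cx π ι w ⟶ (ChainComplex.single₀ C).obj (A 0) :=
  ((cx π ι w).toSingle₀Equiv (A 0)).symm ⟨π 0, by rw [cx_d, Category.assoc, w, comp_zero]⟩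

theorem exact_step (hex : ∀ i, (ShortComplex.mk (ι i) (π i) (w i)).ShortExact) (i : ℕ) :
    (ShortComplex.mk (π (i + 1) ≫ ι i) (π i) (by rw [Category.assoc, w, comp_zero])).Exact := by
  haveI := (hex (i + 1)).epi_g
  let φ : ShortComplex.mk (π (i + 1) ≫ ι i) (π i) (by rw [Category.assoc, w, comp_zero]) ⟶
      ShortComplex.mk (ι i) (π i) (w i) :=
    { τ₁ := π (i + 1), τ₂ := 𝟙 _, τ₃ := 𝟙 _ }
  exact (ShortComplex.exact_iff_of_epi_of_isIso_of_mono φ).2 (hex i).exact

theorem quasiIso_aug (hex : ∀ i, (ShortComplex.mk (ι i) (π i) (w i)).ShortExact) : QuasiIso (aug π ι w) := by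
  refine ⟨fun i => ?_⟩
  rcases i with _ | i
  · rw [ChainComplex.quasiIsoAt₀_iff, ShortComplex.quasiIso_iff_of_zeros' _ (by simp) (by simp) (by simp)]
    refine ⟨?_, ?_⟩
    · refine (ShortComplex.exact_iff_of_iso ?_).2 (exact_step π ι w hex 0)
      exact ShortComplex.isoMk (Iso.refl _) (Iso.refl _) (Iso.refl _) (by simp [cx_d]) (by simp [aug])
    · have he : (aug π ι w).f 0 = π 0 := by simp [aug]
      haveI := (hex 0).epi_g
      show Epi ((aug π ι w).f 0)
      rw [he]
      infer_instance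
  · rw [quasiIsoAt_iff_exactAt']
    · rw [HomologicalComplex.exactAt_iff' _ (i + 1 + 1) (i + 1) i (by simp) (by simp)]
      haveI := (hex i).mono_f
      let φ : ShortComplex.mk (π (i + 1 + 1) ≫ ι (i + 1)) (π (i + 1)) (by rw [Category.assoc, w, comp_zero]) ⟶
          (cx π ι w).sc' (i + 1 + 1) (i + 1) i :=
        { τ₁ := 𝟙 _, τ₂ := 𝟙 _, τ₃ := ι i
          comm₁₂ := by simp [cx_d]
          comm₂₃ := by simp [cx_d] }
      haveI : Epi φ.τ₁ := inferInstanceAs (Epi (𝟙 _))
      haveI : IsIso φ.τ₂ := inferInstanceAs (IsIso (𝟙 _))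
      haveI : Mono φ.τ₃ := inferInstanceAs (Mono (ι i))
      exact (ShortComplex.exact_iff_of_epi_of_isIso_of_mono φ).1 (exact_step π ι w hex (i + 1))
    · exact ChainComplex.exactAt_succ_single_obj _ _

end Groth.Agent.PnReg.Splice
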