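import Groth.Agent.PnReg.Resol
import Groth.Agent.PnReg.Splice
import Groth.Agent.PBundle.Local
import Mathlib.Algebra.Homology.Additive

/-!
The resolution of a regular sheaf.
-/

set_option autoImplicit false
set_option linter.unusedSectionVars false
set_option linter.style.haveILetI false
set_option backward.isDefEq.respectTransparency false
set_option backward.isDefEq.respectTransparency.types false
set_option maxHeartbeats 1000000

universe u

open CategoryTheory CategoryTheory.Limits AlgebraicGeometry TopologicalSpace Opposite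

noncomputable section

namespace Groth.Agent.PnReg

variable {n : ℕ} {T : Scheme.{u}}

theorem nonempty_twF_zero (M : (CohB1.ProjSpaceOver n T).Modules) : Nonempty (KRR.twF n T 0 M ≅ M) := by
  obtain ⟨f⟩ := PBundle.nonempty_twistOver_zero n T
  exact ⟨PicGrp.tensorModIso f (Iso.refl M) ≪≫ TMul.leftUnitIso M⟩

theorem nonempty_twF_twF (M : (CohB1.ProjSpaceOver n T).Modules) (a b c : ℤ) (h : a + b = c) :
    Nonempty (KRR.twF n T a (KRR.twF n T b M) ≅ KRR.twF n T c M) := by
  obtain ⟨e⟩ := PBundle.nonempty_twistOver_add n T a b c h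
  exact ⟨(TMul.assocIso _ _ _).symm ≪≫ PicGrp.tensorModIso e (Iso.refl M)⟩

/-- Twisting on the right, as an isomorphism with twF. -/
def twComm (d : ℤ) (M : (CohB1.ProjSpaceOver n T).Modules) :
    CohB1.tensorMod M (Twist.twistOver n T d) ≅ KRR.twF n T d M :=
  TMul.commIso M (Twist.twistOver n T d)

theorem isZero_tensor {X : Scheme.{u}} {M : X.Modules} (hM : IsZero M) (L : X.Modules) :
    IsZero (CohB1.tensorMod M L) :=
  (IsZero.iff_id_eq_zero _).2 (by rw [← CohFinite.tmap_id, (IsZero.iff_id_eq_zero _).1 hM, CohFinite.tmap_zero])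

theorem isZero_twF (d : ℤ) {M : (CohB1.ProjSpaceOver n T).Modules} (hM : IsZero M) : IsZero (KRR.twF n T d M) :=
  (isZero_tensor hM _).of_iso (twComm d M).symm

variable {F : (CohB1.ProjSpaceOver n T).Modules} (hF : Coh.IsQCoh F) (hreg : KRR.IsRegSheaf n T F)

include hF hreg in
theorem isZero_iterK {i : ℕ} (hi : n < i) : IsZero (iterK F i) := by
  obtain ⟨j, rfl⟩ := Nat.exists_eq_add_of_le (Nat.succ_le_of_lt hi)
  induction j with
  | zero => exact isZero_twF 1 (isZero_ker_n hF hreg)
  | succ j ih =>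
    have h : IsZero (iterK F (n.succ + j)) := ih (by omega)
    refine isZero_twF 1 (IsZero.of_mono (kernel.ι _) ?_)
    exact (Scheme.Modules.pullback _).map_isZero ((Scheme.Modules.pushforward _).map_isZero h)

include hF hreg in
theorem exists_resolution :
    ∃ (Tm : ℕ → T.Modules) (L : ChainComplex (KRR.PY n T).Modules ℕ)
      (π : L ⟶ (ChainComplex.single₀ (KRR.PY n T).Modules).obj F),
      (∀ i, Coh.IsQCoh (Tm i)) ∧
      (∀ i, i ≤ n → Nonempty (L.X i ≅ KRR.twF n T (-(i : ℤ)) ((Scheme.Modules.pullback (KRR.pr n T)).obj (Tm i)))) ∧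
      (∀ i, n < i → IsZero (L.X i)) ∧ QuasiIso π := by
  let adj := Scheme.Modules.pullbackPushforwardAdjunction (KRR.pr n T)
  let Tm : ℕ → T.Modules := fun i => (Scheme.Modules.pushforward (KRR.pr n T)).obj (iterK F i)
  let tw : ℕ → (CohB1.ProjSpaceOver n T).Modules := fun i => Twist.twistOver n T (-(i : ℤ))
  let X : ℕ → (CohB1.ProjSpaceOver n T).Modules := fun i =>
    CohB1.tensorMod ((Scheme.Modules.pullback (KRR.pr n T)).obj (Tm i)) (tw i)
  let A : ℕ → (CohB1.ProjSpaceOver n T).Modules := fun i => CohB1.tensorMod (iterK F i) (tw i)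
  let π : ∀ i, X i ⟶ A i := fun i => CohFinite.tmap (adj.counit.app (iterK F i)) (tw i)
  have hshift : ∀ i, Nonempty (A (i + 1) ≅ CohB1.tensorMod (Ker (iterK F i)) (tw i)) := fun i => by
    obtain ⟨e⟩ := PBundle.nonempty_twistOver_add n T 1 (-((i + 1 : ℕ) : ℤ)) (-(i : ℤ)) (by push_cast; ring)
    exact ⟨PicGrp.tensorModIso (twComm 1 _).symm (Iso.refl (tw (i + 1))) ≪≫ TMul.assocIso _ _ _ ≪≫
      PicGrp.tensorModIso (Iso.refl _) e⟩
  let φ : ∀ i, A (i + 1) ≅ CohB1.tensorMod (Ker (iterK F i)) (tw i) := fun i => (hshift i).some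
  let ι : ∀ i, A (i + 1) ⟶ X i := fun i =>
    (φ i).hom ≫ CohFinite.tmap (kernel.ι (adj.counit.app (iterK F i))) (tw i)
  have w : ∀ i, ι i ≫ π i = 0 := fun i => by
    simp only [ι, π, Category.assoc, ← CohFinite.tmap_comp, kernel.condition, CohFinite.tmap_zero, comp_zero]
  have hex : ∀ i, (ShortComplex.mk (ι i) (π i) (w i)).ShortExact := fun i => by
    have h := CohFinite.shortExact_tmap (L := tw i)
      (PicLoc.isInvertible_pullback _ (CohFinite.isInvertible_twist n _ (-(i : ℤ))))
      (shortExact_ker (iterK_spec hF hreg i).1 (iterK_spec hF hreg i).2)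
    refine ShortComplex.shortExact_of_iso ?_ h
    refine ShortComplex.isoMk (φ i).symm (Iso.refl _) (Iso.refl _) ?_ ?_
    · exact ((φ i).inv_hom_id_assoc _).trans (Category.comp_id _).symm
    · exact (Category.id_comp _).trans (Category.comp_id _).symm
  obtain ⟨z⟩ := nonempty_twF_zero F
  let e0 : A 0 ≅ F := twComm _ F ≪≫ eqToIso (by simp [iterK]) ≪≫ z
  haveI : QuasiIso (Splice.aug π ι w) := Splice.quasiIso_aug π ι w hex
  refine ⟨Tm, Splice.cx π ι w, Splice.aug π ι w ≫ (ChainComplex.single₀ _).map e0.hom,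
    fun i => isQCoh_push (iterK_spec hF hreg i).1, fun i _ => ⟨twComm _ _⟩, fun i hi => ?_, inferInstance⟩
  exact isZero_tensor ((Scheme.Modules.pullback _).map_isZero
    ((Scheme.Modules.pushforward _).map_isZero (isZero_iterK hF hreg hi))) _

end Groth.Agent.PnReg
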